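import Cfsg.Agent.Lib.TableRelax.Mono.Seven

/-!
# Overgroups of a frame stabiliser in six dimensions: vocabulary

`Fin 6 → F` with the dot product. The overgroup contains the sign changes of two axes, the even
permutations and the monomial elements coming from diagonal vectors.
-/

set_option autoImplicit false

namespace Cfsg.Agent.FrameSix

open Matrix Cfsg.Agent.TableRelax.Mono

variable {F : Type*} [Field F]

local notation "V" => (Fin 6 → F)
local notation "GG" => ((Fin 6 → F) ≃ₗ[F] (Fin 6 → F))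

/-- The standing hypotheses on an overgroup. -/
structure Six (L : Subgroup GG) : Prop where
  two : (2 : F) ≠ 0
  iso : ∀ g ∈ L, Iso g
  det : ∀ g ∈ L, LinearEquiv.det g = 1
  pair : ∀ i j : Fin 6, R (e i : V) * R (e j) ∈ L
  perm : ∀ σ : Equiv.Perm (Fin 6), Equiv.Perm.sign σ = 1 → (P σ : GG) ∈ L
  diag : ∀ (a b c : Fin 6), a ≠ b → c ≠ a → c ≠ b → ∀ α : F, 2 * α * α = 1 →
    R (α • e a + α • e b : V) * R (e c) ∈ L

/-- The sign change on two axes. -/
def flip (a b : Fin 6) : GG := R (e a) * R (e b)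

theorem R_e_apply' (a : Fin 6) (v : V) (k : Fin 6) : R (e a) v k = if k = a then -v k else v k := by
  rw [R_unit (e_dot_self a), e_dot, Pi.sub_apply, Pi.smul_apply, smul_eq_mul]
  by_cases h : k = a
  · subst h; rw [e_same, if_pos rfl]; ring
  · rw [e_ne h, if_neg h, mul_zero, sub_zero]

theorem flip_coord {a b : Fin 6} (hab : a ≠ b) (v : V) (k : Fin 6) :
    flip a b v k = if k = a ∨ k = b then -v k else v k := by
  rw [flip, LinearEquiv.mul_apply, R_e_apply', R_e_apply']
  by_cases h1 : k = a <;> by_cases h2 : k = b <;> simp [h1, h2, hab, Ne.symm hab]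

theorem flip_sq (a b : Fin 6) (hab : a ≠ b) : flip a b * flip a b = (1 : GG) :=
  pair_sq (e_dot_self a) (e_dot_self b) (e_dot_ne hab)

theorem flip_comm (a b : Fin 6) (hab : a ≠ b) : (flip a b : GG) = flip b a := by
  apply LinearEquiv.ext; intro v; funext k
  rw [flip_coord hab, flip_coord hab.symm]
  simp only [or_comm]

theorem flip_iso (a b : Fin 6) : Iso (flip a b : GG) := (R_iso _).mul (R_iso _)

/-- The coordinates of an element commuting with a flip. -/
theorem zero_of_comm (h2 : (2 : F) ≠ 0) {a b : Fin 6} (hab : a ≠ b) {g : GG}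
    (hc : flip a b * g = g * flip a b) {i k : Fin 6} (hik : ¬ ((i = a ∨ i = b) ↔ (k = a ∨ k = b))) :
    g (e i) k = 0 := by
  have h1 : ((flip a b : GG) * g) (e i) k = (g * (flip a b : GG)) (e i) k := by rw [hc]
  rw [LinearEquiv.mul_apply, LinearEquiv.mul_apply, flip_coord hab] at h1
  have h3 : flip a b (e i : V) = if i = a ∨ i = b then -e i else e i := by
    funext l
    rw [flip_coord hab]
    by_cases hl : l = i
    · subst hl; by_cases hi : l = a ∨ l = b <;> simp [hi]
    · by_cases hi : i = a ∨ i = b <;> by_cases hl' : l = a ∨ l = b <;> simp [hi, hl', e_ne hl]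
  rw [h3] at h1
  by_cases hi : i = a ∨ i = b <;> by_cases hk : k = a ∨ k = b <;>
    simp only [hi, hk, if_true, if_false, map_neg, Pi.neg_apply] at h1
  · exact absurd (iff_of_true hi hk) hik
  · exact (mul_eq_zero.mp (by linear_combination h1 : (2 : F) * g (e i) k = 0)).resolve_left h2
  · exact (mul_eq_zero.mp (by linear_combination -h1 : (2 : F) * g (e i) k = 0)).resolve_left h2
  · exact absurd (iff_of_false hi hk) hik

theorem comm_of_conj {g x : GG} (h : g * x * g⁻¹ = x) : x * g = g * x := by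
  conv_lhs => rw [← h]
  group

theorem conj_flip {g : GG} (hg : Iso g) (a b : Fin 6) :
    g * flip a b * g⁻¹ = R (g (e a)) * R (g (e b)) := R_mul_conj hg _ _

/-- An orthonormal pair on two coordinates gives the flip there. -/
theorem pair_eq_flip {u v : V} (hu : u ⬝ᵥ u = 1) (hv : v ⬝ᵥ v = 1) (huv : u ⬝ᵥ v = 0) {m m' : Fin 6}
    (hm : m ≠ m') (hus : ∀ k, k ≠ m → k ≠ m' → u k = 0) (hvs : ∀ k, k ≠ m → k ≠ m' → v k = 0) :
    R u * R v = flip m m' := by
  apply LinearEquiv.ext; intro w; funext k
  have e1 := dot_two hm hus (w := u)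
  have e2 := dot_two hm hvs (w := v)
  have e3 := dot_two hm hus (w := v)
  have e4 := dot_two hm hus (w := w)
  have e5 := dot_two hm hvs (w := w)
  rw [hu] at e1; rw [hv] at e2; rw [huv] at e3
  rw [pair_dev hu hv huv, flip_coord hm, e4, e5]
  simp only [Pi.sub_apply, Pi.smul_apply, smul_eq_mul]
  set D := u m * v m' - u m' * v m with hD
  have hD2 : D * D = 1 := by
    rw [hD]; linear_combination -e1 - (u m * u m + u m' * u m') * e2 + (u m * v m + u m' * v m') * e3
  have c1 : v m' = D * u m := by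
    rw [hD]; linear_combination v m' * e1 - u m' * e3
  have c2 : v m = -(D * u m') := by
    rw [hD]; linear_combination v m * e1 - u m * e3
  by_cases h1 : k = m
  · subst h1
    simp only [true_or, if_true]
    rw [c1, c2]
    linear_combination (2 * w k) * e1 - (2 * u m' * u m' * w k - 2 * u m' * u k * w m') * hD2
  by_cases h2 : k = m'
  · subst h2
    simp only [or_true, if_true]
    rw [c1, c2]
    linear_combination (2 * w k) * e1 - (2 * u m * u m * w k - 2 * u m * u k * w m) * hD2
  rw [hus k h1 h2, hvs k h1 h2]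
  simp [h1, h2]

/-- A monomial reflection is that of an axis or a diagonal vector. -/
theorem shape_of_R (h2 : (2 : F) ≠ 0) {u : V} (hu : u ⬝ᵥ u = 1) (hm : IsMono (R u : GG)) :
    IsAxis u ∨ IsDiag u := by
  have hN : IsMono (N u : GG) := fun i => by
    obtain ⟨j, c, hj⟩ := hm i
    exact ⟨j, -c, by rw [N_apply, hj, neg_smul]⟩
  obtain ⟨i, hi⟩ : ∃ i, u i ≠ 0 := by
    by_contra h
    push Not at h
    rw [show u = 0 from funext h, zero_dotProduct] at hu
    exact zero_ne_one hu
  obtain ⟨j, hj, hj'⟩ := supp_of_mono h2 (by rw [hu]; exact one_ne_zero) hN hi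
  by_cases hji : j = i
  · left
    refine ⟨i, u i, funext fun l => ?_⟩
    by_cases hl : l = i
    · subst hl; simp [e_same]
    · simp [e_ne hl, hj l hl (hji ▸ hl)]
  · right
    have h1 := hj' hji
    rw [hu, div_one] at h1
    refine ⟨i, j, Ne.symm hji, hu, ?_, hi, hj⟩
    have h3 := dot_two (Ne.symm hji) hj (w := u)
    rw [hu] at h3
    linear_combination h3 - h1

theorem mono_mul {g h : GG} (hg : IsMono g) (hh : IsMono h) : IsMono (g * h) := fun i => by
  obtain ⟨j, c, hj⟩ := hh i
  obtain ⟨k, d, hk⟩ := hg j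
  exact ⟨k, c * d, by rw [LinearEquiv.mul_apply, hj, map_smul, hk, smul_smul]⟩

theorem mono_inv {g : GG} (hgI : Iso g) (hg : IsMono g) : IsMono g⁻¹ := by
  choose π c hπ using hg
  have hinj : Function.Injective π := fun i i' h => mono_inj hgI (hπ i) (h ▸ hπ i')
  intro j
  obtain ⟨i, rfl⟩ := Finite.injective_iff_surjective.mp hinj j
  refine ⟨i, c i, g.injective ?_⟩
  rw [map_smul, hπ, smul_smul, mono_pair hgI (hπ i), one_smul]
  exact LinearEquiv.apply_symm_apply g _

theorem mono_P (σ : Equiv.Perm (Fin 6)) : IsMono (P σ : GG) := fun i =>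
  ⟨σ i, 1, by rw [P_e, one_smul]⟩

theorem mono_R_e (a : Fin 6) : IsMono (R (e a : V) : GG) := fun i => by
  refine ⟨i, if i = a then -1 else 1, funext fun k => ?_⟩
  rw [R_e_apply', Pi.smul_apply, smul_eq_mul]
  by_cases hk : k = i
  · subst hk; by_cases h : k = a <;> simp [h, e_same]
  · by_cases h : k = a
    · rw [if_pos h, e_ne hk]; simp
    · rw [if_neg h, e_ne hk]; simp

theorem mono_flip (a b : Fin 6) : IsMono (flip a b : GG) := mono_mul (mono_R_e a) (mono_R_e b)

/-- A monomial element carries a flip to a flip. -/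
theorem mono_conj {g : GG} (hgI : Iso g) (hg : IsMono g) {a b : Fin 6} (hab : a ≠ b) :
    ∃ a' b', a' ≠ b' ∧ g * flip a b * g⁻¹ = flip a' b' := by
  obtain ⟨a', c, ha⟩ := hg a
  obtain ⟨b', d, hb⟩ := hg b
  refine ⟨a', b', fun h => hab (mono_inj hgI ha (h ▸ hb)), ?_⟩
  have hc : c ≠ 0 := fun h => by simpa [h] using mono_pair hgI ha
  have hd : d ≠ 0 := fun h => by simpa [h] using mono_pair hgI hb
  rw [conj_flip hgI, ha, hb, R_smul hc, R_smul hd, flip]

theorem P_conj_flip (σ : Equiv.Perm (Fin 6)) (a b : Fin 6) :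
    P σ * flip a b * (P σ : GG)⁻¹ = flip (σ a) (σ b) := by
  rw [conj_flip (P_iso σ), P_e, P_e, flip]

namespace Six

variable {L : Subgroup ((Fin 6 → F) ≃ₗ[F] (Fin 6 → F))} (h : Six L)

include h

theorem flip_mem (a b : Fin 6) : flip a b ∈ L := h.pair a b

theorem conj_mem {g x : GG} (hg : g ∈ L) (hx : x ∈ L) : g * x * g⁻¹ ∈ L :=
  L.mul_mem (L.mul_mem hg hx) (L.inv_mem hg)

/-- A diagonal vector paired with an axis off its support. -/
theorem diag_mem {u : V} (hu : u ⬝ᵥ u = 1) {a b : Fin 6} (hab : a ≠ b)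
    (hus : ∀ k, k ≠ a → k ≠ b → u k = 0) (hsq : u a * u a = u b * u b) {c : Fin 6}
    (hca : c ≠ a) (hcb : c ≠ b) : R u * R (e c) ∈ L := by
  have hval := (diag_val hab hu hsq hus).1
  have hu' : u = u a • e a + u b • e b := funext fun k => by
    rw [Pi.add_apply, Pi.smul_apply, Pi.smul_apply, smul_eq_mul, smul_eq_mul]
    by_cases h1 : k = a
    · subst h1; rw [e_same, e_ne hab]; ring
    by_cases h2 : k = b
    · subst h2; rw [e_same, e_ne hab.symm]; ring
    · rw [hus k h1 h2, e_ne h1, e_ne h2]; ring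
  have hd := h.diag a b c hab hca hcb (u a) hval
  rcases mul_self_eq_mul_self_iff.mp hsq with hb | hb
  · rw [hu', ← hb]; exact hd
  · have hm := h.conj_mem (h.flip_mem b c) hd
    rw [R_mul_conj (flip_iso b c)] at hm
    have e1 : flip b c (u a • e a + u a • e b : V) = u := funext fun k => by
      rw [flip_coord (Ne.symm hcb), hu', Pi.add_apply, Pi.add_apply]
      simp only [Pi.smul_apply, smul_eq_mul]
      by_cases h1 : k = a
      · subst h1; simp [e_same, e_ne hab, Ne.symm hca, hab]
      by_cases h2 : k = b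
      · subst h2; simp [e_same, e_ne hab, e_ne h1, hb, Ne.symm hcb]
      · simp [e_ne h1, e_ne h2]
    have e2 : flip b c (e c : V) = -e c := funext fun k => by
      rw [flip_coord (Ne.symm hcb)]
      by_cases h1 : k = c
      · subst h1; simp
      · simp [e_ne h1]
    rwa [e1, e2, R_neg] at hm

end Six

end Cfsg.Agent.FrameSix
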