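import Cfsg.Agent.Lib.FrameSix.Planes

/-!
# Only monomial elements move a sign change to a monomial element

If only monomial elements of the overgroup send an axis to an axis and an element carries the sign
change on two axes to a monomial element, then it is monomial.
-/

set_option autoImplicit false

namespace Cfsg.Agent.FrameSix

open Matrix Cfsg.Agent.TableRelax.Mono

variable {F : Type*} [Field F]

local notation "V" => (Fin 6 → F)
local notation "GG" => ((Fin 6 → F) ≃ₗ[F] (Fin 6 → F))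

theorem dot_six (u v : V) :
    u ⬝ᵥ v = u 0 * v 0 + u 1 * v 1 + u 2 * v 2 + u 3 * v 3 + u 4 * v 4 + u 5 * v 5 :=
  Fin.sum_univ_six _

/-- The data of a monomial reflection pair. -/
structure PairData (u v : Fin 6 → F) (π : Fin 6 → Fin 6) (c : Fin 6 → F) : Prop where
  hu : u ⬝ᵥ u = 1
  hv : v ⬝ᵥ v = 1
  huv : u ⬝ᵥ v = 0
  hπ : ∀ i, (R u * R v) (e i) = c i • e (π i)

namespace PairData

variable {u v : Fin 6 → F} {π : Fin 6 → Fin 6} {c : Fin 6 → F} (d : PairData u v π c)

include d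

theorem hI : Iso (R u * R v) := (R_iso u).mul (R_iso v)

theorem hsq : (R u * R v) * (R u * R v) = 1 := pair_sq d.hu d.hv d.huv

theorem csq (i : Fin 6) : c i * c i = 1 := mono_pair d.hI (d.hπ i)

theorem back (i : Fin 6) : π (π i) = i := by
  have h2 := (d.hπ (π i)).symm.trans (mono_back d.hI d.hsq (d.hπ i))
  by_contra hne
  have h3 := congrFun h2 i
  rw [Pi.smul_apply, Pi.smul_apply, e_same, e_ne (Ne.symm hne), smul_zero, smul_eq_mul, mul_one] at h3
  exact one_ne_zero (α := F) (by rw [← d.csq i, ← h3, mul_zero])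

/-- The coordinates of the pair at a point and at another. -/
theorem eqn (i k : Fin 6) :
    c i * e (π i) k = e (F := F) i k - 2 * u i * u k - 2 * v i * v k := by
  have h1 := congrFun (d.hπ i) k
  rw [pair_dev d.hu d.hv d.huv, dot_e, dot_e] at h1
  simpa [smul_eq_mul] using h1.symm

theorem half {i : Fin 6} (hi : π i ≠ i) : 2 * (u i * u i + v i * v i) = 1 := by
  have h1 := d.eqn i i
  rw [e_same, e_ne (Ne.symm hi), mul_zero] at h1
  linear_combination h1

theorem fixed {i : Fin 6} (hi : π i = i) : c i = 1 - 2 * (u i * u i + v i * v i) := by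
  have h1 := d.eqn i i
  rw [hi, e_same, mul_one] at h1
  linear_combination h1

theorem zero_of_one (h2 : (2 : F) ≠ 0) {i : Fin 6} (hi : π i = i) (hc : c i = 1) :
    u i = 0 ∧ v i = 0 := by
  have h1 := d.hπ i
  rw [pair_dev d.hu d.hv d.huv, dot_e, dot_e, hc, hi, one_smul] at h1
  have e1 : (2 * u i) • u + (2 * v i) • v = 0 := by
    linear_combination (norm := module) -h1
  have g1 := congrArg (fun z => z ⬝ᵥ u) e1
  have g2 := congrArg (fun z => z ⬝ᵥ v) e1
  simp only [add_dotProduct, smul_dotProduct, zero_dotProduct, d.hu, d.hv, d.huv,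
    (show v ⬝ᵥ u = 0 by rw [dotProduct_comm]; exact d.huv), smul_eq_mul, mul_one, mul_zero,
    add_zero, zero_add] at g1 g2
  exact ⟨(mul_eq_zero.mp g1).resolve_left h2, (mul_eq_zero.mp g2).resolve_left h2⟩

theorem zero_or_neg (h2 : (2 : F) ≠ 0) {i : Fin 6} (hi : π i = i) :
    (u i = 0 ∧ v i = 0) ∨ u i * u i + v i * v i = 1 := by
  rcases mul_self_eq_one_iff.mp (d.csq i) with h | h
  · exact Or.inl (d.zero_of_one h2 hi h)
  · refine Or.inr (mul_left_cancel₀ h2 ?_)
    have := d.fixed hi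
    linear_combination this - h

theorem two_neg (h2 : (2 : F) ≠ 0) {m m' : Fin 6} (hne : m ≠ m') (hm : π m = m) (hm' : π m' = m')
    (f : u m * u m + v m * v m = 1) (f' : u m' * u m' + v m' * v m' = 1) {k : Fin 6} (hk : k ≠ m)
    (hk' : k ≠ m') : u k = 0 ∧ v k = 0 := by
  have a1 := d.eqn m m'
  have a2 := d.eqn m k
  have a3 := d.eqn m' k
  rw [hm, e_ne hne.symm, mul_zero] at a1
  rw [hm, e_ne hk, mul_zero] at a2
  rw [hm', e_ne hk', mul_zero] at a3
  have half : ∀ t : F, 2 * t = 0 → t = 0 := fun t ht => (mul_eq_zero.mp ht).resolve_left h2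
  exact two_orth (by rw [f]; exact one_ne_zero) (by rw [f']; exact one_ne_zero)
    (half (u m * u m' + v m * v m') (by linear_combination a1))
    (half (u m * u k + v m * v k) (by linear_combination a2))
    (half (u m' * u k + v m' * v k) (by linear_combination a3))

end PairData

theorem pairData_conj {u v : V} {π : Fin 6 → Fin 6} {c : Fin 6 → F} (d : PairData u v π c)
    (σ : Equiv.Perm (Fin 6)) :
    PairData (P σ u) (P σ v) (fun i => σ (π (σ.symm i))) (fun i => c (σ.symm i)) := by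
  refine ⟨by rw [P_iso σ, d.hu], by rw [P_iso σ, d.hv], by rw [P_iso σ, d.huv], fun i => ?_⟩
  rw [← R_mul_conj (P_iso σ), LinearEquiv.mul_apply, LinearEquiv.mul_apply]
  have e1 : (P σ : GG)⁻¹ (e i) = e (σ.symm i) := by
    apply (P σ : GG).injective
    rw [P_e, Equiv.apply_symm_apply]
    exact LinearEquiv.apply_symm_apply _ _
  rw [e1, d.hπ, map_smul, P_e]

namespace Six

variable {L : Subgroup ((Fin 6 → F) ≃ₗ[F] (Fin 6 → F))} (h : Six L) (hA : AxisRigid L)

include h hA

/-- An element commuting with the image of a flip pulls back to a monomial one. -/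
theorem pull_back {x : GG} (hx : x ∈ L) {a b : Fin 6} (hab : a ≠ b) {y : GG} (hy : y ∈ L)
    (hc : (R (x (e a)) * R (x (e b))) * y = y * (R (x (e a)) * R (x (e b)))) :
    flip a b * (x⁻¹ * y * x) = x⁻¹ * y * x * flip a b ∧ IsMono (x⁻¹ * y * x) := by
  have hcc : flip a b * (x⁻¹ * y * x) = x⁻¹ * y * x * flip a b := by
    rw [← conj_flip (h.iso x hx)] at hc
    calc flip a b * (x⁻¹ * y * x) = x⁻¹ * (x * flip a b * x⁻¹ * y) * x := by group
      _ = x⁻¹ * (y * (x * flip a b * x⁻¹)) * x := by rw [hc]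
      _ = _ := by group
  exact ⟨hcc, h.comm_mono hA (L.mul_mem (L.mul_mem (L.inv_mem hx) hy) hx) hab hcc⟩

/-- A monomial element fixing the first column permutes the columns up to sign. -/
theorem column {x : GG} (hx : x ∈ L) {a : Fin 6} {y : GG} (hy : y ∈ L)
    (hfix : y (x (e a)) = x (e a)) (b : Fin 6) : ∃ (l : Fin 6) (t : F), y (x (e b)) = t • x (e l) := by
  have hm : IsMono (x⁻¹ * y * x) := h.mono_of_fix hA
    (L.mul_mem (L.mul_mem (L.inv_mem hx) hy) hx) (i := a) (by
      rw [LinearEquiv.mul_apply, LinearEquiv.mul_apply, hfix]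
      exact LinearEquiv.symm_apply_apply x _)
  obtain ⟨l, t, hl⟩ := hm b
  refine ⟨l, t, ?_⟩
  rw [← map_smul, ← hl, LinearEquiv.mul_apply, LinearEquiv.mul_apply]
  exact (LinearEquiv.apply_symm_apply x _).symm

/-- Two columns on disjoint pairs cannot be carried to a double transposition. -/
theorem no_diag {x : GG} (hx : x ∈ L) {a b : Fin 6} {q q' w : Fin 6} (hqq : q ≠ q') (hqw : q ≠ w)
    (hq'w : q' ≠ w) (hu : ∀ k, k = q ∨ k = q' ∨ k = w → x (e a) k = 0)
    (hv : ∀ k, k ≠ q → k ≠ q' → x (e b) k = 0) (hq : x (e b) q ≠ 0) (hq' : x (e b) q' ≠ 0) :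
    False := by
  have hI := h.iso x hx
  set σ : Equiv.Perm (Fin 6) := Equiv.swap q w * Equiv.swap q q' with hσdef
  have hσ : Equiv.Perm.sign σ = 1 := by
    rw [hσdef, map_mul, Equiv.Perm.sign_swap hqw, Equiv.Perm.sign_swap hqq]; rfl
  have σq : σ q = q' := by
    rw [hσdef, Equiv.Perm.mul_apply, Equiv.swap_apply_left,
      Equiv.swap_apply_of_ne_of_ne hqq.symm hq'w]
  have σq' : σ q' = w := by
    rw [hσdef, Equiv.Perm.mul_apply, Equiv.swap_apply_right, Equiv.swap_apply_left]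
  have σw : σ w = q := by
    rw [hσdef, Equiv.Perm.mul_apply, Equiv.swap_apply_of_ne_of_ne hqw.symm hq'w.symm,
      Equiv.swap_apply_right]
  have σk : ∀ k, k ≠ q → k ≠ q' → k ≠ w → σ k = k := fun k k1 k2 k3 => by
    rw [hσdef, Equiv.Perm.mul_apply, Equiv.swap_apply_of_ne_of_ne k1 k2,
      Equiv.swap_apply_of_ne_of_ne k1 k3]
  have hfix : P σ (x (e a)) = x (e a) := funext fun k => by
    obtain ⟨l, rfl⟩ := σ.surjective k
    rw [P_apply, Equiv.symm_apply_apply]
    by_cases l1 : l = q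
    · subst l1; rw [σq, hu _ (Or.inl rfl), hu _ (Or.inr (Or.inl rfl))]
    by_cases l2 : l = q'
    · subst l2; rw [σq', hu _ (Or.inr (Or.inl rfl)), hu _ (Or.inr (Or.inr rfl))]
    by_cases l3 : l = w
    · subst l3; rw [σw, hu _ (Or.inr (Or.inr rfl)), hu _ (Or.inl rfl)]
    rw [σk l l1 l2 l3]
  obtain ⟨l, t, hl⟩ := h.column hA hx (h.perm σ hσ) hfix b
  have c0 : P σ (x (e b)) q' = x (e b) q := by
    rw [P_apply, σ.symm_apply_eq.mpr σq.symm]
  have c1 : P σ (x (e b)) w = x (e b) q' := by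
    rw [P_apply, σ.symm_apply_eq.mpr σq'.symm]
  have c2 : P σ (x (e b)) q = x (e b) w := by
    rw [P_apply, σ.symm_apply_eq.mpr σw.symm]
  have hw0 := hv w hqw.symm hq'w.symm
  by_cases hlb : l = b
  · subst hlb
    have := congrFun hl w
    rw [c1, Pi.smul_apply, hw0, smul_zero] at this
    exact hq' this
  · have hdot : x (e b) ⬝ᵥ P σ (x (e b)) = 0 := by
      rw [hl, dotProduct_smul, hI, e_dot_ne (Ne.symm hlb), smul_zero]
    rw [dot_two hqq hv, c0, c2, hw0, mul_zero, zero_add] at hdot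
    exact mul_ne_zero hq' hq hdot

/-- A flip is not carried to a double transposition. -/
theorem double_std {x : GG} (hx : x ∈ L) {a b : Fin 6} (hab : a ≠ b) {π : Fin 6 → Fin 6}
    {cs : Fin 6 → F} (d : PairData (x (e a)) (x (e b)) π cs) (h0 : π 0 = 1) (h2' : π 2 = 3) :
    IsMono x := by
  have hI := h.iso x hx
  have h2 := h.two
  have b1 : π 1 = 0 := h0 ▸ d.back 0
  have b3 : π 3 = 2 := h2' ▸ d.back 2
  have n0 := d.half (i := 0) (by rw [h0]; decide)
  have n1 := d.half (i := 1) (by rw [b1]; decide)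
  have n2 := d.half (i := 2) (by rw [h2']; decide)
  have n3 := d.half (i := 3) (by rw [b3]; decide)
  have hp4 : π 4 = 4 ∨ π 4 = 5 := by
    have hex : ∀ k : Fin 6, k = 0 ∨ k = 1 ∨ k = 2 ∨ k = 3 ∨ k = 4 ∨ k = 5 := by decide
    rcases hex (π 4) with e1 | e1 | e1 | e1 | e1 | e1
    · exact absurd ((d.back 4).symm.trans (by rw [e1, h0])) (by decide)
    · exact absurd ((d.back 4).symm.trans (by rw [e1, b1])) (by decide)
    · exact absurd ((d.back 4).symm.trans (by rw [e1, h2'])) (by decide)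
    · exact absurd ((d.back 4).symm.trans (by rw [e1, b3])) (by decide)
    · exact Or.inl e1
    · exact Or.inr e1
  have hu := d.hu; have hv := d.hv
  rw [dot_six] at hu hv
  rcases hp4 with f4 | f4
  swap
  · have f5 : π 5 = 4 := f4 ▸ d.back 4
    have n4 := d.half (i := 4) (by rw [f4]; decide)
    have n5 := d.half (i := 5) (by rw [f5]; decide)
    exact absurd (by linear_combination 2 * hu + 2 * hv - n0 - n1 - n2 - n3 - n4 - n5 : (2 : F) = 0) h2
  have f5 : π 5 = 5 := by
    have hex : ∀ k : Fin 6, k = 0 ∨ k = 1 ∨ k = 2 ∨ k = 3 ∨ k = 4 ∨ k = 5 := by decide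
    rcases hex (π 5) with e1 | e1 | e1 | e1 | e1 | e1
    · exact absurd ((d.back 5).symm.trans (by rw [e1, h0])) (by decide)
    · exact absurd ((d.back 5).symm.trans (by rw [e1, b1])) (by decide)
    · exact absurd ((d.back 5).symm.trans (by rw [e1, h2'])) (by decide)
    · exact absurd ((d.back 5).symm.trans (by rw [e1, b3])) (by decide)
    · exact absurd ((d.back 5).symm.trans (by rw [e1, f4])) (by decide)
    · exact e1
  set u := x (e a) with hudef
  set v := x (e b) with hvdef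
  have z45 : (u 4 = 0 ∧ v 4 = 0) ∧ (u 5 = 0 ∧ v 5 = 0) := by
    have key : 2 * (u 4 * u 4 + v 4 * v 4 + (u 5 * u 5 + v 5 * v 5)) = 0 := by
      linear_combination 2 * hu + 2 * hv - n0 - n1 - n2 - n3
    rcases d.zero_or_neg h2 f4 with z4 | z4 <;> rcases d.zero_or_neg h2 f5 with z5 | z5
    · exact ⟨z4, z5⟩
    · rw [z4.1, z4.2, z5] at key; exact absurd (by linear_combination key : (2 : F) = 0) h2
    · rw [z4, z5.1, z5.2] at key; exact absurd (by linear_combination key : (2 : F) = 0) h2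
    · rw [z4, z5] at key
      exact absurd (by linear_combination key : (2 : F) * 2 = 0) (mul_ne_zero h2 h2)
  obtain ⟨⟨zu4, zv4⟩, zu5, zv5⟩ := z45
  obtain ⟨s, hsdef⟩ : ∃ s : GG, s = R u * R v := ⟨_, rfl⟩
  set c := cs 0 with hc
  set c' := cs 2 with hc'
  have s0 : s (e 0) = c • e 1 := by rw [hsdef, d.hπ 0, h0]
  have s2 : s (e 2) = c' • e 3 := by rw [hsdef, d.hπ 2, h2']
  have hsI : Iso s := hsdef ▸ d.hI
  have hs2 : s * s = 1 := hsdef ▸ d.hsq
  have s1 := mono_back hsI hs2 s0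
  have s3 := mono_back hsI hs2 s2
  have hcc : c * c = 1 := d.csq 0
  have hcc' : c' * c' = 1 := d.csq 2
  have sneg : ∀ z : V, s z = -z → z 1 = -(c * z 0) ∧ z 3 = -(c' * z 2) := fun z hz => by
    have k0 := hsI z (e 0)
    have k2 := hsI z (e 2)
    rw [hz, s0, neg_dotProduct, dotProduct_smul, dot_e, dot_e, smul_eq_mul] at k0
    rw [hz, s2, neg_dotProduct, dotProduct_smul, dot_e, dot_e, smul_eq_mul] at k2
    exact ⟨by linear_combination -c * k0 - z 1 * hcc, by linear_combination -c' * k2 - z 3 * hcc'⟩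
  have su : s u = -u := by
    rw [hsdef, pair_dev d.hu d.hv d.huv, d.hu, dotProduct_comm v u, d.huv]; module
  have sv : s v = -v := by
    rw [hsdef, pair_dev d.hu d.hv d.huv, d.hv, d.huv]; module
  obtain ⟨u1, u3⟩ := sneg u su
  obtain ⟨v1, v3⟩ := sneg v sv
  have half : ∀ {t : F}, 2 * t = 0 → t = 0 := fun {t} ht => (mul_eq_zero.mp ht).resolve_left h2
  have huu : 2 * (u 0 * u 0 + u 2 * u 2) = 1 := by
    rw [zu4, zu5, u1, u3] at hu
    linear_combination hu - (u 0 * u 0) * hcc - (u 2 * u 2) * hcc'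
  have hvv : 2 * (v 0 * v 0 + v 2 * v 2) = 1 := by
    rw [zv4, zv5, v1, v3] at hv
    linear_combination hv - (v 0 * v 0) * hcc - (v 2 * v 2) * hcc'
  have huv : u 0 * v 0 + u 2 * v 2 = 0 := by
    have := d.huv
    rw [dot_six, zu4, zu5, u1, u3, v1, v3] at this
    exact half (by linear_combination this - (u 0 * v 0) * hcc - (u 2 * v 2) * hcc')
  have hcr : s * flip 0 1 = flip 0 1 * s := ext_e fun k => by
    have ha : ∀ i : Fin 6, flip 0 1 (e i : V) = if i = 0 ∨ i = 1 then -e i else e i := fun i => by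
      funext l
      rw [flip_coord (by decide)]
      by_cases hl : l = i
      · subst hl; by_cases hi : l = 0 ∨ l = 1 <;> simp [hi]
      · by_cases hi : i = 0 ∨ i = 1 <;> by_cases hl' : l = 0 ∨ l = 1 <;> simp [hi, hl', e_ne hl]
    have s4 : s (e 4) = cs 4 • e 4 := by rw [hsdef, d.hπ 4, f4]
    have s5 : s (e 5) = cs 5 • e 5 := by rw [hsdef, d.hπ 5, f5]
    rw [LinearEquiv.mul_apply, LinearEquiv.mul_apply, ha]
    fin_cases k
    · simp [s0, map_smul, ha]
    · simp [s1, map_smul, ha]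
    · simp [s2, map_smul, ha]
    · simp [s3, map_smul, ha]
    · simp [s4, map_smul, ha]
    · simp [s5, map_smul, ha]
  obtain ⟨hrc, hrm⟩ := h.pull_back hA hx hab (h.flip_mem 0 1) (by rw [← hudef, ← hvdef, ← hsdef]; exact hcr)
  obtain ⟨l, t, hl⟩ := hrm a
  have hru : flip 0 1 u = t • x (e l) := by
    rw [← map_smul, ← hl, LinearEquiv.mul_apply, LinearEquiv.mul_apply]
    exact (LinearEquiv.apply_symm_apply x _).symm
  have ru0 : flip 0 1 u 0 = -u 0 := by rw [flip_coord (by decide)]; simp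
  have ru2 : flip 0 1 u 2 = u 2 := by rw [flip_coord (by decide)]; simp
  have hlab : l = a ∨ l = b := by
    by_contra hn
    have h3 := zero_of_comm h2 hab hrc (i := a) (k := l) (by simp [hn])
    rw [hl, Pi.smul_apply, e_same, smul_eq_mul, mul_one] at h3
    have := mono_pair (h.iso _ (L.mul_mem (L.mul_mem (L.inv_mem hx) (h.flip_mem 0 1)) hx)) hl
    rw [h3, mul_zero] at this
    exact zero_ne_one this
  have hcases : u 0 = 0 ∨ u 2 = 0 ∨ 4 * (u 0 * u 0) = 1 := by
    rcases hlab with rfl | rfl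
    · have e0 := congrFun hru 0
      have e2 := congrFun hru 2
      rw [ru0, Pi.smul_apply, ← hudef, smul_eq_mul] at e0
      rw [ru2, Pi.smul_apply, ← hudef, smul_eq_mul] at e2
      have : u 0 * u 2 = 0 := half (by linear_combination -u 2 * e0 + u 0 * e2)
      rcases mul_eq_zero.mp this with h' | h'
      · exact Or.inl h'
      · exact Or.inr (Or.inl h')
    · have hd : u ⬝ᵥ flip 0 1 u = 0 := by rw [hru, dotProduct_smul, hudef, hI, e_dot_ne hab, smul_zero]
      rw [dot_six] at hd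
      simp [flip_coord (by decide : (0 : Fin 6) ≠ 1)] at hd
      rw [zu4, zu5, u1, u3] at hd
      exact Or.inr (Or.inr (by linear_combination huu - hd - (u 0 * u 0) * hcc + (u 2 * u 2) * hcc'))
  have hnz : ∀ {t : F}, 2 * (t * t) = 1 → t ≠ 0 := fun ht h0 => by
    rw [h0, mul_zero, mul_zero] at ht; exact zero_ne_one ht
  have hcne : c ≠ 0 := fun h0 => by rw [h0, mul_zero] at hcc; exact zero_ne_one hcc
  have hcne' : c' ≠ 0 := fun h0 => by rw [h0, mul_zero] at hcc'; exact zero_ne_one hcc'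
  rcases hcases with hu0 | hu2 | hquad
  · exfalso
    have hu2ne : u 2 ≠ 0 := hnz (by rw [hu0] at huu; linear_combination huu)
    have hv2 : v 2 = 0 := (mul_eq_zero.mp (by rw [hu0] at huv; linear_combination huv)).resolve_left hu2ne
    have hv0 : v 0 ≠ 0 := hnz (by rw [hv2] at hvv; linear_combination hvv)
    refine h.no_diag hA hx (a := a) (b := b) (q := 0) (q' := 1) (w := 4) (by decide) (by decide) (by decide)
      ?_ ?_ hv0 (by rw [← hvdef, v1]; exact neg_ne_zero.mpr (mul_ne_zero hcne hv0))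
    · rintro k (rfl | rfl | rfl)
      · exact hu0
      · rw [← hudef, u1, hu0, mul_zero, neg_zero]
      · exact zu4
    · intro k k0 k1
      fin_cases k
      · exact absurd rfl k0
      · exact absurd rfl k1
      · exact hv2
      · simp [← hvdef, v3, hv2]
      · exact zv4
      · exact zv5
  · exfalso
    have hu0ne : u 0 ≠ 0 := hnz (by rw [hu2] at huu; linear_combination huu)
    have hv0 : v 0 = 0 := (mul_eq_zero.mp (by rw [hu2] at huv; linear_combination huv)).resolve_left hu0ne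
    have hv2 : v 2 ≠ 0 := hnz (by rw [hv0] at hvv; linear_combination hvv)
    refine h.no_diag hA hx (a := a) (b := b) (q := 2) (q' := 3) (w := 4) (by decide) (by decide) (by decide)
      ?_ ?_ hv2 (by rw [← hvdef, v3]; exact neg_ne_zero.mpr (mul_ne_zero hcne' hv2))
    · rintro k (rfl | rfl | rfl)
      · exact hu2
      · rw [← hudef, u3, hu2, mul_zero, neg_zero]
      · exact zu4
    · intro k k0 k1
      fin_cases k
      · exact hv0
      · simp [← hvdef, v1, hv0]
      · exact absurd rfl k0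
      · exact absurd rfl k1
      · exact zv4
      · exact zv5
  -- the four columns on the first four coordinates
  have n0' : 4 * (v 0 * v 0) = 1 := by linear_combination 2 * n0 - hquad
  have q2 : 4 * (u 2 * u 2) = 1 := by linear_combination 2 * huu - hquad
  have hv0 : v 0 ≠ 0 := fun h0 => by rw [h0] at n0'; simp at n0'
  have hu0 : u 0 ≠ 0 := fun h0 => by rw [h0] at hquad; simp at hquad
  have hv2 : v 2 ≠ 0 := fun h0 => by
    rw [h0] at huv; exact mul_ne_zero hu0 hv0 (by linear_combination huv)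
  have key : ∀ r : Fin 6, r = 2 ∨ r = 3 → ∃ y ∈ L, y u = u ∧
      ∀ k, y v k = if k = 0 ∨ k = r then -(v k) else v k := by
    intro r hr
    have hr0 : r ≠ 0 := by rcases hr with rfl | rfl <;> decide
    set σ : Equiv.Perm (Fin 6) := Equiv.swap 0 r * Equiv.swap 4 5 with hσdef
    have hσ : Equiv.Perm.sign σ = 1 := by rcases hr with rfl | rfl <;> decide
    have hsq : u r * u r = u 0 * u 0 := by
      rcases hr with rfl | rfl
      · exact mul_left_cancel₀ (mul_ne_zero h2 h2) (by linear_combination q2 - hquad)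
      · rw [u3]
        exact mul_left_cancel₀ (mul_ne_zero h2 h2)
          (by linear_combination (4 * (u 2 * u 2)) * hcc' + q2 - hquad)
    have hprod : u 0 * v 0 + u r * v r = 0 := by
      rcases hr with rfl | rfl
      · exact huv
      · rw [u3, v3]; linear_combination huv + (u 2 * v 2) * hcc'
    have hσs : σ.symm = σ := by
      rcases hr with rfl | rfl <;> decide
    have hσ0 : σ 0 = r ∧ σ r = 0 ∧ σ 4 = 5 ∧ σ 5 = 4 := by
      rcases hr with rfl | rfl <;> decide
    have hσk : ∀ k, k ≠ 0 → k ≠ r → k ≠ 4 → k ≠ 5 → σ k = k := by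
      rcases hr with rfl | rfl <;> decide
    rcases mul_self_eq_mul_self_iff.mp hsq with hur | hur
    · refine ⟨P σ, h.perm σ hσ, funext fun k => ?_, fun k => ?_⟩
      · rw [P_apply, hσs]
        by_cases k0 : k = 0
        · subst k0; rw [hσ0.1, hur]
        by_cases kr : k = r
        · subst kr; rw [hσ0.2.1, hur]
        by_cases k4 : k = 4
        · subst k4; rw [hσ0.2.2.1, zu4, zu5]
        by_cases k5 : k = 5
        · subst k5; rw [hσ0.2.2.2, zu4, zu5]
        rw [hσk k k0 kr k4 k5]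
      · have hvr : v r = -v 0 := mul_left_cancel₀ hu0 (by rw [hur] at hprod; linear_combination hprod)
        rw [P_apply, hσs]
        by_cases k0 : k = 0
        · subst k0; rw [hσ0.1, if_pos (Or.inl rfl)]; exact hvr
        by_cases kr : k = r
        · subst kr; rw [hσ0.2.1, if_pos (Or.inr rfl), hvr, neg_neg]
        rw [if_neg (by simp [k0, kr])]
        by_cases k4 : k = 4
        · subst k4; rw [hσ0.2.2.1, zv4, zv5]
        by_cases k5 : k = 5
        · subst k5; rw [hσ0.2.2.2, zv4, zv5]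
        rw [hσk k k0 kr k4 k5]
    · refine ⟨flip 0 r * P σ, L.mul_mem (h.flip_mem 0 r) (h.perm σ hσ), funext fun k => ?_, fun k => ?_⟩
      · rw [LinearEquiv.mul_apply, flip_coord (Ne.symm hr0), P_apply, hσs]
        by_cases k0 : k = 0
        · subst k0; rw [hσ0.1, if_pos (Or.inl rfl), hur, neg_neg]
        by_cases kr : k = r
        · subst kr; rw [hσ0.2.1, if_pos (Or.inr rfl), hur]
        rw [if_neg (by simp [k0, kr])]
        by_cases k4 : k = 4
        · subst k4; rw [hσ0.2.2.1, zu4, zu5]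
        by_cases k5 : k = 5
        · subst k5; rw [hσ0.2.2.2, zu4, zu5]
        rw [hσk k k0 kr k4 k5]
      · have hvr : v r = v 0 := mul_left_cancel₀ hu0 (by rw [hur] at hprod; linear_combination -hprod)
        rw [LinearEquiv.mul_apply, flip_coord (Ne.symm hr0), P_apply, hσs]
        by_cases k0 : k = 0
        · subst k0; rw [hσ0.1, if_pos (Or.inl rfl), if_pos (Or.inl rfl), hvr]
        by_cases kr : k = r
        · subst kr; rw [hσ0.2.1, if_pos (Or.inr rfl), if_pos (Or.inr rfl), hvr]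
        rw [if_neg (by simp [k0, kr]), if_neg (by simp [k0, kr])]
        by_cases k4 : k = 4
        · subst k4; rw [hσ0.2.2.1, zv4, zv5]
        by_cases k5 : k = 5
        · subst k5; rw [hσ0.2.2.2, zv4, zv5]
        rw [hσk k k0 kr k4 k5]
  obtain ⟨y₁, hy₁, hy₁u, hy₁v⟩ := key 2 (Or.inl rfl)
  obtain ⟨y₂, hy₂, hy₂u, hy₂v⟩ := key 3 (Or.inr rfl)
  obtain ⟨l₁, t₁, ht₁⟩ := h.column hA hx hy₁ hy₁u b
  obtain ⟨l₂, t₂, ht₂⟩ := h.column hA hx hy₂ hy₂u b
  rw [← hvdef] at ht₁ ht₂
  have hv1ne : v 1 ≠ 0 := by rw [v1]; exact neg_ne_zero.mpr (mul_ne_zero hcne hv0)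
  have hlb : ∀ {y : GG} {r l : Fin 6} {t : F}, r = 2 ∨ r = 3 →
      (∀ k, y v k = if k = 0 ∨ k = r then -(v k) else v k) → y v = t • x (e l) → t ≠ 0 ∧ l ≠ b := by
    intro y r l t hr hy hl
    have e1 := congrFun hl 1
    rw [hy, if_neg (by rcases hr with rfl | rfl <;> decide), Pi.smul_apply, smul_eq_mul] at e1
    refine ⟨fun h0 => hv1ne (by rw [e1, h0, zero_mul]), fun hlb => ?_⟩
    subst hlb
    have e0 := congrFun hl 0
    rw [hy, if_pos (Or.inl rfl), Pi.smul_apply, ← hvdef, smul_eq_mul] at e0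
    rw [← hvdef] at e1
    exact mul_ne_zero (mul_ne_zero h2 hv0) hv1ne (by linear_combination v 0 * e1 - v 1 * e0)
  obtain ⟨ht₁0, hl₁b⟩ := hlb (Or.inl rfl) hy₁v ht₁
  obtain ⟨ht₂0, hl₂b⟩ := hlb (Or.inr rfl) hy₂v ht₂
  obtain ⟨k, hk⟩ := exists_fresh ({a, b, l₁, l₂} : Finset (Fin 6))
    (lt_of_le_of_lt Finset.card_le_four (by norm_num))
  obtain ⟨k', hk'⟩ := exists_fresh (insert k ({a, b, l₁, l₂} : Finset (Fin 6)))
    (lt_of_le_of_lt ((Finset.card_insert_le _ _).trans (Nat.add_le_add_right Finset.card_le_four 1))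
      (by norm_num))
  simp only [Finset.mem_insert, Finset.mem_singleton, not_or] at hk hk'
  have hzero : ∀ k, k ≠ a → k ≠ b → k ≠ l₁ → k ≠ l₂ → ∀ i, i ≠ 4 → i ≠ 5 → x (e k) i = 0 := by
    intro k ka kb k1 k2
    set z := x (e k) with hz
    have eu : u ⬝ᵥ z = 0 := by rw [hz, hudef, hI, e_dot_ne (Ne.symm ka)]
    have ev : v ⬝ᵥ z = 0 := by rw [hz, hvdef, hI, e_dot_ne (Ne.symm kb)]
    have ew₁ : y₁ v ⬝ᵥ z = 0 := by rw [ht₁, smul_dotProduct, hz, hI, e_dot_ne (Ne.symm k1), smul_zero]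
    have ew₂ : y₂ v ⬝ᵥ z = 0 := by rw [ht₂, smul_dotProduct, hz, hI, e_dot_ne (Ne.symm k2), smul_zero]
    rw [dot_six, zu4, zu5, u1, u3] at eu
    rw [dot_six, zv4, zv5, v1, v3] at ev
    rw [dot_six] at ew₁ ew₂
    simp only [hy₁v] at ew₁
    simp only [hy₂v] at ew₂
    simp [zv4, zv5, v1, v3] at ew₁ ew₂
    have hp : z 0 - c * z 1 = 0 := by
      refine (mul_eq_zero.mp
        (?_ : (u 0 * v 2 - u 2 * v 0) * (z 0 - c * z 1) = 0)).resolve_left ?_
      · linear_combination v 2 * eu - u 2 * ev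
      · intro hd
        exact hv2 (by linear_combination 2 * u 0 * hd + 2 * u 2 * huv - v 2 * huu)
    have hq : z 2 - c' * z 3 = 0 :=
      (mul_eq_zero.mp (show v 2 * (z 2 - c' * z 3) = 0 by linear_combination ev - v 0 * hp)).resolve_left hv2
    have A : v 0 * z 0 + v 2 * z 2 = 0 := half (by linear_combination ev - ew₁)
    have B : v 0 * z 0 - v 2 * (c' * z 3) = 0 := half (by linear_combination ev - ew₂)
    have B' : v 0 * z 0 - v 2 * z 2 = 0 := by linear_combination B - v 2 * hq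
    have z0 : z 0 = 0 := (mul_eq_zero.mp (half (t := v 0 * z 0) (by linear_combination A + B'))).resolve_left hv0
    have z2 : z 2 = 0 := (mul_eq_zero.mp (half (t := v 2 * z 2) (by linear_combination A - B'))).resolve_left hv2
    have z1 : z 1 = 0 := (mul_eq_zero.mp (show c * z 1 = 0 by linear_combination z0 - hp)).resolve_left hcne
    have z3 : z 3 = 0 := (mul_eq_zero.mp (show c' * z 3 = 0 by linear_combination z2 - hq)).resolve_left hcne'
    intro i i4 i5
    fin_cases i
    · exact z0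
    · exact z1
    · exact z2
    · exact z3
    · exact absurd rfl i4
    · exact absurd rfl i5
  refine h.to_flip hA hx (Ne.symm hk'.1) (by decide : (4 : Fin 6) ≠ 5) ?_
  rw [conj_flip hI]
  exact pair_eq_flip (by rw [hI, e_dot_self]) (by rw [hI, e_dot_self])
    (by rw [hI, e_dot_ne (Ne.symm hk'.1)]) (by decide)
    (hzero k hk.1 hk.2.1 hk.2.2.1 hk.2.2.2) (hzero k' hk'.2.1 hk'.2.2.1 hk'.2.2.2.1 hk'.2.2.2.2)

/-- A flip is not carried to a transposition with one sign change. -/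
theorem single_std {x : GG} (hx : x ∈ L) {a b : Fin 6} (hab : a ≠ b) {π : Fin 6 → Fin 6}
    {cs : Fin 6 → F} (d : PairData (x (e a)) (x (e b)) π cs) (h0 : π 0 = 1) (h2' : π 2 = 2)
    (hz : ∀ k : Fin 6, k = 3 ∨ k = 4 ∨ k = 5 → π k = k ∧ x (e a) k = 0 ∧ x (e b) k = 0) :
    IsMono x := by
  have hI := h.iso x hx
  have h2 := h.two
  set u := x (e a) with hudef
  set v := x (e b) with hvdef
  have b1 : π 1 = 0 := h0 ▸ d.back 0
  have n0 := d.half (i := 0) (by rw [h0]; decide)
  have n1 := d.half (i := 1) (by rw [b1]; decide)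
  obtain ⟨u3, v3⟩ := (hz 3 (Or.inl rfl)).2
  obtain ⟨u4, v4⟩ := (hz 4 (Or.inr (Or.inl rfl))).2
  obtain ⟨u5, v5⟩ := (hz 5 (Or.inr (Or.inr rfl))).2
  have hu := d.hu; have hv := d.hv
  rw [dot_six, u3, u4, u5] at hu
  rw [dot_six, v3, v4, v5] at hv
  have f2 : u 2 * u 2 + v 2 * v 2 = 1 :=
    mul_left_cancel₀ h2 (by linear_combination 2 * hu + 2 * hv - n0 - n1)
  set c := cs 0 with hc
  have hcc : c * c = 1 := d.csq 0
  have eq0 : ∀ k, c * e (F := F) 1 k = e (F := F) 0 k - 2 * u 0 * u k - 2 * v 0 * v k := fun k => by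
    have := d.eqn 0 k
    rwa [h0] at this
  have o02 : u 0 * u 2 + v 0 * v 2 = 0 := by
    refine (mul_eq_zero.mp (?_ : (2 : F) * (u 0 * u 2 + v 0 * v 2) = 0)).resolve_left h2
    have := eq0 2
    rw [e_ne (by decide), e_ne (by decide), mul_zero] at this
    linear_combination this
  set D := 2 * (u 0 * v 2 - v 0 * u 2) with hD
  have hD2 : D * D = 2 := by
    rw [hD]
    linear_combination (2 * (u 2 * u 2 + v 2 * v 2)) * n0 + 2 * f2 - (4 * (u 0 * u 2 + v 0 * v 2)) * o02
  have hD0 : D ≠ 0 := fun h' => h2 (by rw [← hD2, h', mul_zero])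
  set q : V := D⁻¹ • e 0 + (-(c * D⁻¹)) • e 1 with hq
  have hα : 2 * D⁻¹ * D⁻¹ = 1 := by field_simp; linear_combination -hD2
  have q0 : q 0 = D⁻¹ := by simp [hq, e_same, e_ne (show (0 : Fin 6) ≠ 1 by decide)]
  have q1 : q 1 = -(c * D⁻¹) := by simp [hq, e_same, e_ne (show (1 : Fin 6) ≠ 0 by decide)]
  have qz : ∀ k, k ≠ 0 → k ≠ 1 → q k = 0 := fun k k0 k1 => by simp [hq, e_ne k0, e_ne k1]
  have qq : q ⬝ᵥ q = 1 := by
    rw [dot_two (by decide) qz, q0, q1]
    linear_combination hα + (D⁻¹ * D⁻¹) * hcc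
  have qsq : q 0 * q 0 = q 1 * q 1 := by rw [q0, q1]; linear_combination -(D⁻¹ * D⁻¹) * hcc
  obtain ⟨s, hsdef⟩ : ∃ s : GG, s = R u * R v := ⟨_, rfl⟩
  have hsI : Iso s := hsdef ▸ d.hI
  have s0 : s (e 0) = c • e 1 := by rw [hsdef, d.hπ 0, h0]
  have s1 := mono_back hsI (hsdef ▸ d.hsq) s0
  have sq : s q = -q := by
    have e2 : s q = D⁻¹ • s (e 0) + (-(c * D⁻¹)) • s (e 1) := by rw [hq, map_add, map_smul, map_smul]
    rw [e2, s0, s1, hq]
    match_scalars <;> first
      | linear_combination (-D⁻¹) * hcc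
      | linear_combination D⁻¹ * hcc
      | ring
  -- the preimage of `q` lies in the plane of `a` and `b`
  have hqspan : q = (2 * D⁻¹ * u 0) • u + (2 * D⁻¹ * v 0) • v := funext fun k => by
    have e3 := eq0 k
    rw [hq]
    simp only [Pi.add_apply, Pi.smul_apply, smul_eq_mul]
    linear_combination (-D⁻¹) * e3
  have hq' : x⁻¹ q = (2 * D⁻¹ * u 0) • e a + (2 * D⁻¹ * v 0) • e b := by
    apply x.injective
    rw [show x (x⁻¹ q) = q from LinearEquiv.apply_symm_apply x q, map_add, map_smul, map_smul]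
    exact hqspan
  have hshape : ∀ k : Fin 6, k = 3 ∨ k = 4 ∨ k = 5 → IsMono x ∨
      (IsDiag (x⁻¹ (e k)) ∧ x⁻¹ (e k) a = 0 ∧ x⁻¹ (e k) b = 0) := by
    intro k hk
    obtain ⟨hπk, huk, hvk⟩ := hz k hk
    have hk01 : k ≠ 0 ∧ k ≠ 1 := by rcases hk with rfl | rfl | rfl <;> decide
    have hsk : s (e k) = e k := by
      have hcs : cs k = 1 := by rw [d.fixed hπk, huk, hvk]; ring
      rw [hsdef, d.hπ k, hπk, hcs, one_smul]
    have hy : R q * R (e k) ∈ L := h.diag_mem qq (by decide) qz qsq hk01.1 hk01.2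
    have hcm : s * (R q * R (e k : V)) = (R q * R (e k)) * s := by
      have := R_mul_conj hsI q (e k)
      rw [sq, hsk, R_neg] at this
      exact (mul_inv_eq_iff_eq_mul.mp this)
    obtain ⟨-, hym⟩ := h.pull_back hA hx hab hy (by rw [← hudef, ← hvdef, ← hsdef]; exact hcm)
    have hconj : x⁻¹ * (R q * R (e k)) * x = R (x⁻¹ q) * R (x⁻¹ (e k)) := by
      have := R_mul_conj (hI.inv) q (e k)
      rwa [inv_inv] at this
    rw [hconj] at hym
    set w := x⁻¹ (e k) with hw
    have hwu : w ⬝ᵥ w = 1 := by rw [hw, hI.inv, e_dot_self]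
    have hw0 : ∀ i, w i = x (e i) k := fun i => by
      rw [← dot_e i w, hw, ← hI _ (e i), show x (x⁻¹ (e k)) = e k from LinearEquiv.apply_symm_apply x _,
        e_dot]
    have hwa : w a = 0 := by rw [hw0]; exact huk
    have hwb : w b = 0 := by rw [hw0]; exact hvk
    have hm : IsMono (R w : GG) := fun i => by
      by_cases hi : i = a ∨ i = b
      · exact ⟨i, 1, by rw [R_of_ortho (by rw [dot_e]; rcases hi with rfl | rfl <;> assumption), one_smul]⟩
      obtain ⟨j, t, hj⟩ := hym i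
      refine ⟨j, t, ?_⟩
      rw [LinearEquiv.mul_apply] at hj
      rwa [R_of_ortho (u := x⁻¹ q)] at hj
      push Not at hi
      have hza : (R w (e i)) a = 0 := by
        rw [R_unit hwu, Pi.sub_apply, Pi.smul_apply, hwa, e_ne (Ne.symm hi.1)]; simp
      have hzb : (R w (e i)) b = 0 := by
        rw [R_unit hwu, Pi.sub_apply, Pi.smul_apply, hwb, e_ne (Ne.symm hi.2)]; simp
      rw [hq', add_dotProduct, smul_dotProduct, smul_dotProduct, e_dot, e_dot, hza, hzb]
      simp
    rcases shape_of_R h2 hwu hm with ⟨i, t, hi⟩ | hd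
    · left
      have ht := axis_sq hwu hi
      refine hA x hx ⟨i, k, t, ?_⟩
      have e4 : x w = e k := LinearEquiv.apply_symm_apply x _
      rw [hi, map_smul] at e4
      rw [← e4, smul_smul, ht, one_smul]
    · exact Or.inr ⟨hd, hwa, hwb⟩
  rcases hshape 3 (Or.inl rfl) with hm | ⟨⟨p, p', hpp, -, hsq3, hp, hp3⟩, w3a, w3b⟩
  · exact hm
  rcases hshape 4 (Or.inr (Or.inl rfl)) with hm | ⟨⟨r, r', hrr, -, hsq4, hr, hr4⟩, w4a, w4b⟩
  · exact hm
  rcases hshape 5 (Or.inr (Or.inr rfl)) with hm | ⟨⟨o, o', hoo, -, hsq5, ho, ho5⟩, w5a, w5b⟩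
  · exact hm
  have hnz : ∀ {z : V} {i j : Fin 6}, z i * z i = z j * z j → z i ≠ 0 → z j ≠ 0 :=
    fun hs hi h' => hi (mul_self_eq_zero.mp (by rw [hs, h', mul_zero]))
  have hdot : ∀ i j : Fin 6, i ≠ j → x⁻¹ (e i : V) ⬝ᵥ x⁻¹ (e j) = 0 := fun i j hij => by
    rw [hI.inv, e_dot_ne hij]
  have hfin : ∀ i j : Fin 6, i ≠ j → ∀ m m' : Fin 6, m ≠ m' →
      (∀ k, k ≠ m → k ≠ m' → x⁻¹ (e i : V) k = 0) → (∀ k, k ≠ m → k ≠ m' → x⁻¹ (e j : V) k = 0) →
      IsMono x := by
    intro i j hij m m' hm hi hj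
    have hm' := h.to_flip hA (L.inv_mem hx) hij hm (by
      rw [conj_flip hI.inv]
      exact pair_eq_flip (by rw [hI.inv, e_dot_self]) (by rw [hI.inv, e_dot_self]) (hdot i j hij) hm hi hj)
    have := mono_inv hI.inv hm'
    rwa [inv_inv] at this
  -- two diagonal vectors sharing a coordinate share the support
  have hshare : ∀ i j : Fin 6, i ≠ j → ∀ m m' n n' : Fin 6, m ≠ m' →
      (∀ k, k ≠ m → k ≠ m' → x⁻¹ (e i : V) k = 0) → x⁻¹ (e i : V) m ≠ 0 → x⁻¹ (e i : V) m' ≠ 0 →
      n ≠ n' → (∀ k, k ≠ n → k ≠ n' → x⁻¹ (e j : V) k = 0) →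
      x⁻¹ (e j : V) m ≠ 0 → x⁻¹ (e j : V) m' ≠ 0 ∧ (∀ k, k ≠ m → k ≠ m' → x⁻¹ (e j : V) k = 0) := by
    intro i j hij m m' n n' hm hi him him' hn hj hjm
    have h4 := hdot i j hij
    rw [dot_two hm hi] at h4
    have hjm' : x⁻¹ (e j : V) m' ≠ 0 := fun h' => by
      rw [h', mul_zero, add_zero] at h4; exact mul_ne_zero him hjm h4
    refine ⟨hjm', fun k km km' => ?_⟩
    by_contra hk
    have hin : ∀ {l}, x⁻¹ (e j : V) l ≠ 0 → l = n ∨ l = n' := fun hl => by
      by_contra hcon; push Not at hcon; exact hl (hj _ hcon.1 hcon.2)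
    rcases hin hjm with e1 | e1 <;> rcases hin hjm' with e2 | e2 <;> rcases hin hk with e3 | e3 <;>
      first
        | exact hm (e1.trans e2.symm)
        | exact km (e3.trans e1.symm)
        | exact km' (e3.trans e2.symm)
  have hp' := hnz hsq3 hp
  have hr' := hnz hsq4 hr
  have ho' := hnz hsq5 ho
  have swp : ∀ {z : V} {m m' : Fin 6}, (∀ k, k ≠ m → k ≠ m' → z k = 0) → ∀ k, k ≠ m' → k ≠ m → z k = 0 :=
    fun hz k a b => hz k b a
  by_cases e34 : x⁻¹ (e 4 : V) p = 0 ∧ x⁻¹ (e 4 : V) p' = 0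
  swap
  · rw [not_and_or] at e34
    rcases e34 with e34 | e34
    · exact hfin 3 4 (by decide) p p' hpp hp3
        (hshare 3 4 (by decide) p p' r r' hpp hp3 hp hp' hrr hr4 e34).2
    · exact hfin 3 4 (by decide) p p' hpp hp3
        (swp (hshare 3 4 (by decide) p' p r r' hpp.symm (swp hp3) hp' hp hrr hr4 e34).2)
  by_cases e35 : x⁻¹ (e 5 : V) p = 0 ∧ x⁻¹ (e 5 : V) p' = 0
  swap
  · rw [not_and_or] at e35
    rcases e35 with e35 | e35
    · exact hfin 3 5 (by decide) p p' hpp hp3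
        (hshare 3 5 (by decide) p p' o o' hpp hp3 hp hp' hoo ho5 e35).2
    · exact hfin 3 5 (by decide) p p' hpp hp3
        (swp (hshare 3 5 (by decide) p' p o o' hpp.symm (swp hp3) hp' hp hoo ho5 e35).2)
  refine hfin 4 5 (by decide) r r' hrr hr4 fun k kr kr' => ?_
  by_contra hk
  have hcard := Finset.card_le_univ ({k, a, b, p, p', r, r'} : Finset (Fin 6))
  have z1 : ∀ {i l : Fin 6} {z : V}, z i ≠ 0 → z l = 0 → i ≠ l := fun hi hl e' => hi (e' ▸ hl)
  rw [Finset.card_insert_of_notMem (by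
      simp [z1 hk w5a, z1 hk w5b, z1 hk e35.1, z1 hk e35.2, kr, kr']),
    Finset.card_insert_of_notMem (by
      simp [hab, (z1 hp w3a).symm, (z1 hp' w3a).symm, (z1 hr w4a).symm, (z1 hr' w4a).symm]),
    Finset.card_insert_of_notMem (by
      simp [(z1 hp w3b).symm, (z1 hp' w3b).symm, (z1 hr w4b).symm, (z1 hr' w4b).symm]),
    Finset.card_insert_of_notMem (by simp [hpp, (z1 hr e34.1).symm, (z1 hr' e34.1).symm]),
    Finset.card_insert_of_notMem (by simp [(z1 hr e34.2).symm, (z1 hr' e34.2).symm]),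
    Finset.card_pair hrr, Fintype.card_fin] at hcard
  omega

/-- **An element carrying a sign change to a monomial element is monomial.** -/
theorem pair_mono {x : GG} (hx : x ∈ L) {a b : Fin 6} (hab : a ≠ b)
    (hm : IsMono (R (x (e a)) * R (x (e b)))) : IsMono x := by
  have hI := h.iso x hx
  have h2 := h.two
  choose π cs hπ using hm
  have d : PairData (x (e a)) (x (e b)) π cs :=
    ⟨by rw [hI, e_dot_self], by rw [hI, e_dot_self], by rw [hI, e_dot_ne hab], hπ⟩
  set u := x (e a) with hudef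
  set v := x (e b) with hvdef
  by_cases hM : ∃ m m', m ≠ m' ∧ π m = m ∧ π m' = m' ∧ u m * u m + v m * v m = 1 ∧
      u m' * u m' + v m' * v m' = 1
  · obtain ⟨m, m', hne, hm, hm', f, f'⟩ := hM
    refine h.to_flip hA hx hab hne ?_
    rw [conj_flip hI]
    exact pair_eq_flip d.hu d.hv d.huv hne (fun k k1 k2 => (d.two_neg h2 hne hm hm' f f' k1 k2).1)
      fun k k1 k2 => (d.two_neg h2 hne hm hm' f f' k1 k2).2
  push Not at hM
  by_cases hex : ∃ i, π i ≠ i
  swap
  · push Not at hex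
    exfalso
    obtain ⟨m, hm⟩ : ∃ m, u m ≠ 0 := by
      by_contra h'; push Not at h'
      have := d.hu
      rw [show u = 0 from funext h', zero_dotProduct] at this
      exact zero_ne_one this
    have fm := (d.zero_or_neg h2 (hex m)).resolve_left (fun h' => hm h'.1)
    have hz : ∀ k, k ≠ m → u k = 0 ∧ v k = 0 := fun k hk => (d.zero_or_neg h2 (hex k)).resolve_right
      fun fk => hM m k (Ne.symm hk) (hex m) (hex k) fm fk
    obtain ⟨m', hm'⟩ := exists_ne m
    have du := d.hu; have dv := d.hv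
    rw [dot_two hm'.symm (fun k k1 _ => (hz k k1).1)] at du
    rw [dot_two hm'.symm (fun k k1 _ => (hz k k1).2)] at dv
    rw [(hz m' hm').1] at du
    rw [(hz m' hm').2] at dv
    exact one_ne_zero (α := F) (by linear_combination fm - du - dv)
  obtain ⟨i, hi⟩ := hex
  have hj : π (π i) = i := d.back i
  by_cases hsec : ∃ k, k ≠ i ∧ k ≠ π i ∧ π k ≠ k
  · obtain ⟨k, hki, hkj, hk⟩ := hsec
    have hl1 : π k ≠ i := fun e' => hkj (by rw [← e', d.back])
    have hl2 : π k ≠ π i := fun e' => hki (by rw [← d.back k, e', hj])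
    obtain ⟨σ, hσ, hmap⟩ := exists_even_map ![i, π i, k, π k] ![0, 1, 2, 3] (fun p q hpq => by
      fin_cases p <;> fin_cases q <;>
        simp [hi, Ne.symm hi, hki, hki.symm, hkj, hkj.symm, hl1, hl1.symm, hl2, hl2.symm, hk, Ne.symm hk]
          at hpq ⊢)
      (by decide) (by norm_num)
    have hxσ : (P σ : GG) * x ∈ L := L.mul_mem (h.perm σ hσ) hx
    have dd : PairData (((P σ : GG) * x) (e a)) (((P σ : GG) * x) (e b))
        (fun i => σ (π (σ.symm i))) (fun i => cs (σ.symm i)) := pairData_conj d σ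
    have m0 : σ.symm 0 = i := σ.symm_apply_eq.mpr (hmap 0).symm
    have m2 : σ.symm 2 = k := σ.symm_apply_eq.mpr (hmap 2).symm
    have hm := h.double_std hA hxσ hab dd
      (by show σ (π (σ.symm 0)) = 1; rw [m0]; exact hmap 1)
      (by show σ (π (σ.symm 2)) = 3; rw [m2]; exact hmap 3)
    have e' : x = (P σ : GG)⁻¹ * ((P σ : GG) * x) := by group
    rw [e']
    exact mono_mul (mono_inv (P_iso σ) (mono_P σ)) hm
  push Not at hsec
  by_cases hm1 : ∃ m, m ≠ i ∧ m ≠ π i ∧ u m * u m + v m * v m = 1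
  swap
  · push Not at hm1
    exfalso
    have hz : ∀ k, k ≠ i → k ≠ π i → u k = 0 ∧ v k = 0 := fun k k1 k2 =>
      (d.zero_or_neg h2 (hsec k k1 k2)).resolve_right (hm1 k k1 k2)
    have du := d.hu; have dv := d.hv
    rw [dot_two (Ne.symm hi) (fun k k1 k2 => (hz k k1 k2).1)] at du
    rw [dot_two (Ne.symm hi) (fun k k1 k2 => (hz k k1 k2).2)] at dv
    have a1 := d.half hi
    have a2 := d.half (i := π i) (by rw [hj]; exact Ne.symm hi)
    exact h2 (by linear_combination a1 + a2 - 2 * du - 2 * dv)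
  obtain ⟨m, hmi, hmj, fm⟩ := hm1
  obtain ⟨σ, hσ, hmap⟩ := exists_even_map ![i, π i, m] ![0, 1, 2] (fun p q hpq => by
    fin_cases p <;> fin_cases q <;>
      simp [hi, Ne.symm hi, hmi, hmi.symm, hmj, hmj.symm] at hpq ⊢) (by decide) (by norm_num)
  have hxσ : (P σ : GG) * x ∈ L := L.mul_mem (h.perm σ hσ) hx
  have dd : PairData (((P σ : GG) * x) (e a)) (((P σ : GG) * x) (e b))
      (fun i => σ (π (σ.symm i))) (fun i => cs (σ.symm i)) := pairData_conj d σ
  have m0 : σ.symm 0 = i := σ.symm_apply_eq.mpr (hmap 0).symm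
  have m1 : σ.symm 1 = π i := σ.symm_apply_eq.mpr (hmap 1).symm
  have m2 : σ.symm 2 = m := σ.symm_apply_eq.mpr (hmap 2).symm
  have hm := h.single_std hA hxσ hab dd
    (by show σ (π (σ.symm 0)) = 1; rw [m0]; exact hmap 1)
    (by show σ (π (σ.symm 2)) = 2; rw [m2, hsec m hmi hmj]; exact hmap 2)
    (fun k hk => by
      have k1 : σ.symm k ≠ i := fun e' => by
        have := σ.symm_apply_eq.mp e'
        rw [show σ i = 0 from hmap 0] at this
        rcases hk with rfl | rfl | rfl <;> exact absurd this (by decide)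
      have k2 : σ.symm k ≠ π i := fun e' => by
        have := σ.symm_apply_eq.mp e'
        rw [show σ (π i) = 1 from hmap 1] at this
        rcases hk with rfl | rfl | rfl <;> exact absurd this (by decide)
      have k3 : m ≠ σ.symm k := fun e' => by
        have := σ.symm_apply_eq.mp e'.symm
        rw [show σ m = 2 from hmap 2] at this
        rcases hk with rfl | rfl | rfl <;> exact absurd this (by decide)
      obtain ⟨z1, z2⟩ := (d.zero_or_neg h2 (hsec _ k1 k2)).resolve_right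
        fun fk => hM m _ k3 (hsec m hmi hmj) (hsec _ k1 k2) fm fk
      refine ⟨?_, ?_, ?_⟩
      · show σ (π (σ.symm k)) = k
        rw [hsec _ k1 k2, σ.apply_symm_apply]
      · rw [LinearEquiv.mul_apply, P_apply]; exact z1
      · rw [LinearEquiv.mul_apply, P_apply]; exact z2)
  have e' : x = (P σ : GG)⁻¹ * ((P σ : GG) * x) := by group
  rw [e']
  exact mono_mul (mono_inv (P_iso σ) (mono_P σ)) hm

end Six

end Cfsg.Agent.FrameSix
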