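import Cfsg.Agent.Lib.FrameSix.Rigid
import Cfsg.Agent.Lib.SpFrame96.AllUnits
import Cfsg.Agent.Lib.SpFrame96.Roots

/-!
# An overgroup with a non-monomial element pairs all unit vectors

The units of a coordinate hyperplane form a closed set in five coordinates; a reflection then clears
one coordinate of any unit vector.
-/

set_option autoImplicit false

namespace Cfsg.Agent.FrameSix

open Matrix Cfsg.Agent.TableRelax.Mono

variable {F : Type*} [Field F]

local notation "V" => (Fin 6 → F)
local notation "GG" => ((Fin 6 → F) ≃ₗ[F] (Fin 6 → F))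

/-- Five coordinates followed by a zero. -/
def pad (x : Fin 5 → F) : Fin 6 → F := Fin.snoc x 0

theorem pad_castSucc (x : Fin 5 → F) (j : Fin 5) : pad x j.castSucc = x j := Fin.snoc_castSucc ..

theorem pad_last (x : Fin 5 → F) : pad x (Fin.last 5) = 0 := Fin.snoc_last ..

theorem pad_dot (x y : Fin 5 → F) : pad x ⬝ᵥ pad y = x ⬝ᵥ y := by
  rw [dotProduct, Fin.sum_univ_castSucc, pad_last, zero_mul, add_zero, dotProduct]
  exact Finset.sum_congr rfl fun j _ => by rw [pad_castSucc, pad_castSucc]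

theorem eq_pad {v : V} (hv : v (Fin.last 5) = 0) : v = pad fun j => v j.castSucc := by
  funext i
  induction i using Fin.lastCases with
  | last => rw [pad_last, hv]
  | cast j => rw [pad_castSucc]

theorem pad_e (j : Fin 5) : pad (e j : Fin 5 → F) = e j.castSucc := by
  funext i
  induction i using Fin.lastCases with
  | last => rw [pad_last, e_ne (Ne.symm (Fin.castSucc_lt_last j).ne)]
  | cast k =>
    rw [pad_castSucc]
    by_cases h : k = j
    · subst h; rw [e_same, e_same]
    · rw [e_ne h, e_ne fun h' => h (Fin.castSucc_injective _ h')]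

theorem pad_R (w y : Fin 5 → F) : pad (R w y) = R (pad w) (pad y) := by
  funext i
  induction i using Fin.lastCases with
  | last =>
    rw [pad_last, Cfsg.Agent.TableRelax.Mono.R_apply, Pi.sub_apply, Pi.smul_apply, pad_last, pad_last,
      smul_zero, sub_zero]
  | cast k =>
    rw [pad_castSucc, Cfsg.Agent.TableRelax.Mono.R_apply, Cfsg.Agent.TableRelax.Mono.R_apply, pad_dot,
      pad_dot]
    simp [pad_castSucc]

theorem pad_perm (σ : Equiv.Perm (Fin 5)) :
    ∃ τ : Equiv.Perm (Fin 6), Equiv.Perm.sign τ = Equiv.Perm.sign σ ∧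
      ∀ x : Fin 5 → F, pad (P σ x) = P τ (pad x) := by
  let emb : Fin 5 ↪ Fin 6 := ⟨Fin.castSucc, Fin.castSucc_injective 5⟩
  refine ⟨σ.viaFintypeEmbedding emb, Equiv.Perm.viaFintypeEmbedding_sign σ emb, fun x => ?_⟩
  funext i
  obtain ⟨k, rfl⟩ := (σ.viaFintypeEmbedding emb).surjective i
  rw [P_apply (σ.viaFintypeEmbedding emb), Equiv.symm_apply_apply]
  induction k using Fin.lastCases with
  | last =>
    rw [σ.viaFintypeEmbedding_apply_notMem_range emb (b := Fin.last 5)
      (by rintro ⟨j, hj⟩; exact (Fin.castSucc_lt_last j).ne hj), pad_last, pad_last]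
  | cast j =>
    have : σ.viaFintypeEmbedding emb j.castSucc = (σ j).castSucc :=
      σ.viaFintypeEmbedding_apply_image emb j
    rw [this, pad_castSucc, pad_castSucc, P_apply, Equiv.symm_apply_apply]

namespace Six

variable {L : Subgroup ((Fin 6 → F) ≃ₗ[F] (Fin 6 → F))} (h : Six L)

include h

theorem inY_of {v : V} (hv : v ⬝ᵥ v = 1) {i : Fin 6} (hp : R v * R (e i) ∈ L) : InY L v := by
  refine ⟨hv, fun j => ?_⟩
  have := L.mul_mem hp (h.pair i j)
  rwa [mul_assoc, ← mul_assoc (R (e i : V)) (R (e i)), R_mul_self, one_mul] at this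

theorem inY_e (i : Fin 6) : InY L (e i : V) := h.inY_of (e_dot_self i) (h.pair i i)

omit h in
theorem inY_pair {v w : V} (hv : InY L v) (hw : InY L w) : R v * R w ∈ L := by
  have := L.mul_mem (hv.2 0) (L.inv_mem (hw.2 0))
  rwa [_root_.mul_inv_rev, R_inv, R_inv, mul_assoc, ← mul_assoc (R (e 0 : V)) (R (e 0)), R_mul_self,
    one_mul] at this

theorem inY_R {v w : V} (hv : InY L v) (hw : InY L w) : InY L (R w v) := by
  refine h.inY_of (by rw [R_iso, hv.1]) (i := 0) ?_
  have := L.mul_mem (inY_pair hw hv) (hw.2 0)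
  rw [← R_conj (R_iso w) v, R_inv]
  rwa [← mul_assoc] at this

theorem inY_map {g : GG} (hg : g ∈ L) {i : Fin 6} (hi : InY L (g (e i))) {v : V} (hv : InY L v) :
    InY L (g v) := by
  have hgI := h.iso g hg
  refine h.inY_of (by rw [hgI, hv.1]) (i := 0) ?_
  have h1 : R (g v) * R (g (e i)) ∈ L := by
    rw [← R_mul_conj hgI]
    exact L.mul_mem (L.mul_mem hg (hv.2 i)) (L.inv_mem hg)
  have := L.mul_mem h1 (hi.2 0)
  rwa [mul_assoc, ← mul_assoc (R (g (e i))) (R (g (e i))), R_mul_self, one_mul] at this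

theorem inY_perm {σ : Equiv.Perm (Fin 6)} (hσ : Equiv.Perm.sign σ = 1) {v : V} (hv : InY L v) :
    InY L (P σ v) :=
  h.inY_map (h.perm σ hσ) (i := 0) (by rw [P_e]; exact h.inY_e _) hv

omit h in
theorem inY_smul {c : F} (hc : c * c = 1) {v : V} (hv : InY L v) : InY L (c • v) := by
  refine ⟨by rw [smul_dotProduct, dotProduct_smul, hv.1, smul_eq_mul, smul_eq_mul, mul_one, hc],
    fun i => ?_⟩
  rw [R_smul (left_ne_zero_of_mul_eq_one hc)]
  exact hv.2 i

theorem slice_closed : Closed (setOf fun x : Fin 5 → F => InY L (pad x)) := by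
  refine ⟨⟨fun x hx => ?_, fun y hy w hw => ?_⟩, h.two, le_rfl, fun j => ?_, fun σ hσ x hx => ?_⟩
  · rw [← pad_dot]; exact hx.1
  · show InY L (pad (R w y)); rw [pad_R]; exact h.inY_R hy hw
  · show InY L (pad (e j)); rw [pad_e]; exact h.inY_e _
  · obtain ⟨τ, hτ, hpad⟩ := pad_perm (F := F) σ
    show InY L (pad (P σ x))
    rw [hpad]
    exact h.inY_perm (hτ.trans hσ) hx

/-- A non-rigid overgroup has a vector on a hyperplane which is neither axis nor diagonal. -/
theorem exists_rough [Fintype F] (hA : ¬ AxisRigid L) :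
    ∃ y : Fin 5 → F, InY L (pad y) ∧ ¬ KRoot y := by
  classical
  simp only [AxisRigid, not_forall] at hA
  obtain ⟨g, hg, ⟨i, j, c, hij⟩, hgm⟩ := hA
  obtain ⟨σ, hσ, hσi⟩ := exists_even_map ![Fin.last 5] ![i]
    (Function.injective_of_subsingleton _) (Function.injective_of_subsingleton _) (by norm_num)
  obtain ⟨τ, hτ, hτj⟩ := exists_even_map ![j] ![Fin.last 5]
    (Function.injective_of_subsingleton _) (Function.injective_of_subsingleton _) (by norm_num)
  have hσi' : σ (Fin.last 5) = i := hσi 0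
  have hτj' : τ j = Fin.last 5 := hτj 0
  set x : GG := P τ * g * P σ with hx
  have hxL : x ∈ L := L.mul_mem (L.mul_mem (h.perm τ hτ) hg) (h.perm σ hσ)
  have hxI := h.iso x hxL
  have hxm : ¬ IsMono x := fun hm => hgm (by
    have e1 : g = (P τ : GG)⁻¹ * x * (P σ : GG)⁻¹ := by rw [hx]; group
    rw [e1]
    exact mono_mul (mono_mul (mono_inv (P_iso τ) (mono_P τ)) hm) (mono_inv (P_iso σ) (mono_P σ)))
  have hlast : x (e (Fin.last 5)) = c • e (Fin.last 5) := by
    rw [hx, LinearEquiv.mul_apply, LinearEquiv.mul_apply, P_e, hσi', hij, map_smul, P_e, hτj']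
  have hcc := mono_pair hxI hlast
  set z : Fin 5 → Fin 5 → F := fun k l => x (e k.castSucc) l.castSucc with hz
  have hzpad : ∀ k, pad (z k) = x (e k.castSucc) := fun k => by
    refine (eq_pad ?_).symm
    have h1 := hxI (e k.castSucc) (e (Fin.last 5))
    rw [hlast, e_dot_ne (Fin.castSucc_lt_last k).ne, dotProduct_smul, dot_e, smul_eq_mul] at h1
    exact (mul_eq_zero.mp h1).resolve_left (left_ne_zero_of_mul_eq_one hcc)
  have hzY : ∀ v, InY L v → InY L (x v) := fun v hv =>
    h.inY_map hxL (i := Fin.last 5) (by rw [hlast]; exact inY_smul hcc (h.inY_e _)) hv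
  have horth : ∀ k l, k ≠ l → z k ⬝ᵥ z l = 0 := fun k l hkl => by
    rw [← pad_dot, hzpad, hzpad, hxI, e_dot_ne fun e' => hkl (Fin.castSucc_injective _ e')]
  by_contra hcon
  push Not at hcon
  have hroot : ∀ k, KRoot (z k) := fun k =>
    hcon _ (by rw [hzpad]; exact hzY _ (h.inY_e _))
  obtain ⟨k, a, b, hk⟩ : ∃ k a b, KDiag (z k) a b := by
    by_contra hno
    push Not at hno
    refine hxm fun m => ?_
    induction m using Fin.lastCases with
    | last => exact ⟨_, c, hlast⟩
    | cast k =>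
      rcases hroot k with ⟨a, ha⟩ | ⟨a, b, hk⟩
      · refine ⟨a.castSucc, z k a, ?_⟩
        rw [← hzpad, ← pad_e]
        funext l
        induction l using Fin.lastCases with
        | last => rw [Pi.smul_apply, pad_last, pad_last, smul_zero]
        | cast l =>
          rw [Pi.smul_apply, pad_castSucc, pad_castSucc, smul_eq_mul]
          by_cases hl : l = a
          · subst hl; rw [e_same, mul_one]
          · rw [e_ne hl, mul_zero, ha l hl]
      · exact absurd hk (hno k a b)
  obtain ⟨l, d, hl⟩ : ∃ l d, ∀ m, m ≠ d → z l m = 0 := by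
    by_contra hno
    refine no_five_diags h.two horth fun l => ?_
    rcases hroot l with ⟨a, ha⟩ | h'
    · exact absurd ⟨l, a, ha⟩ hno
    · exact h'
  have hzz : z l ⬝ᵥ z l = 1 := by rw [← pad_dot, hzpad, hxI, e_dot_self]
  have hld : z l d ≠ 0 := fun h0 => by
    rw [dotProduct, Finset.sum_eq_single d (fun m _ hm => by rw [hl m hm, mul_zero]) (by simp), h0,
      mul_zero] at hzz
    exact zero_ne_one hzz
  have hkl : k ≠ l := fun e' => by
    subst e'
    exact hk.1 ((by_contra fun hn => hk.ne_zero.1 (hl a hn) : a = d).trans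
      (by_contra fun hn => hk.ne_zero.2 (hl b hn) : b = d).symm)
  have hkd : z k d = 0 := by
    have := horth k l hkl
    rw [dotProduct, Finset.sum_eq_single d (fun m _ hm => by rw [hl m hm, mul_zero]) (by simp)] at this
    exact (mul_eq_zero.mp this).resolve_right hld
  have had : a ≠ d := fun e' => hk.ne_zero.1 (e' ▸ hkd)
  have hbd : b ≠ d := fun e' => hk.ne_zero.2 (e' ▸ hkd)
  set α := z k a with hα
  have hne : k.castSucc ≠ l.castSucc := fun e' => hkl (Fin.castSucc_injective _ e')
  set u : V := α • e k.castSucc + α • e l.castSucc with hu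
  have huY : InY L u := by
    have hα1 : 2 * α * α = 1 := by rw [mul_assoc]; exact hk.2.1
    refine h.inY_of ?_ (h.diag k.castSucc l.castSucc (Fin.last 5) hne
      (Fin.castSucc_lt_last k).ne' (Fin.castSucc_lt_last l).ne' α hα1)
    simp [hu, add_dotProduct, smul_dotProduct, e_dot, e_same, e_ne hne, e_ne hne.symm]
    linear_combination hα1
  set y : Fin 5 → F := α • z k + α • z l with hy
  have hypad : pad y = x u := by
    rw [hu, map_add, map_smul, map_smul, ← hzpad, ← hzpad]
    funext m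
    induction m using Fin.lastCases with
    | last => rw [Pi.add_apply, Pi.smul_apply, Pi.smul_apply, pad_last, pad_last, pad_last, smul_zero, add_zero]
    | cast m => simp [pad_castSucc, hy]
  have hy' := hcon y (by rw [hypad]; exact hzY u huY)
  have hα0 : α ≠ 0 := hk.ne_zero.1
  have na : y a ≠ 0 := by simp [hy, hl a had, hα0, ← hα]
  have nb : y b ≠ 0 := by simp [hy, hl b hbd, hα0, hk.ne_zero.2]
  have nd : y d ≠ 0 := by simp [hy, hkd, hα0, hld]
  rcases hy' with ⟨m, hm⟩ | ⟨m, m', -, -, -, hm⟩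
  · exact hk.1 ((by_contra fun hn => na (hm a hn) : a = m).trans
      (by_contra fun hn => nb (hm b hn) : b = m).symm)
  · have hcases : ∀ q, y q ≠ 0 → q = m ∨ q = m' := fun q hq => by
      by_contra hn; push Not at hn; exact hq (hm q hn.1 hn.2)
    rcases hcases a na with e1 | e1 <;> rcases hcases b nb with e2 | e2 <;>
      rcases hcases d nd with e3 | e3
    all_goals first
      | exact hk.1 (e1.trans e2.symm)
      | exact had (e1.trans e3.symm)
      | exact hbd (e2.trans e3.symm)

omit h in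
/-- Three coordinates with non-zero partial norms. -/
theorem exists_triple (h2 : (2 : F) ≠ 0) {v : V} (hv : v ⬝ᵥ v = 1) (h0 : ∀ i, v i ≠ 0) :
    ∃ a b c : Fin 6, a ≠ b ∧ c ≠ a ∧ c ≠ b ∧ v a * v a + v b * v b ≠ 0 ∧
      v a * v a + v b * v b + v c * v c ≠ 0 := by
  classical
  obtain ⟨a, b, hab, hm⟩ : ∃ a b : Fin 6, a ≠ b ∧ v a * v a + v b * v b ≠ 0 := by
    by_contra hno
    push Not at hno
    have e1 := hno 0 1 (by decide); have e2 := hno 0 2 (by decide); have e3 := hno 1 2 (by decide)
    exact mul_ne_zero h2 (mul_ne_zero (h0 0) (h0 0)) (by linear_combination e1 + e2 - e3)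
  by_contra hno
  push Not at hno
  have hrest : ∀ c, c ≠ a → c ≠ b → v c * v c = -(v a * v a + v b * v b) := fun c ca cb => by
    linear_combination hno a b c hab ca cb hm
  obtain ⟨σ, -, hmap⟩ := exists_even_map ![(0 : Fin 6), 1] ![a, b] (by decide)
    (fun i j hij => by fin_cases i <;> fin_cases j <;> simp [hab, hab.symm] at hij ⊢) (by norm_num)
  have s0 : σ 0 = a := hmap 0
  have s1 : σ 1 = b := hmap 1
  have hσ : ∀ k, k ≠ 0 → k ≠ 1 → σ k ≠ a ∧ σ k ≠ b := fun k k0 k1 =>
    ⟨fun e' => k0 (σ.injective (e'.trans s0.symm)), fun e' => k1 (σ.injective (e'.trans s1.symm))⟩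
  have hs : ∀ k, k ≠ 0 → k ≠ 1 → v (σ k) * v (σ k) = -(v a * v a + v b * v b) := fun k k0 k1 =>
    hrest _ (hσ k k0 k1).1 (hσ k k0 k1).2
  have c2 := hs 2 (by decide) (by decide); have c3 := hs 3 (by decide) (by decide)
  have c4 := hs 4 (by decide) (by decide); have c5 := hs 5 (by decide) (by decide)
  have hσne : ∀ k l : Fin 6, k ≠ l → σ k ≠ σ l := fun k l hkl e' => hkl (σ.injective e')
  set m := v a * v a + v b * v b with hmdef
  have h3 : (3 : F) * m = 0 := by
    by_contra hne
    have hm2 : v (σ 2) * v (σ 2) + v (σ 3) * v (σ 3) ≠ 0 := fun e' =>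
      mul_ne_zero h2 hm (by linear_combination c2 + c3 - e')
    have h4 := hno (σ 2) (σ 3) (σ 4) (hσne 2 3 (by decide)) (hσne 4 2 (by decide))
      (hσne 4 3 (by decide)) hm2
    exact hne (by linear_combination c2 + c3 + c4 - h4)
  have htot : v ⬝ᵥ v = v a * v a + v b * v b + v (σ 2) * v (σ 2) + v (σ 3) * v (σ 3) +
      v (σ 4) * v (σ 4) + v (σ 5) * v (σ 5) := by
    rw [dotProduct, ← Equiv.sum_comp σ (fun i => v i * v i), Fin.sum_univ_six, s0, s1]
  exact one_ne_zero (α := F) (by linear_combination -hv + htot + c2 + c3 + c4 + c5 - h3)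

variable [Fintype F] {p : ℕ} [Fact p.Prime]

/-- **Every unit vector is paired.** -/
theorem all_units (hF : Fintype.card F = p) (hp2 : p ≠ 2) {g : GG} (hg : g ∈ L) (hgm : ¬ IsMono g)
    {v : V} (hv : v ⬝ᵥ v = 1) : InY L v := by
  classical
  obtain ⟨y, hy, hyr⟩ := h.exists_rough fun hA => hgm (h.all_mono hA hg)
  have hzero : ∀ w : V, w ⬝ᵥ w = 1 → ∀ a, w a = 0 → InY L w := by
    intro w hw a ha
    obtain ⟨σ, hσ, hσa⟩ := exists_even_map ![a] ![Fin.last 5]
      (Function.injective_of_subsingleton _) (Function.injective_of_subsingleton _) (by norm_num)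
    have hσa' : σ a = Fin.last 5 := hσa 0
    have hl : P σ w (Fin.last 5) = 0 := by
      rw [P_apply, σ.symm_apply_eq.mpr hσa'.symm, ha]
    have hn : (fun j : Fin 5 => P σ w j.castSucc) ⬝ᵥ (fun j : Fin 5 => P σ w j.castSucc) = 1 := by
      rw [← pad_dot, ← eq_pad hl, P_iso σ, hw]
    have h1 : InY L (pad fun j : Fin 5 => P σ w j.castSucc) :=
      h.slice_closed.all_units_five hF hp2 hy hyr _ hn
    rw [← eq_pad hl] at h1
    have h2' := h.inY_perm (σ := σ.symm) (by rw [Equiv.Perm.sign_symm, hσ]) h1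
    have e1 := P_symm_P σ.symm w
    rw [Equiv.symm_symm] at e1
    rwa [e1] at h2'
  by_cases hex : ∃ a, v a = 0
  · obtain ⟨a, ha⟩ := hex; exact hzero v hv a ha
  push Not at hex
  obtain ⟨a, b, c, hab, hca, hcb, hm, hM⟩ := exists_triple h.two hv hex
  obtain ⟨d, hd⟩ := exists_fresh ({a, b, c} : Finset (Fin 6))
    (lt_of_le_of_lt Finset.card_le_three (by norm_num))
  obtain ⟨f, hf⟩ := exists_fresh ({a, b, c, d} : Finset (Fin 6))
    (lt_of_le_of_lt Finset.card_le_four (by norm_num))
  simp only [Finset.mem_insert, Finset.mem_singleton, not_or] at hd hf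
  obtain ⟨hda, hdb, hdc⟩ := hd
  set m := v a * v a + v b * v b with hmdef
  set M := m + v c * v c with hMdef
  set N := M + v d * v d with hNdef
  set k := (N - 1 / 2) / M with hk
  obtain ⟨s, t, hst⟩ := exists_norm (F := F) h.two (neg_ne_zero.mpr hM) ((N - k * k * M) / m)
  have hkM : k * M = N - 1 / 2 := by rw [hk]; exact div_mul_cancel₀ _ hM
  have hst' : m * (s * s + M * (t * t)) = N - k * k * M := by
    rw [show s * s + M * (t * t) = (N - k * k * M) / m by rw [← hst]; ring, mul_div_cancel₀ _ hm]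
  -- the target keeps two coordinates, drops `d`
  set α := k * v a + s * v b + t * (v a * v c) with hα
  set β := k * v b - s * v a + t * (v b * v c) with hβ
  set γ := k * v c - t * m with hγ
  set u : V := (v a - α) • e a + (v b - β) • e b + (v c - γ) • e c + v d • e d with hu
  have hone : (2 : F) * (1 / 2) = 1 := by rw [mul_one_div, div_self h.two]
  have hgram : α * α + β * β + γ * γ = N := by
    rw [hα, hβ, hγ]
    linear_combination hst' - (t * t * m + k * k) * hMdef - (t * t * (v c * v c) + k * k + s * s) * hmdef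
  have hdot : v a * α + v b * β + v c * γ = N - 1 / 2 := by
    rw [hα, hβ, hγ]
    linear_combination hkM - k * hMdef - (k + t * v c) * hmdef
  have huu : u ⬝ᵥ u = 1 := by
    simp [hu, add_dotProduct, smul_dotProduct, e_dot, e_same, e_ne hab, e_ne hab.symm, e_ne hca,
      e_ne (Ne.symm hca), e_ne hcb, e_ne (Ne.symm hcb), e_ne hda, e_ne (Ne.symm hda), e_ne hdb,
      e_ne (Ne.symm hdb), e_ne hdc, e_ne (Ne.symm hdc)]
    linear_combination hgram - 2 * hdot - hNdef - hMdef - hmdef + hone
  have huv : u ⬝ᵥ v = 1 / 2 := by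
    simp [hu, add_dotProduct, smul_dotProduct, e_dot]
    linear_combination -hdot - hNdef - hMdef - hmdef
  have huY : InY L u := hzero u huu f (by
    simp [hu, e_ne hf.1, e_ne hf.2.1, e_ne hf.2.2.1, e_ne hf.2.2.2])
  have hRd : R u v d = 0 := by
    rw [R_unit huu, huv, hone, one_smul, Pi.sub_apply]
    simp [hu, e_same, e_ne hda, e_ne hdb, e_ne hdc]
  have hw := h.inY_R (hzero (R u v) (by rw [R_iso u, hv]) d hRd) huY
  rwa [show R u (R u v) = v from LinearEquiv.congr_fun (R_mul_self u) v] at hw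

end Six

end Cfsg.Agent.FrameSix
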