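import Cfsg.Agent.Lib.LowIso.Basic
import Cfsg.Agent.Lib.Elusive19.Pauli4.Intertwine

/-!
# Six antisymmetric matrices under a group of type `4 ∘ 2^(1+4)`

The congruence action of four by four matrices on antisymmetric ones keeps the Pfaffian up to the
determinant.  A group of symplectic type with centre of order four acts by the sign changes on six
antisymmetric matrices orthogonal for the Pfaffian.
-/

set_option autoImplicit false

namespace Cfsg.Agent.FrameSix.Klein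

open Matrix Cfsg.Agent.Lib.LowIso Cfsg.Agent.Lib.Elusive19.Pauli4

variable {F : Type*} [Field F]

local notation "M4" => Matrix (Fin 4) (Fin 4) F

/-- Antisymmetric with zero diagonal. -/
def IsAlt (X : M4) : Prop := ∃ a b c d e f, X = altMat a b c d e f

theorem isAlt_conj {X : M4} (hX : IsAlt X) (g : M4) : IsAlt (g * X * gᵀ) := by
  obtain ⟨a, b, c, d, e, f, rfl⟩ := hX
  exact conj_altMat g a b c d e f

theorem isAlt_transpose {X : M4} (hX : IsAlt X) : Xᵀ = -X := by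
  obtain ⟨a, b, c, d, e, f, rfl⟩ := hX
  ext i j
  fin_cases i <;> fin_cases j <;> simp [altMat]

theorem isAlt_of_transpose (h2 : (2 : F) ≠ 0) {X : M4} (h : Xᵀ = -X) : IsAlt X := by
  have h' : ∀ i j, X j i = -X i j := fun i j => congrFun (congrFun h i) j
  have hd : ∀ i, X i i = 0 := fun i =>
    (mul_eq_zero.mp (show (2 : F) * X i i = 0 by linear_combination h' i i)).resolve_left h2
  refine ⟨X 0 1, X 0 2, X 0 3, X 1 2, X 1 3, X 2 3, ?_⟩
  ext i j
  fin_cases i <;> fin_cases j <;>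
    simp [altMat, hd, h' 0 1, h' 0 2, h' 0 3, h' 1 2, h' 1 3, h' 2 3]

theorem isAlt_add {X Y : M4} (hX : IsAlt X) (hY : IsAlt Y) : IsAlt (X + Y) := by
  obtain ⟨a, b, c, d, e, f, rfl⟩ := hX
  obtain ⟨a', b', c', d', e', f', rfl⟩ := hY
  refine ⟨a + a', b + b', c + c', d + d', e + e', f + f', ?_⟩
  ext i j
  fin_cases i <;> fin_cases j <;> simp [altMat] <;> ring

theorem isAlt_smul {X : M4} (hX : IsAlt X) (t : F) : IsAlt (t • X) := by
  obtain ⟨a, b, c, d, e, f, rfl⟩ := hX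
  refine ⟨t * a, t * b, t * c, t * d, t * e, t * f, ?_⟩
  ext i j
  fin_cases i <;> fin_cases j <;> simp [altMat]

theorem isAlt_zero : IsAlt (0 : M4) := by
  refine ⟨0, 0, 0, 0, 0, 0, ?_⟩
  ext i j
  fin_cases i <;> fin_cases j <;> simp [altMat]

theorem isAlt_sum {κ : Type*} (s : Finset κ) {f : κ → M4} (hf : ∀ k, IsAlt (f k)) :
    IsAlt (∑ k ∈ s, f k) := by
  classical
  induction s using Finset.induction_on with
  | empty => rw [Finset.sum_empty]; exact isAlt_zero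
  | insert a t ha ih => rw [Finset.sum_insert ha]; exact isAlt_add (hf a) ih

/-- The polar form of the Pfaffian. -/
def bil (X Y : M4) : F := pf (X + Y) - pf X - pf Y

theorem bil_comm (X Y : M4) : bil X Y = bil Y X := by simp [bil, pf]; ring

theorem bil_add_left (X Y Z : M4) : bil (X + Y) Z = bil X Z + bil Y Z := by simp [bil, pf]; ring

theorem bil_smul_left (t : F) (X Z : M4) : bil (t • X) Z = t * bil X Z := by simp [bil, pf]; ring

theorem bil_self (X : M4) : bil X X = 2 * pf X := by simp [bil, pf]; ring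

theorem pf_smul (t : F) (X : M4) : pf (t • X) = t * t * pf X := by simp [pf]; ring

theorem pf_congr {X : M4} (hX : IsAlt X) (g : M4) : pf (g * X * gᵀ) = g.det * pf X := by
  obtain ⟨a, b, c, d, e, f, rfl⟩ := hX
  exact pf_conj g a b c d e f

theorem bil_congr {X Y : M4} (hX : IsAlt X) (hY : IsAlt Y) (g : M4) :
    bil (g * X * gᵀ) (g * Y * gᵀ) = g.det * bil X Y := by
  rw [bil, ← add_mul, ← mul_add, pf_congr (isAlt_add hX hY), pf_congr hX, pf_congr hY, bil]
  ring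

theorem det_alt {X : M4} (hX : IsAlt X) : X.det = pf X * pf X := by
  obtain ⟨a, b, c, d, e, f, rfl⟩ := hX
  simp [pf, altMat, Matrix.det_succ_row_zero, Fin.sum_univ_succ, Fin.succAbove]
  ring

/-- The dual antisymmetric matrix. -/
def dual (X : M4) : M4 := altMat (-X 2 3) (X 1 3) (-X 1 2) (-X 0 3) (X 0 2) (-X 0 1)

theorem isAlt_dual (X : M4) : IsAlt (dual X) := ⟨_, _, _, _, _, _, rfl⟩

theorem mul_dual {X : M4} (hX : IsAlt X) : X * dual X = pf X • (1 : M4) := by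
  obtain ⟨a, b, c, d, e, f, rfl⟩ := hX
  ext i j
  fin_cases i <;> fin_cases j <;>
    simp [dual, altMat, pf, Matrix.mul_apply, Fin.sum_univ_four] <;> ring

theorem mul_dual_mul {X Y : M4} (hX : IsAlt X) (hY : IsAlt Y) :
    X * dual Y * X = bil X Y • X - pf X • Y := by
  obtain ⟨a, b, c, d, e, f, rfl⟩ := hX
  obtain ⟨a', b', c', d', e', f', rfl⟩ := hY
  ext i j
  fin_cases i <;> fin_cases j <;>
    simp [dual, bil, altMat, pf, Matrix.mul_apply, Fin.sum_univ_four] <;> ring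

theorem dual_dual {X : M4} (hX : IsAlt X) : dual (dual X) = X := by
  obtain ⟨a, b, c, d, e, f, rfl⟩ := hX
  ext i j
  fin_cases i <;> fin_cases j <;> simp [dual, altMat]

theorem bil_dual (X Y : M4) : bil (dual X) (dual Y) = bil X Y := by
  simp [bil, pf, dual, altMat]; ring

theorem pf_dual (X : M4) : pf (dual X) = pf X := by simp [pf, dual, altMat]; ring

theorem det_dual (X : M4) : (dual X).det = pf X * pf X := by rw [det_alt (isAlt_dual X), pf_dual]

/-- A product of an antisymmetric matrix and a dual one acts as two reflections. -/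
theorem clifford {X Y Z : M4} (hX : IsAlt X) (hY : IsAlt Y) (hZ : IsAlt Z) :
    X * dual Z * Y * (X * dual Z)ᵀ =
      bil Y Z • (bil X Z • X - pf X • Z) - pf Z • (bil X Y • X - pf X • Y) := by
  have ht : (X * dual Z)ᵀ = dual Z * X := by
    rw [Matrix.transpose_mul, isAlt_transpose (isAlt_dual Z), isAlt_transpose hX, neg_mul, mul_neg, neg_neg]
  have h2 : dual Z * Y * dual Z = bil Z Y • dual Z - pf Z • dual Y := by
    have := mul_dual_mul (isAlt_dual Z) (isAlt_dual Y)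
    rwa [dual_dual hY, bil_dual, pf_dual] at this
  rw [ht, show X * dual Z * Y * (dual Z * X) = X * (dual Z * Y * dual Z) * X by simp only [mul_assoc],
    h2, mul_sub, sub_mul, mul_smul_comm, mul_smul_comm, smul_mul_assoc, smul_mul_assoc,
    mul_dual_mul hX hZ, mul_dual_mul hX hY, bil_comm Z Y]

/-- The six words. -/
def w6 : Fin 6 → E :=
  ![0, (1, 0, 0, 0), (0, 1, 0, 0), (1, 1, 1, 0), (1, 1, 0, 1), (1, 1, 1, 1)]

theorem w6_qf : ∀ k, qf (w6 k) = 0 := by decide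

theorem w6_pair : ∀ a b l : Fin 6, a ≠ b →
    bf (w6 a + w6 b) (w6 l) + (if a = 0 ∨ b = 0 then 1 else 0) =
      if l = a ∨ l = b then 1 else 0 := by decide

/-- Seven words with square minus one. -/
def odd7 : Fin 7 → E :=
  ![(0, 0, 1, 0), (0, 0, 0, 1), (0, 0, 1, 1), (1, 0, 1, 0), (1, 0, 0, 1), (1, 0, 1, 1), (0, 1, 1, 0)]

theorem odd7_spec : Function.Injective odd7 ∧ ∀ k, qf (odd7 k) = 1 := by decide

/-- An eigenmatrix of one more involution. -/
theorem eigen_step {g X : M4} (hg : g * g = 1 ∨ g * g = -1) (hX : IsAlt X) (hX0 : X ≠ 0) :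
    ∃ (X' : M4) (ε : F), IsAlt X' ∧ X' ≠ 0 ∧ ε * ε = 1 ∧ g * X' * gᵀ = ε • X' ∧
      ∀ (h : M4) (δ : F), (h * g = g * h ∨ h * g = -(g * h)) → h * X * hᵀ = δ • X →
        h * X' * hᵀ = δ • X' := by
  have hgg : g * (g * X * gᵀ) * gᵀ = X := by
    rw [show g * (g * X * gᵀ) * gᵀ = (g * g) * X * (g * g)ᵀ by
      rw [Matrix.transpose_mul]; simp only [mul_assoc]]
    rcases hg with h | h <;> rw [h] <;> simp
  by_cases hz : X + g * X * gᵀ = 0
  · refine ⟨X, -1, hX, hX0, by ring, ?_, fun h δ _ hh => hh⟩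
    rw [neg_one_smul]
    exact eq_neg_of_add_eq_zero_right hz
  · refine ⟨X + g * X * gᵀ, 1, isAlt_add hX (isAlt_conj hX g), hz, one_mul 1, ?_, fun h δ hc hh => ?_⟩
    · rw [mul_add, add_mul, hgg, one_smul, add_comm]
    · have e1 : h * (g * X * gᵀ) * hᵀ = δ • (g * X * gᵀ) := by
        rw [show h * (g * X * gᵀ) * hᵀ = (h * g) * X * (h * g)ᵀ by
          rw [Matrix.transpose_mul]; simp only [mul_assoc]]
        have e2 : (h * g) * X * (h * g)ᵀ = g * (h * X * hᵀ) * gᵀ := by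
          rcases hc with hc | hc <;> rw [hc] <;> simp [Matrix.transpose_mul, mul_assoc]
        rw [e2, hh, mul_smul_comm, smul_mul_assoc]
      rw [mul_add, add_mul, e1, hh, smul_add]

variable {R : Subgroup (GL (Fin 4) F)} (Q : Quad R)

/-- Fixed up to a sign. -/
def Eig (C : M4) (x : GL (Fin 4) F) : Prop :=
  ∃ ε : F, ε * ε = 1 ∧ (x : M4) * C * (x : M4)ᵀ = ε • C

theorem Eig.mul {C : M4} {x y : GL (Fin 4) F} (hx : Eig C x) (hy : Eig C y) : Eig C (x * y) := by
  obtain ⟨ε, he, hε⟩ := hx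
  obtain ⟨δ, hd, hδ⟩ := hy
  refine ⟨ε * δ, by linear_combination (δ * δ) * he + hd, ?_⟩
  rw [Units.val_mul, show (x : M4) * (y : M4) * C * ((x : M4) * (y : M4))ᵀ = (x : M4) * ((y : M4) * C * (y : M4)ᵀ) * (x : M4)ᵀ by
    rw [Matrix.transpose_mul]; simp only [mul_assoc], hδ, mul_smul_comm, smul_mul_assoc, hε, smul_smul,
    mul_comm]

theorem Eig.pow {C : M4} {x : GL (Fin 4) F} (hx : Eig C x) (k : ℕ) : Eig C (x ^ k) := by
  induction k with
  | zero => exact ⟨1, one_mul 1, by simp⟩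
  | succ k ih => rw [pow_succ]; exact ih.mul hx

/-- An antisymmetric matrix fixed by all words. -/
theorem exists_C (h2 : (2 : F) ≠ 0) : ∃ C : M4, IsAlt C ∧ C.det ≠ 0 ∧
    ∀ w, Q.Wm w * C * (Q.Wm w)ᵀ = C := by
  classical
  have hι : Fintype.card (Fin 4) = 4 := Fintype.card_fin 4
  have hX : IsAlt (altMat 1 0 0 0 0 0 : M4) := ⟨_, _, _, _, _, _, rfl⟩
  have hX0 : (altMat 1 0 0 0 0 0 : M4) ≠ 0 := fun h => by
    simpa [altMat] using congrFun (congrFun h 0) 1
  obtain ⟨X1, ε1, a1, n1, q1, g1, -⟩ := eigen_step (g := (Q.a1 : M4)) (Or.inl Q.a1_sq) hX hX0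
  obtain ⟨X2, ε2, a2, n2, q2, g2, k2⟩ := eigen_step (g := (Q.b1 : M4)) (Or.inl Q.b1_sq) a1 n1
  obtain ⟨X3, ε3, a3, n3, q3, g3, k3⟩ := eigen_step (g := (Q.a2 : M4)) (Or.inr Q.a2_sq) a2 n2
  obtain ⟨X4, ε4, a4, n4, q4, g4, k4⟩ := eigen_step (g := (Q.b2 : M4)) (Or.inr Q.b2_sq) a3 n3
  have h1 := k4 _ _ (Or.inl Q.c_ab.eq) (k3 _ _ (Or.inl Q.c_aa.eq)
    (k2 _ _ (Or.inr (by rw [Q.anti1, neg_neg])) g1))
  have h1' := k4 _ _ (Or.inl Q.c_bb.eq) (k3 _ _ (Or.inl Q.c_ba.eq) g2)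
  have h2' := k4 _ _ (Or.inr (by rw [Q.anti2, neg_neg])) g3
  have hW : ∀ w, Eig X4 (Q.W w) := fun w =>
    ((Eig.pow (C := X4) ⟨ε1, q1, h1⟩ _).mul (Eig.pow ⟨ε2, q2, h1'⟩ _)).mul
      ((Eig.pow ⟨ε3, q3, h2'⟩ _).mul (Eig.pow ⟨ε4, q4, g4⟩ _))
  obtain ⟨z1, rfl⟩ := exists_sgn q1
  obtain ⟨z2, rfl⟩ := exists_sgn q2
  obtain ⟨z3, rfl⟩ := exists_sgn q3
  obtain ⟨z4, rfl⟩ := exists_sgn q4
  obtain ⟨v, v1, v2, v3, v4⟩ := bf_signs z1 z2 z3 z4
  set C : M4 := Q.Wm v * X4 with hC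
  have hgen : ∀ (w : E) (z : ZMod 2), bf v w = z → Q.Wm w * X4 * (Q.Wm w)ᵀ = (sgn z : F) • X4 →
      Q.Wm w * C * (Q.Wm w)ᵀ = C := fun w z hz hw => by
    rw [hC, ← mul_assoc, Q.Wm_comm w v, smul_mul_assoc, smul_mul_assoc,
      show Q.Wm v * Q.Wm w * X4 * (Q.Wm w)ᵀ = Q.Wm v * (Q.Wm w * X4 * (Q.Wm w)ᵀ) by simp only [mul_assoc],
      hw, mul_smul_comm, smul_smul, show bf w v = z by rw [← hz, bf, bf, add_comm], sgn_sq, one_smul]
  have e1 : Q.Wm (1, 0, 0, 0) = (Q.a1 : M4) := by simp [Quad.Wm, Quad.W, ZMod.val_one]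
  have e2 : Q.Wm (0, 1, 0, 0) = (Q.b1 : M4) := by simp [Quad.Wm, Quad.W, ZMod.val_one]
  have e3 : Q.Wm (0, 0, 1, 0) = (Q.a2 : M4) := by simp [Quad.Wm, Quad.W, ZMod.val_one]
  have e4 : Q.Wm (0, 0, 0, 1) = (Q.b2 : M4) := by simp [Quad.Wm, Quad.W, ZMod.val_one]
  have hfix : ∀ w, Q.Wm w * C * (Q.Wm w)ᵀ = C := by
    intro w
    have step : ∀ {A B : M4}, A * C * Aᵀ = C → B * C * Bᵀ = C → (A * B) * C * (A * B)ᵀ = C :=
      fun {A B} hA hB => by
        rw [show A * B * C * (A * B)ᵀ = A * (B * C * Bᵀ) * Aᵀ by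
          rw [Matrix.transpose_mul]; simp only [mul_assoc], hB, hA]
    have pw : ∀ {A : M4} (k : ZMod 2), A * C * Aᵀ = C → (A ^ k.val) * C * (A ^ k.val)ᵀ = C :=
      fun {A} k hA => by
        rcases two_cases k with rfl | rfl
        · simp
        · simpa [ZMod.val_one] using hA
    simp only [Quad.Wm, Quad.W, Units.val_mul, Units.val_pow_eq_pow_val]
    exact step (step (pw _ (e1 ▸ hgen _ _ v1 (e1 ▸ h1))) (pw _ (e2 ▸ hgen _ _ v2 (e2 ▸ h1'))))
      (step (pw _ (e3 ▸ hgen _ _ v3 (e3 ▸ h2'))) (pw _ (e4 ▸ hgen _ _ v4 (e4 ▸ g4))))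
  have hswap : ∀ w, C * (Q.Wm w)ᵀ = (sgn (qf w) : F) • (Q.Wm w * C) := fun w => by
    have h := congrArg (fun M => Q.Wm w * M) (hfix w)
    simp only [← mul_assoc] at h
    rw [show Q.Wm w * Q.Wm w = (sgn (qf w) : F) • (1 : M4) from Q.W_sq w, smul_mul_assoc, one_mul,
      smul_mul_assoc] at h
    rw [← h, smul_smul, sgn_sq, one_smul]
  have hC0 : C ≠ 0 := fun h0 => by
    have := congrArg (fun M => ((Q.W v)⁻¹ : GL (Fin 4) F).val * M) h0
    simp only [hC, ← mul_assoc, mul_zero] at this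
    rw [show ((Q.W v)⁻¹ : GL (Fin 4) F).val * Q.Wm v = 1 from (Q.W v).inv_mul, one_mul] at this
    exact n4 this
  have hdet : C.det ≠ 0 := by
    intro hd
    obtain ⟨u, hu, hCu⟩ := Matrix.exists_mulVec_eq_zero_iff.mpr hd
    obtain ⟨j, hj⟩ := Function.ne_iff.mp hu
    refine hC0 (Matrix.ext_of_mulVec_single fun k => ?_)
    rw [Matrix.zero_mulVec]
    set N : M4 := Matrix.vecMulVec (Pi.single k 1) (Pi.single j (u j)⁻¹) with hN
    have hNu : N *ᵥ u = Pi.single k 1 := by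
      rw [hN, Matrix.vecMulVec_mulVec, single_dotProduct, inv_mul_cancel₀ hj]
      simp
    have hNs : (Nᵀ)ᵀ = N := Matrix.transpose_transpose N
    rw [← hNu, ← hNs, ← Q.sum_repr hι h2 Nᵀ]
    simp only [Matrix.transpose_sum, Matrix.transpose_smul, Matrix.sum_mulVec, Matrix.mulVec_sum]
    refine Finset.sum_eq_zero fun w _ => ?_
    rw [Matrix.smul_mulVec, Matrix.mulVec_smul, Matrix.mulVec_mulVec, hswap, Matrix.smul_mulVec,
      ← Matrix.mulVec_mulVec, hCu, Matrix.mulVec_zero, smul_zero, smul_zero]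
  obtain ⟨δ, hδ2, hδ⟩ := hW v
  have hCT : Cᵀ = -((δ * sgn (qf v)) • C) := by
    have h := congrArg (fun M => Q.Wm v * M) hδ
    simp only [← mul_assoc] at h
    rw [show (Q.W v : M4) = Q.Wm v from rfl, show Q.Wm v * Q.Wm v = (sgn (qf v) : F) • (1 : M4) from Q.W_sq v,
      smul_mul_assoc, one_mul, smul_mul_assoc, mul_smul_comm] at h
    have h' := congrArg (fun M => (sgn (qf v) : F) • M) h
    simp only [smul_smul, sgn_sq, one_smul] at h'
    rw [hC, Matrix.transpose_mul, isAlt_transpose a4, neg_mul, h', mul_comm δ]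
  have hδs : (δ * sgn (qf v)) * (δ * sgn (qf v)) = 1 := by
    linear_combination (sgn (qf v) * sgn (qf v)) * hδ2 + sgn_sq (F := F) (qf v)
  rcases mul_self_eq_one_iff.mp hδs with hs | hs
  · exact ⟨C, isAlt_of_transpose h2 (by rw [hCT, hs, one_smul]), hdet, hfix⟩
  exfalso
  have hsym : Cᵀ = C := by rw [hCT, hs, neg_one_smul, neg_neg]
  have hodd : ∀ k, IsAlt (Q.Wm (odd7 k) * C) := fun k => by
    refine isAlt_of_transpose h2 ?_
    rw [Matrix.transpose_mul, hsym, hswap, odd7_spec.2 k, sgn_one, neg_one_smul]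
  have hli : LinearIndependent F fun k => Q.Wm (odd7 k) * C := by
    have h0 : LinearIndependent F fun k => Q.Wm (odd7 k) :=
      (Q.linearIndependent hι h2).comp _ odd7_spec.1
    refine Fintype.linearIndependent_iff.mpr fun a ha k => Fintype.linearIndependent_iff.mp h0 a ?_ k
    have hu : IsUnit C := (Matrix.isUnit_iff_isUnit_det C).mpr (isUnit_iff_ne_zero.mpr hdet)
    refine hu.mul_right_cancel ?_
    rw [zero_mul, Finset.sum_mul, ← ha]
    simp only [smul_mul_assoc]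
  let L : M4 →ₗ[F] (Fin 6 → F) :=
    { toFun := fun X => ![X 0 1, X 0 2, X 0 3, X 1 2, X 1 3, X 2 3]
      map_add' := fun X Y => by ext i; fin_cases i <;> simp
      map_smul' := fun t X => by ext i; fin_cases i <;> simp }
  have hle : LinearIndependent F fun k => L (Q.Wm (odd7 k) * C) := by
    refine Fintype.linearIndependent_iff.mpr fun a ha k => Fintype.linearIndependent_iff.mp hli a ?_ k
    have halt : IsAlt (∑ j, a j • (Q.Wm (odd7 j) * C)) := isAlt_sum _ fun j => isAlt_smul (hodd j) _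
    have hz : L (∑ j, a j • (Q.Wm (odd7 j) * C)) = 0 := by rw [map_sum]; simpa using ha
    obtain ⟨p, q, r, s, t, u, hX'⟩ := halt
    rw [hX'] at hz ⊢
    have hz' := fun i => congrFun hz i
    have := hz' 0; have := hz' 1; have := hz' 2; have := hz' 3; have := hz' 4; have := hz' 5
    simp [L, altMat] at *
    ext i j
    fin_cases i <;> fin_cases j <;> simp [*]
  have := hle.fintype_card_le_finrank
  simp at this

/-- Six antisymmetric matrices under the sign changes. -/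
structure Frame6 (R : Subgroup (GL (Fin 4) F)) where
  two : (2 : F) ≠ 0
  A : Fin 6 → M4
  alt : ∀ k, IsAlt (A k)
  κ : F
  κ0 : κ ≠ 0
  ortho : ∀ k l, bil (A k) (A l) = if k = l then 2 * κ else 0
  flipElt : ∀ a b, a ≠ b → ∃ x ∈ R, (x : M4).det = 1 ∧
    ∀ l, (x : M4) * A l * (x : M4)ᵀ = (if l = a ∨ l = b then (-1 : F) else 1) • A l
  ker : ∀ h : GL (Fin 4) F, (∀ l, (h : M4) * A l * (h : M4)ᵀ = A l) → h ∈ R
  signs : ∀ x ∈ R, (x : M4).det = 1 ∧ ∀ l, ∃ ε : F, ε * ε = 1 ∧ (x : M4) * A l * (x : M4)ᵀ = ε • A l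
  gen : ∀ g : GL (Fin 4) F, (∀ x ∈ R, (∃ a b, a ≠ b ∧
    ∀ l, (x : M4) * A l * (x : M4)ᵀ = (if l = a ∨ l = b then (-1 : F) else 1) • A l) →
      g * x * g⁻¹ ∈ R) → g ∈ Cfsg.Geo.subgroupNormalizer R

variable [Fintype F]

/-- Existence of the six matrices. -/
theorem exists_frame6 (h2 : (2 : F) ≠ 0)
    (hgen : ∀ x ∈ R, ∃ (v : E) (c : F), c ≠ 0 ∧ (x : M4) = c • Q.Wm v)
    (hsq : ∀ x ∈ R, (x : M4) * x = 1 ∨ (x : M4) * x = -1)
    {u : GL (Fin 4) F} {i : F} (hu : u ∈ R) (hui : (u : M4) = i • 1) (hi : i * i = -1) :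
    Nonempty (Frame6 R) := by
  classical
  have hι : Fintype.card (Fin 4) = 4 := Fintype.card_fin 4
  obtain ⟨C, hC, hCd, hfix⟩ := exists_C Q h2
  have hCu : IsUnit C := (Matrix.isUnit_iff_isUnit_det C).mpr (isUnit_iff_ne_zero.mpr hCd)
  have hpf : pf C ≠ 0 := fun h0 => hCd (by rw [det_alt hC, h0, mul_zero])
  have hswap : ∀ w, C * (Q.Wm w)ᵀ = (sgn (qf w) : F) • (Q.Wm w * C) := fun w => by
    have h := congrArg (fun M => Q.Wm w * M) (hfix w)
    simp only [← mul_assoc] at h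
    rw [show Q.Wm w * Q.Wm w = (sgn (qf w) : F) • (1 : M4) from Q.W_sq w, smul_mul_assoc, one_mul,
      smul_mul_assoc] at h
    rw [← h, smul_smul, sgn_sq, one_smul]
  have hWC : ∀ k, IsAlt (Q.Wm (w6 k) * C) := fun k => by
    refine isAlt_of_transpose h2 ?_
    rw [Matrix.transpose_mul, isAlt_transpose hC, neg_mul, hswap, w6_qf k, sgn_zero, one_smul]
  have hdetW : ∀ w, (Q.Wm w).det = 1 := fun w => by
    have h1 := pf_congr hC (Q.Wm w)
    rw [hfix w] at h1
    exact (mul_eq_right₀ hpf).mp h1.symm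
  have hact : ∀ (c : F) (w v : E), (c • Q.Wm w) * (Q.Wm v * C) * (c • Q.Wm w)ᵀ =
      (c * c * sgn (bf w v)) • (Q.Wm v * C) := fun c w v => by
    rw [Matrix.transpose_smul, smul_mul_assoc, smul_mul_assoc, mul_smul_comm, smul_smul,
      show Q.Wm w * (Q.Wm v * C) * (Q.Wm w)ᵀ = Q.Wm w * Q.Wm v * C * (Q.Wm w)ᵀ by simp only [mul_assoc],
      Q.Wm_comm w v, smul_mul_assoc, smul_mul_assoc,
      show Q.Wm v * Q.Wm w * C * (Q.Wm w)ᵀ = Q.Wm v * (Q.Wm w * C * (Q.Wm w)ᵀ) by simp only [mul_assoc],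
      hfix w, smul_smul]
  have hs : ∀ k, ∃ s : F, s ≠ 0 ∧ s * s * pf (Q.Wm (w6 k) * C) = pf C := fun k => by
    have h1 : pf (Q.Wm (w6 k) * C) * pf (Q.Wm (w6 k) * C) = pf C * pf C := by
      rw [← det_alt (hWC k), ← det_alt hC, Matrix.det_mul, hdetW, one_mul]
    rcases mul_self_eq_mul_self_iff.mp h1 with h | h
    · exact ⟨1, one_ne_zero, by rw [one_mul, one_mul, h]⟩
    · exact ⟨i, fun h0 => by rw [h0, zero_mul] at hi; exact one_ne_zero (neg_eq_zero.mp hi.symm),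
        by rw [hi, h]; ring⟩
  choose s hs0 hsn using hs
  set A : Fin 6 → M4 := fun k => s k • (Q.Wm (w6 k) * C) with hA
  have halt : ∀ k, IsAlt (A k) := fun k => isAlt_smul (hWC k) _
  have hxA : ∀ (c : F) (w : E) l, (c • Q.Wm w) * A l * (c • Q.Wm w)ᵀ =
      (c * c * sgn (bf w (w6 l))) • A l := fun c w l => by
    simp only [hA]
    rw [mul_smul_comm (s l) (c • Q.Wm w), smul_mul_assoc (s l), hact, smul_comm]
  have hc4 : ∀ x ∈ R, ∀ (v : E) (c : F), (x : M4) = c • Q.Wm v → (x : M4) * x = 1 ∨ (x : M4) * x = -1 →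
      c * c = 1 ∨ c * c = -1 := fun x _ v c hx hsq => by
    rw [hx, smul_mul_assoc, mul_smul_comm, smul_smul, show Q.Wm v * Q.Wm v = (sgn (qf v) : F) • (1 : M4)
      from Q.W_sq v, smul_smul, ← neg_one_smul F (1 : M4)] at hsq
    conv at hsq => lhs; rhs; rw [← one_smul F (1 : M4)]
    have inj := smul_left_injective F (one_ne_zero (α := M4))
    rcases two_cases (qf v) with hz | hz <;> rw [hz] at hsq <;>
      rcases hsq with h | h <;> have h' := inj h <;> simp at h'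
    · exact Or.inl h'
    · exact Or.inr h'
    · exact Or.inr (by linear_combination -h')
    · exact Or.inl (by linear_combination h')
  have hflip : ∀ a b : Fin 6, a ≠ b → ∃ x ∈ R, (x : M4).det = 1 ∧
      ∀ l, (x : M4) * A l * (x : M4)ᵀ = (if l = a ∨ l = b then (-1 : F) else 1) • A l := by
    intro a b hab
    set t : ZMod 2 := if a = 0 ∨ b = 0 then 1 else 0 with ht
    set c : F := if a = 0 ∨ b = 0 then i else 1 with hc
    have hcc : c * c = sgn t := by
      rw [hc, ht]; split_ifs <;> simp [hi, sgn_one, sgn_zero]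
    have hc4' : c ^ 4 = 1 := by
      rw [show c ^ 4 = (c * c) * (c * c) by ring, hcc, sgn_sq]
    obtain ⟨x, hx, hxv⟩ : ∃ x ∈ R, (x : M4) = c • Q.Wm (w6 a + w6 b) := by
      rw [hc]; split_ifs
      · exact ⟨u * Q.W _, R.mul_mem hu (Q.W_mem _), by
          rw [Units.val_mul, hui, smul_mul_assoc, one_mul]; rfl⟩
      · exact ⟨Q.W _, Q.W_mem _, by rw [one_smul]; rfl⟩
    refine ⟨x, hx, ?_, fun l => ?_⟩
    · rw [hxv, Matrix.det_smul, hι, hc4', hdetW, one_mul]
    · rw [hxv, hxA, hcc, ← sgn_add, add_comm, w6_pair a b l hab]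
      congr 1
      split_ifs <;> simp [sgn_one, sgn_zero]
  have hneg : ∃ n ∈ R, (n : M4) = -1 := ⟨u * u, R.mul_mem hu hu, by
    rw [Units.val_mul, hui, smul_mul_assoc, one_mul, smul_smul, hi, neg_one_smul]⟩
  have hortho : ∀ k l, bil (A k) (A l) = if k = l then 2 * pf C else 0 := by
    intro k l
    by_cases hkl : k = l
    · subst hkl; rw [if_pos rfl, bil_self]
      simp only [hA]
      rw [pf_smul, hsn k]
    rw [if_neg hkl]
    obtain ⟨m, hm1, hm2⟩ : ∃ m, m ≠ k ∧ m ≠ l := by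
      revert k l; decide
    obtain ⟨x, -, hxd, hx⟩ := hflip k m (Ne.symm hm1)
    have h1 := bil_congr (halt k) (halt l) (x : M4)
    rw [hx k, hx l, hxd, one_mul, if_pos (Or.inl rfl),
      if_neg (by simp [Ne.symm hkl, Ne.symm hm2]), one_smul, bil_smul_left] at h1
    exact (mul_eq_zero.mp (show (2 : F) * bil (A k) (A l) = 0 by linear_combination -h1)).resolve_left h2
  refine ⟨⟨h2, A, halt, pf C, hpf, hortho, hflip, fun h hh => ?_, fun x hx => ?_, fun g hg => ?_⟩⟩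
  · have hk : ∀ l, (h : M4) * (Q.Wm (w6 l) * C) * (h : M4)ᵀ = Q.Wm (w6 l) * C := fun l => by
      have := hh l
      simp only [hA] at this
      rw [mul_smul_comm, smul_mul_assoc] at this
      exact smul_right_injective M4 (hs0 l) this
    have h0 : (h : M4) * C * (h : M4)ᵀ = C := by
      have := hk 0
      rwa [show w6 0 = 0 from rfl, Q.Wm_zero, one_mul] at this
    have hCh : IsUnit (C * (h : M4)ᵀ) :=
      hCu.mul ((Matrix.isUnit_iff_isUnit_det _).mpr (by
        rw [Matrix.det_transpose]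
        exact (Matrix.isUnit_iff_isUnit_det _).mp h.isUnit))
    have hcom : ∀ l, Commute (h : M4) (Q.Wm (w6 l)) := fun l => hCh.mul_right_cancel (by
      calc (h : M4) * Q.Wm (w6 l) * (C * (h : M4)ᵀ) = (h : M4) * (Q.Wm (w6 l) * C) * (h : M4)ᵀ := by
            simp only [mul_assoc]
        _ = Q.Wm (w6 l) * C := hk l
        _ = Q.Wm (w6 l) * ((h : M4) * C * (h : M4)ᵀ) := by rw [h0]
        _ = _ := by simp only [mul_assoc])
    have ha := hcom 1
    have hb := hcom 2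
    have hc := hcom 3
    have hd := hcom 4
    rw [show Q.Wm (w6 1) = (Q.a1 : M4) by simp [w6, Quad.Wm, Quad.W, ZMod.val_one]] at ha
    rw [show Q.Wm (w6 2) = (Q.b1 : M4) by simp [w6, Quad.Wm, Quad.W, ZMod.val_one]] at hb
    rw [show Q.Wm (w6 3) = (Q.a1 : M4) * Q.b1 * Q.a2 by simp [w6, Quad.Wm, Quad.W, ZMod.val_one]] at hc
    rw [show Q.Wm (w6 4) = (Q.a1 : M4) * Q.b1 * Q.b2 by simp [w6, Quad.Wm, Quad.W, ZMod.val_one]] at hd
    have hab : Commute (h : M4) (((Q.a1 * Q.b1)⁻¹ : GL (Fin 4) F) : M4) :=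
      (show Commute (h : M4) ((Q.a1 * Q.b1 : GL (Fin 4) F) : M4) by
        rw [Units.val_mul]; exact ha.mul_right hb).units_inv_right
    have hca : Commute (h : M4) (Q.a2 : M4) := by
      rw [show (Q.a2 : M4) = (((Q.a1 * Q.b1)⁻¹ : GL (Fin 4) F) : M4) * ((Q.a1 : M4) * Q.b1 * Q.a2) by
        rw [← Units.val_mul, ← Units.val_mul, ← Units.val_mul, inv_mul_cancel_left]]
      exact hab.mul_right hc
    have hcb : Commute (h : M4) (Q.b2 : M4) := by
      rw [show (Q.b2 : M4) = (((Q.a1 * Q.b1)⁻¹ : GL (Fin 4) F) : M4) * ((Q.a1 : M4) * Q.b1 * Q.b2) by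
        rw [← Units.val_mul, ← Units.val_mul, ← Units.val_mul, inv_mul_cancel_left]]
      exact hab.mul_right hd
    obtain ⟨c, hc'⟩ := Q.scalar_of_commute hι h2 ha hb hca hcb
    rw [hc', Matrix.transpose_smul, Matrix.transpose_one, smul_mul_assoc, one_mul, smul_mul_assoc,
      mul_smul_comm, mul_one, smul_smul] at h0
    have hcc : c * c = 1 := smul_left_injective F (fun e => hCd (by rw [e, Matrix.det_zero]))
      (show (c * c) • C = (1 : F) • C by rw [h0, one_smul])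
    rcases mul_self_eq_one_iff.mp hcc with rfl | rfl
    · rw [show h = 1 from Units.ext (by rw [hc', one_smul, Units.val_one])]; exact one_mem R
    · obtain ⟨n, hn, hnm⟩ := hneg
      rw [show h = n from Units.ext (by rw [hc', neg_one_smul, hnm])]; exact hn
  · obtain ⟨v, c, hc, hxv⟩ := hgen x hx
    have hx4 : (c : F) * c = 1 ∨ c * c = -1 := hc4 x hx v c hxv (hsq x hx)
    refine ⟨?_, fun l => ⟨c * c * sgn (bf v (w6 l)), ?_, by rw [hxv, hxA]⟩⟩
    · rw [hxv, Matrix.det_smul, hι, hdetW, mul_one, show c ^ 4 = (c * c) * (c * c) by ring]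
      rcases hx4 with h | h <;> rw [h] <;> ring
    · rcases hx4 with h | h <;> rw [h] <;> simp [sgn_sq]
  · have key : ∀ a b : Fin 6, a ≠ b → g * Q.W (w6 a + w6 b) * g⁻¹ ∈ R := fun a b hab => by
      obtain ⟨x, hx, hxv, hxs⟩ : ∃ x ∈ R, (∃ z : GL (Fin 4) F, z ∈ R ∧ (∃ c : F, (z : M4) = c • 1) ∧
          x = z * Q.W (w6 a + w6 b)) ∧
          ∀ l, (x : M4) * A l * (x : M4)ᵀ = (if l = a ∨ l = b then (-1 : F) else 1) • A l := by
        by_cases h0 : a = 0 ∨ b = 0
        · refine ⟨u * Q.W _, R.mul_mem hu (Q.W_mem _), ⟨u, hu, ⟨i, hui⟩, rfl⟩, fun l => ?_⟩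
          rw [Units.val_mul, hui, smul_mul_assoc, one_mul,
            show (Q.W (w6 a + w6 b) : M4) = Q.Wm (w6 a + w6 b) from rfl, hxA, hi]
          congr 1
          have := w6_pair a b l hab
          rw [if_pos h0] at this
          rw [← sgn_one (F := F), ← sgn_add, add_comm, this]
          split_ifs <;> simp [sgn_one, sgn_zero]
        · refine ⟨1 * Q.W _, by rw [one_mul]; exact Q.W_mem _, ⟨1, one_mem R, ⟨1, by simp⟩, rfl⟩,
            fun l => ?_⟩
          rw [one_mul, ← one_smul F (Q.W (w6 a + w6 b) : M4),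
            show (Q.W (w6 a + w6 b) : M4) = Q.Wm (w6 a + w6 b) from rfl, hxA, one_mul, one_mul]
          congr 1
          have := w6_pair a b l hab
          rw [if_neg h0, add_zero] at this
          rw [this]
          split_ifs <;> simp [sgn_one, sgn_zero]
      obtain ⟨z, hz, ⟨c, hzc⟩, rfl⟩ := hxv
      have h1 := hg _ hx ⟨a, b, hab, hxs⟩
      have hgz : g * z = z * g := Units.ext (by
        rw [Units.val_mul, Units.val_mul, hzc, mul_smul_comm, mul_one, smul_mul_assoc, one_mul])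
      have e : g * Q.W (w6 a + w6 b) * g⁻¹ = z⁻¹ * (g * (z * Q.W (w6 a + w6 b)) * g⁻¹) := by
        rw [← mul_assoc g z, hgz]; group
      rw [e]
      exact R.mul_mem (R.inv_mem hz) h1
    have k1 := key 0 1 (by decide); have k2 := key 0 2 (by decide)
    have k3 := key 0 3 (by decide); have k4 := key 0 4 (by decide)
    simp [w6, Quad.W, ZMod.val_one] at k1 k2 k3 k4
    have hmap : ∀ x y : GL (Fin 4) F, g * x * g⁻¹ ∈ R → g * y * g⁻¹ ∈ R → g * (x * y) * g⁻¹ ∈ R :=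
      fun x y hx hy => by
        rw [show g * (x * y) * g⁻¹ = (g * x * g⁻¹) * (g * y * g⁻¹) by group]; exact R.mul_mem hx hy
    have h12 : g * (Q.a1 * Q.b1)⁻¹ * g⁻¹ ∈ R := by
      rw [show g * (Q.a1 * Q.b1)⁻¹ * g⁻¹ = (g * (Q.a1 * Q.b1) * g⁻¹)⁻¹ by group]
      exact R.inv_mem (hmap _ _ k1 k2)
    refine Q.mem_normalizer_of_gens hgen k1 k2 ?_ ?_
    · rw [show Q.a2 = (Q.a1 * Q.b1)⁻¹ * (Q.a1 * Q.b1 * Q.a2) by group]
      exact hmap _ _ h12 k3
    · rw [show Q.b2 = (Q.a1 * Q.b1)⁻¹ * (Q.a1 * Q.b1 * Q.b2) by group]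
      exact hmap _ _ h12 k4

end Cfsg.Agent.FrameSix.Klein
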