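import Cfsg.Agent.Lib.FrameSix.Engine
import Cfsg.Agent.Lib.FrameSix.Klein
import Cfsg.Agent.Lib.Elusive19.Pauli4.Setup
import Cfsg.Agent.Lib.Linear.Simple
import Cfsg.Agent.Lib.Subspaces.Transvection

/-!
# The normaliser of `4 ∘ 2^(1+4)` is maximal in `SL(4,p)`

Through the congruence action on antisymmetric matrices the normaliser is the preimage of the
monomial elements, and an overgroup with a non-monomial image pairs all unit vectors.
-/

set_option autoImplicit false

namespace Cfsg.Agent.FrameSix.Klein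

open Matrix Cfsg.Agent.Lib.LowIso Cfsg.Agent.TableRelax.Mono

variable {F : Type*} [Field F]

local notation "M4" => Matrix (Fin 4) (Fin 4) F
local notation "V" => (Fin 6 → F)
local notation "GG" => ((Fin 6 → F) ≃ₗ[F] (Fin 6 → F))

variable {S : Subgroup (GL (Fin 4) F)} (K : Frame6 S)

namespace Frame6

/-- The antisymmetric matrix with the given coordinates. -/
def emb (a : V) : M4 := ∑ k, a k • K.A k

/-- The coordinates. -/
def coef (X : M4) : V := fun k => bil X (K.A k) / (2 * K.κ)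

theorem emb_alt (a : V) : IsAlt (K.emb a) := isAlt_sum _ fun k => isAlt_smul (K.alt k) _

theorem emb_add (a b : V) : K.emb (a + b) = K.emb a + K.emb b := by
  simp [emb, add_smul, Finset.sum_add_distrib]

theorem emb_smul (c : F) (a : V) : K.emb (c • a) = c • K.emb a := by
  simp [emb, Finset.smul_sum, smul_smul]

theorem emb_e (k : Fin 6) : K.emb (e k) = K.A k := by
  rw [emb, Finset.sum_eq_single k (fun l _ hl => by rw [e_ne hl, zero_smul]) (by simp), e_same, one_smul]

theorem bil_emb_A (a : V) (l : Fin 6) : bil (K.emb a) (K.A l) = 2 * K.κ * a l := by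
  have hlin : ∀ s : Finset (Fin 6), bil (∑ k ∈ s, a k • K.A k) (K.A l) =
      ∑ k ∈ s, a k * bil (K.A k) (K.A l) := by
    intro s
    induction s using Finset.induction_on with
    | empty => simp [bil, pf]
    | insert b t hb ih => rw [Finset.sum_insert hb, Finset.sum_insert hb, bil_add_left, bil_smul_left, ih]
  rw [emb, hlin, Finset.sum_eq_single l (fun k _ hk => by rw [K.ortho, if_neg hk, mul_zero]) (by simp),
    K.ortho, if_pos rfl]
  ring

theorem two_kappa_ne : 2 * K.κ ≠ 0 := mul_ne_zero K.two K.κ0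

theorem coef_emb (a : V) : K.coef (K.emb a) = a := funext fun k => by
  rw [coef, bil_emb_A, mul_div_cancel_left₀ _ K.two_kappa_ne]

theorem emb_injective : Function.Injective K.emb := fun a b h => by
  rw [← K.coef_emb a, h, K.coef_emb]

theorem exists_emb {X : M4} (hX : IsAlt X) : ∃ a, K.emb a = X := by
  let L : (Fin 6 → F) →ₗ[F] (Fin 6 → F) :=
    { toFun := fun a => ![K.emb a 0 1, K.emb a 0 2, K.emb a 0 3, K.emb a 1 2, K.emb a 1 3, K.emb a 2 3]
      map_add' := fun a b => by ext i; fin_cases i <;> simp [emb_add]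
      map_smul' := fun t a => by ext i; fin_cases i <;> simp [emb_smul] }
  have hinj : Function.Injective L := fun a b h => K.emb_injective (by
    obtain ⟨p, q, r, s, t, u, ha⟩ := K.emb_alt a
    obtain ⟨p', q', r', s', t', u', hb⟩ := K.emb_alt b
    have h' := fun i => congrFun h i
    have := h' 0; have := h' 1; have := h' 2; have := h' 3; have := h' 4; have := h' 5
    simp [L, ha, hb, altMat] at *
    simp [*])
  obtain ⟨p, q, r, s, t, u, hX⟩ := hX
  obtain ⟨a, ha⟩ := LinearMap.injective_iff_surjective.mp hinj ![p, q, r, s, t, u]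
  refine ⟨a, ?_⟩
  obtain ⟨p', q', r', s', t', u', hb⟩ := K.emb_alt a
  have h' := fun i => congrFun ha i
  have := h' 0; have := h' 1; have := h' 2; have := h' 3; have := h' 4; have := h' 5
  simp [L, hb, altMat] at *
  rw [hX]
  simp [*]

theorem emb_coef {X : M4} (hX : IsAlt X) : K.emb (K.coef X) = X := by
  obtain ⟨a, rfl⟩ := K.exists_emb hX
  rw [coef_emb]

theorem bil_emb (a b : V) : bil (K.emb a) (K.emb b) = 2 * K.κ * (a ⬝ᵥ b) := by
  have hlin : ∀ s : Finset (Fin 6), bil (∑ k ∈ s, b k • K.A k) (K.emb a) =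
      ∑ k ∈ s, b k * bil (K.A k) (K.emb a) := by
    intro s
    induction s using Finset.induction_on with
    | empty => simp [bil, pf]
    | insert c t hc ih => rw [Finset.sum_insert hc, Finset.sum_insert hc, bil_add_left, bil_smul_left, ih]
  rw [bil_comm]
  conv_lhs => arg 1; rw [emb]
  rw [hlin, dotProduct, Finset.mul_sum]
  exact Finset.sum_congr rfl fun k _ => by rw [bil_comm, bil_emb_A]; ring

theorem pf_emb (a : V) : pf (K.emb a) = K.κ * (a ⬝ᵥ a) := by
  apply mul_left_cancel₀ K.two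
  rw [← bil_self, bil_emb]; ring

theorem emb_coef_conj (g : M4) (v : V) :
    K.emb (K.coef (g * K.emb v * gᵀ)) = g * K.emb v * gᵀ :=
  K.emb_coef (isAlt_conj (K.emb_alt v) g)

/-- The action on the coordinates. -/
noncomputable def φ : GL (Fin 4) F →* GG :=
  MonoidHom.mk'
    (fun g =>
      { toFun := fun v => K.coef ((g : M4) * K.emb v * (g : M4)ᵀ)
        invFun := fun v => K.coef (((g⁻¹ : GL (Fin 4) F) : M4) * K.emb v * ((g⁻¹ : GL (Fin 4) F) : M4)ᵀ)
        map_add' := fun v w => K.emb_injective (by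
          rw [emb_coef_conj, emb_add, emb_add, emb_coef_conj, emb_coef_conj, mul_add, add_mul])
        map_smul' := fun c v => K.emb_injective (by
          rw [RingHom.id_apply, emb_coef_conj, emb_smul, emb_smul, emb_coef_conj, mul_smul_comm, smul_mul_assoc])
        left_inv := fun v => K.emb_injective (by
          simp only [emb_coef_conj]
          rw [← mul_assoc, ← mul_assoc, Units.inv_mul, one_mul, mul_assoc, ← Matrix.transpose_mul,
            Units.inv_mul, Matrix.transpose_one, mul_one, coef_emb])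
        right_inv := fun v => K.emb_injective (by
          simp only [emb_coef_conj]
          rw [← mul_assoc, ← mul_assoc, Units.mul_inv, one_mul, mul_assoc, ← Matrix.transpose_mul,
            Units.mul_inv, Matrix.transpose_one, mul_one, coef_emb]) })
    fun g h => LinearEquiv.ext fun v => K.emb_injective (by
      show K.emb (K.coef _) = K.emb (K.coef _)
      rw [emb_coef_conj, emb_coef_conj]
      show _ = (g : M4) * K.emb (K.coef ((h : M4) * K.emb v * (h : M4)ᵀ)) * (g : M4)ᵀ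
      rw [emb_coef_conj]
      simp only [Units.val_mul, Matrix.transpose_mul, mul_assoc])

theorem emb_φ (g : GL (Fin 4) F) (v : V) :
    K.emb (K.φ g v) = (g : M4) * K.emb v * (g : M4)ᵀ := K.emb_coef_conj _ _

theorem φ_iso {g : GL (Fin 4) F} (hg : (g : M4).det = 1) : Iso (K.φ g) := fun v w => by
  apply mul_left_cancel₀ K.two_kappa_ne
  rw [← bil_emb, ← bil_emb, emb_φ, emb_φ, bil_congr (K.emb_alt v) (K.emb_alt w), hg, one_mul]

theorem φ_e {g : GL (Fin 4) F} {k l : Fin 6} {c : F}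
    (h : (g : M4) * K.A k * (g : M4)ᵀ = c • K.A l) : K.φ g (e k) = c • e l :=
  K.emb_injective (by rw [emb_φ, emb_e, h, emb_smul, emb_e])

theorem mem_R_of_φ_one {g : GL (Fin 4) F} (hg : K.φ g = 1) : g ∈ S := K.ker g fun l => by
  rw [← K.emb_e, ← emb_φ, hg]; rfl

theorem exists_flip {a b : Fin 6} (hab : a ≠ b) :
    ∃ x ∈ S, (x : M4).det = 1 ∧ K.φ x = flip a b := by
  obtain ⟨x, hx, hd, hxs⟩ := K.flipElt a b hab
  refine ⟨x, hx, hd, ext_e fun l => ?_⟩
  rw [K.φ_e (hxs l)]
  funext k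
  rw [flip_coord hab, Pi.smul_apply, smul_eq_mul]
  by_cases hk : k = l
  · subst hk; rw [e_same]; split_ifs <;> ring
  · rw [e_ne hk]; split_ifs <;> ring

theorem det_φ [Finite F] (s : Matrix.SpecialLinearGroup (Fin 4) F) :
    LinearEquiv.det (K.φ (Matrix.SpecialLinearGroup.toGL s)) = 1 := by
  have hle := Abelianization.commutator_subset_ker
    ((LinearEquiv.det.comp K.φ).comp Matrix.SpecialLinearGroup.toGL)
  exact hle ((Cfsg.Agent.Lib.Linear.commutator_SL_eq_top (F := F) (n := 4) (by norm_num) (by norm_num)).symm ▸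
    Subgroup.mem_top s)

/-- Two reflections in vectors of equal norm come from the special linear group. -/
theorem exists_refl {x z : V} (hx : x ⬝ᵥ x ≠ 0) (hxz : z ⬝ᵥ z = x ⬝ᵥ x) :
    ∃ g : GL (Fin 4) F, (g : M4).det = 1 ∧ K.φ g = R x * R z := by
  set ν := x ⬝ᵥ x with hν
  set m := K.κ * ν with hm
  have hm0 : m ≠ 0 := mul_ne_zero K.κ0 hx
  set G : M4 := m⁻¹ • (K.emb x * dual (K.emb z)) with hG
  have hdet : G.det = 1 := by
    rw [hG, Matrix.det_smul, Matrix.det_mul, det_alt (K.emb_alt x), det_dual, pf_emb, pf_emb, hxz,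
      Fintype.card_fin, ← hν, ← hm]
    field_simp
  refine ⟨Matrix.GeneralLinearGroup.mkOfDetNeZero G (by rw [hdet]; exact one_ne_zero), hdet,
    LinearEquiv.ext fun y => K.emb_injective ?_⟩
  rw [emb_φ]
  show G * K.emb y * Gᵀ = _
  rw [hG, Matrix.transpose_smul, smul_mul_assoc, smul_mul_assoc, mul_smul_comm, smul_smul,
    clifford (K.emb_alt x) (K.emb_alt y) (K.emb_alt z), bil_emb, bil_emb, bil_emb, pf_emb, pf_emb, hxz,
    LinearEquiv.mul_apply, Cfsg.Agent.TableRelax.Mono.R_apply, Cfsg.Agent.TableRelax.Mono.R_apply, hxz,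
    dotProduct_sub, dotProduct_smul, smul_eq_mul, ← hν, dotProduct_comm y z, sub_eq_add_neg (G := V),
    sub_eq_add_neg (G := V), emb_add, emb_add, ← neg_smul, ← neg_smul, emb_smul, emb_smul, hm]
  have hκ := K.κ0
  match_scalars <;> field_simp <;> ring

section Normaliser

theorem mem_N_of_mono {g : GL (Fin 4) F} (hd : (g : M4).det = 1) (hg : IsMono (K.φ g)) :
    g ∈ Cfsg.Geo.subgroupNormalizer S := by
  refine K.gen g fun x hx ⟨a, b, hab, hxs⟩ => ?_
  have hφx : K.φ x = flip a b := ext_e fun l => by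
    rw [K.φ_e (hxs l)]
    funext k
    rw [flip_coord hab, Pi.smul_apply, smul_eq_mul]
    by_cases hk : k = l
    · subst hk; rw [e_same]; split_ifs <;> ring
    · rw [e_ne hk]; split_ifs <;> ring
  obtain ⟨a', b', hab', hc⟩ := mono_conj (K.φ_iso hd) hg hab
  obtain ⟨y, hy, -, hφy⟩ := K.exists_flip hab'
  have h1 : g * x * g⁻¹ * y⁻¹ ∈ S := K.mem_R_of_φ_one (by
    rw [map_mul, map_mul, map_mul, map_inv, map_inv, hφx, hc, hφy, mul_inv_cancel])
  simpa using S.mul_mem h1 hy

theorem mono_of_mem_N {g : GL (Fin 4) F} (hd : (g : M4).det = 1)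
    (hg : g ∈ Cfsg.Geo.subgroupNormalizer S) : IsMono (K.φ g) := fun k => by
  set u := K.φ g (e k) with hu
  have hun : u ⬝ᵥ u = 1 := by rw [hu, K.φ_iso hd, e_dot_self]
  have hsign : ∀ a b : Fin 6, a ≠ b → ∃ ε : F, flip a b u = ε • u := fun a b hab => by
    obtain ⟨x, hx, -, hφx⟩ := K.exists_flip hab
    have hy : g⁻¹ * x * g ∈ S := by
      have := (Subgroup.mem_normalizer_iff.mp (Subgroup.inv_mem _ hg) x).mp hx
      simpa using this
    obtain ⟨ε, -, hε⟩ := (K.signs _ hy).2 k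
    refine ⟨ε, ?_⟩
    rw [← hφx, hu, ← LinearEquiv.mul_apply, ← map_mul, show x * g = g * (g⁻¹ * x * g) by group, map_mul,
      LinearEquiv.mul_apply, K.φ_e hε, map_smul]
  obtain ⟨i, hi⟩ : ∃ i, u i ≠ 0 := by
    by_contra h0
    push Not at h0
    rw [show u = 0 from funext h0, zero_dotProduct] at hun
    exact zero_ne_one hun
  refine ⟨i, u i, funext fun j => ?_⟩
  by_cases hj : j = i
  · subst hj; rw [Pi.smul_apply, e_same, smul_eq_mul, mul_one]
  rw [Pi.smul_apply, e_ne hj, smul_zero]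
  obtain ⟨m, hm⟩ := exists_fresh ({i, j} : Finset (Fin 6))
    (lt_of_le_of_lt Finset.card_le_two (by norm_num))
  simp only [Finset.mem_insert, Finset.mem_singleton, not_or] at hm
  obtain ⟨ε, hε⟩ := hsign j m (Ne.symm hm.2)
  have e1 := congrFun hε i
  rw [flip_coord (Ne.symm hm.2), if_neg (by simp [Ne.symm hj, Ne.symm hm.1]), Pi.smul_apply, smul_eq_mul] at e1
  have e2 := congrFun hε j
  rw [flip_coord (Ne.symm hm.2), if_pos (Or.inl rfl), Pi.smul_apply, smul_eq_mul] at e2
  rw [(mul_eq_right₀ hi).mp e1.symm, one_mul] at e2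
  exact (mul_eq_zero.mp (by linear_combination -e2 : (2 : F) * u j = 0)).resolve_left K.two

theorem mono_refl_diag {a b c : Fin 6} (hab : a ≠ b) (hca : c ≠ a) (hcb : c ≠ b) {α : F}
    (hα : 2 * α * α = 1) :
    IsMono (R (α • e a + α • e b : V) * R (e c)) := by
  have hxx : (α • e a + α • e b : V) ⬝ᵥ (α • e a + α • e b) = 1 := by
    simp [add_dotProduct, smul_dotProduct, e_dot, e_same, e_ne hab, e_ne (Ne.symm hab)]
    linear_combination hα
  intro k
  rw [LinearEquiv.mul_apply]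
  by_cases hkc : k = c
  · refine ⟨k, -1, ?_⟩
    subst hkc
    rw [R_self (by rw [e_dot_self]; exact one_ne_zero), map_neg,
      R_of_ortho (by simp [add_dotProduct, smul_dotProduct, e_dot, e_ne (Ne.symm hca),
        e_ne (Ne.symm hcb)]), neg_one_smul]
  rw [R_of_ortho (e_dot_ne (Ne.symm hkc)), R_unit hxx]
  have hd : (α • e a + α • e b : V) ⬝ᵥ e k = α * e (F := F) k a + α * e (F := F) k b := by
    simp [add_dotProduct, smul_dotProduct, e_dot]
  rw [hd]
  by_cases hka : k = a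
  · refine ⟨b, -1, ?_⟩
    subst hka
    rw [e_same, e_ne (Ne.symm hab), smul_add, smul_smul, smul_smul]
    rw [show 2 * (α * 1 + α * 0) * α = 1 by linear_combination hα, one_smul, one_smul, neg_one_smul]
    abel
  by_cases hkb : k = b
  · refine ⟨a, -1, ?_⟩
    subst hkb
    rw [e_same, e_ne hab, smul_add, smul_smul, smul_smul]
    rw [show 2 * (α * 0 + α * 1) * α = 1 by linear_combination hα, one_smul, one_smul, neg_one_smul]
    abel
  exact ⟨k, 1, by rw [e_ne (Ne.symm hka), e_ne (Ne.symm hkb)]; simp⟩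

/-- The reflection in a difference of two axes exchanges them. -/
theorem R_sub_axes (h2 : (2 : F) ≠ 0) {a b : Fin 6} (hab : a ≠ b) :
    (R (e a - e b : V) : GG) = P (Equiv.swap a b) := by
  have hn : (e a - e b : V) ⬝ᵥ (e a - e b) = 2 := by
    simp [sub_dotProduct, dotProduct_sub, e_dot_self, e_dot_ne hab, e_dot_ne hab.symm]
    ring
  apply LinearEquiv.ext
  intro y
  funext i
  rw [Cfsg.Agent.TableRelax.Mono.R_apply, hn, sub_dotProduct, e_dot, e_dot, P_apply, Equiv.symm_swap,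
    mul_div_cancel_left₀ _ h2]
  simp only [Pi.sub_apply, Pi.smul_apply, smul_eq_mul]
  by_cases h1 : i = a
  · subst h1; rw [Equiv.swap_apply_left, e_same, e_ne hab]; ring
  by_cases h3 : i = b
  · subst h3; rw [Equiv.swap_apply_right, e_same, e_ne h1]; ring
  rw [Equiv.swap_apply_of_ne_of_ne h1 h3, e_ne h1, e_ne h3]
  ring

theorem P_mul' (σ τ : Equiv.Perm (Fin 6)) : (P (σ * τ) : GG) = P σ * P τ := by
  apply LinearEquiv.ext
  intro y
  funext i
  simp [LinearEquiv.mul_apply, P_apply, Equiv.Perm.mul_def]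

theorem exists_perm {σ : Equiv.Perm (Fin 6)} (hσ : Equiv.Perm.sign σ = 1) :
    ∃ g : GL (Fin 4) F, (g : M4).det = 1 ∧ K.φ g = P σ := by
  have hpair : ∀ {a b c d : Fin 6}, a ≠ b → c ≠ d →
      ∃ g : GL (Fin 4) F, (g : M4).det = 1 ∧ K.φ g = P (Equiv.swap a b) * P (Equiv.swap c d) := by
    intro a b c d hab hcd
    have hn : ∀ {a b : Fin 6}, a ≠ b → (e a - e b : V) ⬝ᵥ (e a - e b) = 2 := fun {a b} h => by
      simp [sub_dotProduct, dotProduct_sub, e_dot_self, e_dot_ne h, e_dot_ne h.symm]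
      ring
    obtain ⟨g, hd, hg⟩ := K.exists_refl (x := e a - e b) (z := e c - e d) (by rw [hn hab]; exact K.two)
      (by rw [hn hab, hn hcd])
    exact ⟨g, hd, by rw [hg, R_sub_axes K.two hab, R_sub_axes K.two hcd]⟩
  have key : ∀ σ : Equiv.Perm (Fin 6),
      (Equiv.Perm.sign σ = 1 → ∃ g : GL (Fin 4) F, (g : M4).det = 1 ∧ K.φ g = P σ) ∧
      (Equiv.Perm.sign σ = -1 → ∀ a b, a ≠ b →
        ∃ g : GL (Fin 4) F, (g : M4).det = 1 ∧ K.φ g = P (σ * Equiv.swap a b)) := by
    intro σ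
    induction σ using Equiv.Perm.swap_induction_on' with
    | one =>
      refine ⟨fun _ => ⟨1, by simp, ?_⟩, fun h => absurd h (by simp)⟩
      rw [map_one]
      apply LinearEquiv.ext; intro y; funext i
      simp [P_apply, Equiv.Perm.one_symm]
    | mul_swap σ x z hxz ih =>
      have hsign : Equiv.Perm.sign (σ * Equiv.swap x z) = -Equiv.Perm.sign σ := by
        rw [map_mul, Equiv.Perm.sign_swap hxz, mul_neg_one]
      refine ⟨fun h => ih.2 (by rw [hsign] at h; exact neg_eq_iff_eq_neg.mp h) x z hxz, fun h a b hab => ?_⟩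
      rw [hsign, neg_inj] at h
      obtain ⟨g, hg, hgσ⟩ := ih.1 h
      obtain ⟨g', hg', hgp⟩ := hpair hxz hab
      refine ⟨g * g', by rw [Units.val_mul, Matrix.det_mul, hg, hg', one_mul], ?_⟩
      rw [map_mul, hgσ, hgp, mul_assoc σ, P_mul' σ, P_mul']
  exact (key σ).1 hσ

end Normaliser

section Overgroup

variable [Finite F] {M : Subgroup (GL (Fin 4) F)}
  (hM : Cfsg.Geo.subgroupNormalizer S ⊓ Cfsg.Geo.specialLinear (Fin 4) F ≤ M)
  (hMK : M ≤ Cfsg.Geo.specialLinear (Fin 4) F)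

include hM hMK

theorem mem_M_of_mono {g : GL (Fin 4) F} (hd : (g : M4).det = 1) (hg : IsMono (K.φ g)) : g ∈ M :=
  hM ⟨K.mem_N_of_mono hd hg, (Cfsg.Agent.Lib.Subspaces.Transvection.mem_specialLinear_iff g).mpr hd⟩

theorem six : Six (M.map K.φ) := by
  have hdet : ∀ g ∈ M, (g : M4).det = 1 := fun g hg =>
    (Cfsg.Agent.Lib.Subspaces.Transvection.mem_specialLinear_iff g).mp (hMK hg)
  refine ⟨K.two, ?_, ?_, fun i j => ?_, fun σ hσ => ?_, fun a b c hab hca hcb α hα => ?_⟩
  · rintro _ ⟨g, hg, rfl⟩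
    exact K.φ_iso (hdet g hg)
  · rintro _ ⟨g, hg, rfl⟩
    have := K.det_φ ⟨(g : M4), hdet g hg⟩
    rwa [show Matrix.SpecialLinearGroup.toGL ⟨(g : M4), hdet g hg⟩ = g from Units.ext rfl] at this
  · by_cases hij : i = j
    · rw [hij, R_mul_self]; exact one_mem _
    obtain ⟨x, -, hd, hx⟩ := K.exists_flip hij
    exact ⟨x, K.mem_M_of_mono hM hMK hd (by rw [hx]; exact mono_flip i j), hx⟩
  · obtain ⟨g, hd, hg⟩ := K.exists_perm hσ
    exact ⟨g, K.mem_M_of_mono hM hMK hd (by rw [hg]; exact mono_P σ), hg⟩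
  · obtain ⟨g, hd, hg⟩ := K.exists_refl (x := α • e a + α • e b) (z := e c) (by
      simp [add_dotProduct, smul_dotProduct, e_dot, e_same, e_ne hab, e_ne (Ne.symm hab)]
      intro h0; exact one_ne_zero (α := F) (by linear_combination -hα + h0)) (by
      simp [add_dotProduct, smul_dotProduct, e_dot, e_same, e_ne hab, e_ne (Ne.symm hab)]
      linear_combination -hα)
    exact ⟨g, K.mem_M_of_mono hM hMK hd (by rw [hg]; exact mono_refl_diag hab hca hcb hα), hg⟩

end Overgroup

/-- A normal non-central subgroup of `SL(4)` is everything. -/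
theorem eq_top_of_normal [Finite F] (H : Subgroup (Matrix.SpecialLinearGroup (Fin 4) F)) [H.Normal]
    (hH : ¬ H ≤ Subgroup.center _) : H = ⊤ := by
  have hsimple : IsSimpleGroup (Matrix.SpecialLinearGroup (Fin 4) F ⧸
      Subgroup.center (Matrix.SpecialLinearGroup (Fin 4) F)) :=
    Cfsg.Agent.Lib.Linear.isSimpleGroup_PSL (by norm_num) (by norm_num)
  set π := QuotientGroup.mk' (Subgroup.center (Matrix.SpecialLinearGroup (Fin 4) F))
  rcases (Subgroup.Normal.map inferInstance π (QuotientGroup.mk'_surjective _) :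
      (H.map π).Normal).eq_bot_or_eq_top with hb | ht
  · exact absurd (fun x hx => (QuotientGroup.eq_one_iff x).mp ((Subgroup.eq_bot_iff_forall _).mp hb
      _ (Subgroup.mem_map_of_mem π hx))) hH
  · rw [eq_top_iff, ← Cfsg.Agent.Lib.Linear.commutator_SL_eq_top (F := F) (n := 4) (by norm_num) (by norm_num),
      commutator_def, Subgroup.commutator_le]
    have hdec : ∀ g, ∃ h ∈ H, ∃ z ∈ Subgroup.center (Matrix.SpecialLinearGroup (Fin 4) F), g = h * z :=
      fun g => by
      obtain ⟨h, hh, he⟩ := Subgroup.mem_map.mp (ht ▸ Subgroup.mem_top (π g) : π g ∈ H.map π)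
      exact ⟨h, hh, h⁻¹ * g, QuotientGroup.eq.mp he, by group⟩
    intro g _ g' _
    obtain ⟨h, hh, z, hz, rfl⟩ := hdec g
    obtain ⟨h', hh', z', hz', rfl⟩ := hdec g'
    have c1 : ∀ x, z * x = x * z := fun x => (Subgroup.mem_center_iff.mp hz x).symm
    have c2 : ∀ x, z' * x = x * z' := fun x => (Subgroup.mem_center_iff.mp hz' x).symm
    simp only [commutatorElement_def, _root_.mul_inv_rev]
    have e1 : h * z * (h' * z') * (z⁻¹ * h⁻¹) * (z'⁻¹ * h'⁻¹) = h * h' * h⁻¹ * h'⁻¹ := by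
      calc h * z * (h' * z') * (z⁻¹ * h⁻¹) * (z'⁻¹ * h'⁻¹)
          = h * (z * (h' * z')) * z⁻¹ * h⁻¹ * z'⁻¹ * h'⁻¹ := by group
        _ = h * h' * (z' * h⁻¹) * z'⁻¹ * h'⁻¹ := by rw [c1]; group
        _ = _ := by rw [c2]; group
    rw [e1]
    exact H.mul_mem (H.mul_mem (H.mul_mem hh hh') (H.inv_mem hh)) (H.inv_mem hh')

include K in
/-- **Maximality.** -/
theorem maximal [Fintype F] {p : ℕ} [Fact p.Prime] (hF : Fintype.card F = p) (hp2 : p ≠ 2)
    (h3 : (3 : F) ≠ 0) :
    Cfsg.Geo.IsMaximalIn (Cfsg.Geo.specialLinear (Fin 4) F)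
      (Cfsg.Geo.subgroupNormalizer S ⊓ Cfsg.Geo.specialLinear (Fin 4) F) := by
  classical
  -- an element outside
  obtain ⟨g₀, hd₀, hg₀, x₁, z₁, hxz₁, hφ₁⟩ : ∃ g : GL (Fin 4) F, (g : M4).det = 1 ∧ ¬ IsMono (K.φ g) ∧
      ∃ x z : V, (x ⬝ᵥ x = 1 ∧ z ⬝ᵥ z = 1) ∧ K.φ g = R x * R z := by
    set x : V := (2 / 3 : F) • e 0 + (2 / 3 : F) • e 1 + (1 / 3 : F) • e 2 with hx
    have hxx : x ⬝ᵥ x = 1 := by
      simp [hx, add_dotProduct, smul_dotProduct, e_dot, e, Pi.single_apply]
      field_simp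
      ring
    obtain ⟨g, hd, hg⟩ := K.exists_refl (x := x) (z := e 3) (by rw [hxx]; exact one_ne_zero)
      (by rw [hxx, e_dot_self])
    refine ⟨g, hd, fun hm => ?_, x, e 3, ⟨hxx, e_dot_self 3⟩, hg⟩
    obtain ⟨j, s, hj⟩ := hm 0
    rw [hg, LinearEquiv.mul_apply, R_of_ortho (e_dot_ne (by decide)), R_unit hxx, dot_e] at hj
    have hb := congrFun hj 1
    have hc := congrFun hj 2
    simp [hx, e, Pi.single_apply, K.two, h3] at hb hc
    by_cases hj1 : (1 : Fin 6) = j
    · subst hj1; simp [K.two, h3] at hc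
    · simp [hj1, K.two, h3] at hb
  have hSL : ∀ g : GL (Fin 4) F, (g : M4).det = 1 → g ∈ Cfsg.Geo.specialLinear (Fin 4) F :=
    fun g hg => (Cfsg.Agent.Lib.Subspaces.Transvection.mem_specialLinear_iff g).mpr hg
  have hdet : ∀ g ∈ Cfsg.Geo.specialLinear (Fin 4) F, (g : M4).det = 1 := fun g hg =>
    (Cfsg.Agent.Lib.Subspaces.Transvection.mem_specialLinear_iff g).mp hg
  refine ⟨lt_of_le_of_ne inf_le_right fun he => hg₀ (K.mono_of_mem_N hd₀
    ((he.symm.le (hSL g₀ hd₀)).1)), fun M hM hMK => ?_⟩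
  by_cases hle : M ≤ Cfsg.Geo.subgroupNormalizer S
  · exact Or.inl (le_antisymm (le_inf hle hMK) hM)
  obtain ⟨g, hgM, hgN⟩ := SetLike.not_le_iff_exists.mp hle
  have hS := K.six hM hMK
  have hall : ∀ v : V, v ⬝ᵥ v = 1 → InY (M.map K.φ) v := fun v hv =>
    hS.all_units hF hp2 ⟨g, hgM, rfl⟩
      (fun hm => hgN (K.mem_N_of_mono (hdet g (hMK hgM)) hm)) hv
  refine Or.inr (le_antisymm hMK ?_)
  set gens : Set (Matrix.SpecialLinearGroup (Fin 4) F) := setOf fun s =>
    ∃ x z : V, (x ⬝ᵥ x = 1 ∧ z ⬝ᵥ z = 1) ∧ K.φ (Matrix.SpecialLinearGroup.toGL s) = R x * R z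
  set H := Subgroup.closure gens
  have hgens : gens ⊆ (M.comap Matrix.SpecialLinearGroup.toGL : Set _) := by
    rintro s ⟨x, z, ⟨hx, hz⟩, hs⟩
    show Matrix.SpecialLinearGroup.toGL s ∈ M
    obtain ⟨m, hm, hmφ⟩ := Six.inY_pair (hall x hx) (hall z hz)
    have hk : Matrix.SpecialLinearGroup.toGL s * m⁻¹ ∈ S :=
      K.mem_R_of_φ_one (by rw [map_mul, map_inv, hs, hmφ, mul_inv_cancel])
    have := M.mul_mem (hM ⟨Subgroup.le_normalizer hk, hSL _ (by
      rw [Units.val_mul, Matrix.det_mul, hdet _ (inv_mem (hMK hm)), mul_one]; exact s.2)⟩) hm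
    simpa using this
  have hn : H.Normal := by
    refine ⟨fun y hy t => ?_⟩
    have htd : ((Matrix.SpecialLinearGroup.toGL t : GL (Fin 4) F) : M4).det = 1 := t.2
    have hconj : ∀ s ∈ gens, t * s * t⁻¹ ∈ gens := by
      rintro s ⟨x, z, ⟨hx, hz⟩, hs⟩
      refine ⟨K.φ (Matrix.SpecialLinearGroup.toGL t) x, K.φ (Matrix.SpecialLinearGroup.toGL t) z,
        ⟨by rw [K.φ_iso htd, hx], by rw [K.φ_iso htd, hz]⟩, ?_⟩
      rw [map_mul, map_mul, map_inv, map_mul, map_mul, map_inv, hs, R_mul_conj (K.φ_iso htd)]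
    have hle' : H ≤ H.comap (MulAut.conj t).toMonoidHom :=
      (Subgroup.closure_le _).mpr fun s hs => Subgroup.subset_closure (hconj s hs)
    exact hle' hy
  have hnc : ¬ H ≤ Subgroup.center _ := fun hc => by
    have hs : (⟨(g₀ : M4), hd₀⟩ : Matrix.SpecialLinearGroup (Fin 4) F) ∈ gens :=
      ⟨x₁, z₁, hxz₁, by rw [← hφ₁]; congr 1; exact Units.ext rfl⟩
    obtain ⟨r, -, hr⟩ := Matrix.SpecialLinearGroup.mem_center_iff.mp (hc (Subgroup.subset_closure hs))
    refine hg₀ fun k => ⟨k, r * r, K.φ_e ?_⟩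
    rw [← show (Matrix.scalar (Fin 4)) r = (g₀ : M4) from hr, Matrix.scalar_apply,
      ← Matrix.smul_one_eq_diagonal, Matrix.transpose_smul, Matrix.transpose_one, smul_mul_assoc,
      one_mul, smul_mul_assoc, mul_smul_comm, mul_one, smul_smul]
  have htop := eq_top_of_normal H (hH := hnc)
  intro y hy
  let s : Matrix.SpecialLinearGroup (Fin 4) F := ⟨(y : M4), hdet y hy⟩
  have hyH : s ∈ H := by
    rw [htop]; exact Subgroup.mem_top _
  have := (Subgroup.closure_le _).mpr hgens hyH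
  change Matrix.SpecialLinearGroup.toGL ⟨(y : M4), hdet y hy⟩ ∈ M at this
  rwa [show Matrix.SpecialLinearGroup.toGL ⟨(y : M4), hdet y hy⟩ = y from Units.ext rfl] at this

end Frame6

/-! ## The statement -/

open Cfsg.Agent.Lib.Elusive19.Pauli4 in
/-- A symplectic-type group with centre of order four acting absolutely irreducibly in dimension four
has more than sixteen elements. -/
theorem sixteen_lt [Fintype F] {i : F} (hi : i * i = -1) (h2 : (2 : F) ≠ 0)
    (hRs : Cfsg.Geo.IsSymplecticTypeGroup 2 S)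
    (hRi : Cfsg.Geo.ActsAbsolutelyIrreducibly (Cfsg.Geo.matrixSet S))
    (hc : Nat.card (Subgroup.center S) = 4) : 16 < Nat.card S := by
  classical
  by_contra hbig
  push Not at hbig
  have hcen : ∀ x : S, x ∈ Subgroup.center S → ∃ c : F, ((x : GL (Fin 4) F) : M4) = c • 1 :=
    fun x hx => center_scalar hRs hRi hx
  have hline : ∀ (w w' : Fin 4 → F), w ≠ 0 →
      (∀ x ∈ S, (x : M4) *ᵥ w ∈ Submodule.span F {w, w'} ∧ (x : M4) *ᵥ w' ∈ Submodule.span F {w, w'}) →
      False := by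
    intro w w' hw hinv
    rcases hRi.1 (Submodule.span F {w, w'}) (by
      rintro s ⟨x, hx, rfl⟩
      rw [Submodule.map_span_le]
      intro v hv
      rcases hv with rfl | rfl
      · exact (hinv x hx).1
      · exact (hinv x hx).2) with h | h
    · exact hw ((Submodule.mem_bot F).mp (h ▸ Submodule.subset_span (Set.mem_insert _ _)))
    · have h1 := congrArg (fun W : Submodule F (Fin 4 → F) => Module.finrank F W) h
      simp only [finrank_top, Module.finrank_fintype_fun_eq_card, Fintype.card_fin] at h1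
      have h2' := Submodule.finrank_add_le_finrank_add_finrank (Submodule.span F {w})
        (Submodule.span F {w'})
      rw [← Submodule.span_union, Set.singleton_union, h1] at h2'
      have := finrank_span_singleton (K := F) hw
      have : Module.finrank F (Submodule.span F {w'}) ≤ 1 := by
        by_cases hw' : w' = 0
        · rw [hw', Submodule.span_zero_singleton, finrank_bot]; exact Nat.zero_le _
        · exact (finrank_span_singleton hw').le
      omega
  obtain ⟨a, ha⟩ : ∃ a : S, a ∉ Subgroup.center S := by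
    by_contra hall
    push Not at hall
    refine hline (Pi.single 0 1) (Pi.single 0 1) (by simp) fun x hx => ?_
    obtain ⟨c, hc'⟩ := hcen ⟨x, hx⟩ (hall _)
    constructor <;>
    · rw [show (x : M4) = c • 1 from hc', Matrix.smul_mulVec, Matrix.one_mulVec]
      exact Submodule.smul_mem _ _ (Submodule.subset_span (by simp))
  obtain ⟨b, hba⟩ : ∃ b : S, Sg 1 (b : GL (Fin 4) F) a := by
    by_contra hno
    push Not at hno
    refine ha (Subgroup.mem_center_iff.mpr fun y => ?_)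
    obtain ⟨d, hd⟩ := exists_sg hRs hRi (Or.inr hc) y.2 a.2
    rcases two_cases d with rfl | rfl
    · exact Subtype.ext (Units.ext hd.commute.eq)
    · exact absurd hd (hno y)
  set f : Subgroup.center S × (ZMod 2 × ZMod 2) → S := fun t => (t.1 : S) * (a ^ t.2.1.val * b ^ t.2.2.val)
    with hf
  have hz0 : ∀ (z : Subgroup.center S) (y : GL (Fin 4) F), Sg 0 ((z : S) : GL (Fin 4) F) y := fun z y => by
    obtain ⟨c, hc'⟩ := hcen z.1 z.2
    exact (Sg.one y).scalar (c := c) (by rw [hc']; simp)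
  have hinj : Function.Injective f := by
    rintro ⟨z, j, k⟩ ⟨z', j', k'⟩ h
    have h' := congrArg (fun t : S => (t : GL (Fin 4) F)) h
    simp only [hf, Subgroup.coe_mul, SubgroupClass.coe_pow] at h'
    have key : ∀ y e₁ e₂, Sg e₁ (a : GL (Fin 4) F) y → Sg e₂ (b : GL (Fin 4) F) y →
        j * e₁ + k * e₂ = j' * e₁ + k' * e₂ := by
      intro y e₁ e₂ g1 g2
      have q1 := (hz0 z y).mul ((g1.pow j).mul (g2.pow k))
      have q2 := (hz0 z' y).mul ((g1.pow j').mul (g2.pow k'))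
      rw [h'] at q1
      simp only [zero_add] at q1 q2
      refine sgn_injective h2 (smul_left_injective F ?_ (Eq.trans (Eq.symm q1) q2))
      rw [← Units.val_mul]
      exact Units.ne_zero _
    obtain rfl : j = j' := by simpa using key b 1 0 hba.symm (Sg.refl _)
    obtain rfl : k = k' := by simpa using key a 0 1 (Sg.refl _) hba
    exact Prod.ext (Subtype.ext (mul_right_cancel h)) rfl
  have hsurj : Function.Surjective f := by
    refine ((Nat.bijective_iff_injective_and_card f).mpr ⟨hinj, ?_⟩).2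
    have hle := Nat.card_le_card_of_injective f hinj
    rw [Nat.card_prod, Nat.card_prod, Nat.card_zmod, hc] at hle ⊢
    omega
  obtain ⟨w, hw, lam, hlam⟩ : ∃ (w : Fin 4 → F), w ≠ 0 ∧ ∃ l : F, ((a : GL (Fin 4) F) : M4) *ᵥ w = l • w := by
    obtain ⟨l, hl, hl0⟩ : ∃ l : F, ((a : GL (Fin 4) F) : M4) * (a : GL (Fin 4) F) = (l * l) • (1 : M4) ∧ l ≠ 0 := by
      rcases sq_eq hRs hRi (Or.inr hc) a.2 with h | h
      · exact ⟨1, by rw [h, one_mul, one_smul], one_ne_zero⟩
      · exact ⟨i, by rw [h, hi, neg_one_smul], fun h0 => by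
          rw [h0, zero_mul] at hi; exact one_ne_zero (neg_eq_zero.mp hi.symm)⟩
    by_cases hex : ∃ v, ((a : GL (Fin 4) F) : M4) *ᵥ v + l • v ≠ 0
    · obtain ⟨v, hv⟩ := hex
      refine ⟨_, hv, l, ?_⟩
      rw [Matrix.mulVec_add, Matrix.mulVec_smul, Matrix.mulVec_mulVec, hl, Matrix.smul_mulVec,
        Matrix.one_mulVec, smul_add, smul_smul, add_comm]
    · push Not at hex
      exact ⟨Pi.single 0 1, by simp, -l, by rw [neg_smul]; exact eq_neg_of_add_eq_zero_left (hex _)⟩
  have hab : ∀ v, ((a : GL (Fin 4) F) : M4) *ᵥ (((b : GL (Fin 4) F) : M4) *ᵥ v) =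
      -(((b : GL (Fin 4) F) : M4) *ᵥ (((a : GL (Fin 4) F) : M4) *ᵥ v)) := fun v => by
    rw [Matrix.mulVec_mulVec, Matrix.mulVec_mulVec, hba.symm.anti, Matrix.neg_mulVec]
  obtain ⟨β, hβ⟩ : ∃ β : F, ((b : GL (Fin 4) F) : M4) * (b : GL (Fin 4) F) = β • (1 : M4) := by
    rcases sq_eq hRs hRi (Or.inr hc) b.2 with h | h
    · exact ⟨1, by rw [h, one_smul]⟩
    · exact ⟨-1, by rw [h, neg_one_smul]⟩
  set W := Submodule.span F {w, ((b : GL (Fin 4) F) : M4) *ᵥ w} with hW
  have hwW : w ∈ W := Submodule.subset_span (Set.mem_insert _ _)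
  have hbW : ((b : GL (Fin 4) F) : M4) *ᵥ w ∈ W := Submodule.subset_span (by simp)
  have haW : ∀ v ∈ W, ((a : GL (Fin 4) F) : M4) *ᵥ v ∈ W := fun v hv => by
    obtain ⟨r, s, rfl⟩ := Submodule.mem_span_pair.mp hv
    rw [Matrix.mulVec_add, Matrix.mulVec_smul, Matrix.mulVec_smul, hlam, hab, hlam, Matrix.mulVec_smul]
    exact W.add_mem (W.smul_mem _ (W.smul_mem _ hwW)) (W.smul_mem _ (W.neg_mem (W.smul_mem _ hbW)))
  have hbW' : ∀ v ∈ W, ((b : GL (Fin 4) F) : M4) *ᵥ v ∈ W := fun v hv => by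
    obtain ⟨r, s, rfl⟩ := Submodule.mem_span_pair.mp hv
    rw [Matrix.mulVec_add, Matrix.mulVec_smul, Matrix.mulVec_smul, Matrix.mulVec_mulVec _ _ _, hβ,
      Matrix.smul_mulVec, Matrix.one_mulVec]
    exact W.add_mem (W.smul_mem _ hbW) (W.smul_mem _ (W.smul_mem _ hwW))
  have hpow : ∀ (y : GL (Fin 4) F) (k : ZMod 2), (∀ v ∈ W, (y : M4) *ᵥ v ∈ W) →
      ∀ v ∈ W, ((y ^ k.val : GL (Fin 4) F) : M4) *ᵥ v ∈ W := fun y k hy v hv => by
    rcases two_cases k with rfl | rfl
    · simpa using hv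
    · simpa [ZMod.val_one] using hy v hv
  have hall : ∀ x ∈ S, ∀ v ∈ W, (x : M4) *ᵥ v ∈ W := fun x hx v hv => by
    obtain ⟨⟨z, j, k⟩, ht⟩ := hsurj ⟨x, hx⟩
    have hx' := congrArg (fun t : S => ((t : GL (Fin 4) F) : M4)) ht
    simp only [hf, Subgroup.coe_mul, SubgroupClass.coe_pow, Units.val_mul] at hx'
    obtain ⟨c, hc'⟩ := hcen z.1 z.2
    rw [← hx', hc', smul_mul_assoc, one_mul, Matrix.smul_mulVec, ← Matrix.mulVec_mulVec]
    exact W.smul_mem _ (hpow _ j haW _ (hpow _ k hbW' _ hv))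
  exact hline w _ hw fun x hx => ⟨hall x hx w hwW, hall x hx _ hbW⟩

open Cfsg.Agent.Lib.Elusive19.Pauli4 in
/-- **The normaliser of a group `4 ∘ 2^(1+4)` is maximal in `SL(4,p)`.** -/
theorem c6_maximal [Fintype F] {p : ℕ} (S : Subgroup (GL (Fin 4) F)) (hp : p.Prime)
    (hF : Fintype.card F = p) (hp4 : p % 4 = 1) (hR : Cfsg.Geo.IsLinearSymplecticTypeData 2 S) :
    Cfsg.Geo.IsMaximalIn (Cfsg.Geo.specialLinear (Fin 4) F)
      (Cfsg.Geo.subgroupNormalizer S ⊓ Cfsg.Geo.specialLinear (Fin 4) F) := by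
  classical
  haveI := Fact.mk hp
  obtain ⟨hst, habs, q, e', -, -, hcases⟩ := hR
  have hc : Nat.card (Subgroup.center S) = 4 := by
    rcases hcases with ⟨h, -⟩ | ⟨-, -, h, -⟩ | ⟨-, -, h, -⟩
    · exact absurd h (by decide)
    · exact h
    · simp at h
  have hn2 : ∀ m : ℕ, 0 < m → m < 5 → (m : F) ≠ 0 := fun m h0 hm => by
    refine Cfsg.Agent.TableRelax.Mono.natCast_ne hF fun hd => ?_
    have := Nat.le_of_dvd h0 hd
    have := hp.two_le
    omega
  have h2 : (2 : F) ≠ 0 := by exact_mod_cast hn2 2 (by norm_num) (by norm_num)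
  have h3 : (3 : F) ≠ 0 := by exact_mod_cast hn2 3 (by norm_num) (by norm_num)
  obtain ⟨u, i, hu, hui, hi⟩ := exists_i hst habs hc
  obtain ⟨Q⟩ := exists_quad_of_i hst habs hc (sixteen_lt hi h2 hst habs hc)
  have hι : Fintype.card (Fin 4) = 4 := Fintype.card_fin 4
  obtain ⟨K⟩ := exists_frame6 Q h2 (gen_word hst habs (Or.inr hc) Q hι h2)
    (fun x hx => sq_eq hst habs (Or.inr hc) hx) hu hui hi
  exact K.maximal hF (by omega) h3

end Cfsg.Agent.FrameSix.Klein
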