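import Cfsg.Agent.Lib.FrameSix.Basic
import Cfsg.Agent.Lib.TableRelax.Mono.Coord

/-!
# The centraliser of a sign change is monomial

If only monomial elements of the overgroup send an axis to an axis, then an element commuting with
the sign change on two axes is monomial.
-/

set_option autoImplicit false

namespace Cfsg.Agent.FrameSix

open Matrix Cfsg.Agent.TableRelax.Mono

variable {F : Type*} [Field F]

local notation "V" => (Fin 6 → F)
local notation "GG" => ((Fin 6 → F) ≃ₗ[F] (Fin 6 → F))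

theorem comm_conj {g x y : GG} (hc : x * g = g * x) :
    (y * x * y⁻¹) * (y * g * y⁻¹) = (y * g * y⁻¹) * (y * x * y⁻¹) := by
  calc (y * x * y⁻¹) * (y * g * y⁻¹) = y * (x * g) * y⁻¹ := by group
    _ = y * (g * x) * y⁻¹ := by rw [hc]
    _ = _ := by group

theorem mono_of_conj {y g : GG} (hy : IsMono y) (hyI : Iso y) (h : IsMono (y * g * y⁻¹)) :
    IsMono g := by
  have e : g = y⁻¹ * (y * g * y⁻¹) * y := by group
  rw [e]
  exact mono_mul (mono_mul (mono_inv hyI hy) h) hy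

namespace Six

variable {L : Subgroup ((Fin 6 → F) ≃ₗ[F] (Fin 6 → F))} (h : Six L) (hA : AxisRigid L)

include h hA

theorem mono_of_fix {g : GG} (hg : g ∈ L) {i : Fin 6} (hfix : g (e i) = e i) : IsMono g :=
  hA g hg ⟨i, i, 1, by rw [hfix, one_smul]⟩

/-- A column supported on two coordinates, paired off with a disjoint one, is an axis or diagonal. -/
theorem shape_col {x : GG} (hx : x ∈ L) {c d p p' w : Fin 6}
    (hc : ∀ k, k ≠ p → k ≠ p' → x (e c) k = 0) (hd : x (e d) p = 0) (hd' : x (e d) p' = 0)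
    (hwc : x (e c) w = 0) (hwd : x (e d) w = 0) : IsAxis (x (e c)) ∨ IsDiag (x (e c)) := by
  have hI := h.iso x hx
  have hq : R (x (e c)) * R (x (e d)) ∈ L := by
    rw [← conj_flip hI]; exact h.conj_mem hx (h.flip_mem c d)
  have hm : IsMono (R (x (e c)) * R (x (e d))) := h.mono_of_fix hA hq (i := w) (by
    rw [LinearEquiv.mul_apply, R_of_ortho (u := x (e d)) (by rw [dot_e]; exact hwd),
      R_of_ortho (by rw [dot_e]; exact hwc)])
  refine shape_of_R h.two (by rw [hI, e_dot_self]) fun k => ?_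
  by_cases hk : k = p ∨ k = p'
  · have hz : x (e d) k = 0 := by rcases hk with rfl | rfl; exacts [hd, hd']
    obtain ⟨j, t, hj⟩ := hm k
    rw [LinearEquiv.mul_apply, R_of_ortho (u := x (e d)) (by rw [dot_e]; exact hz)] at hj
    exact ⟨j, t, hj⟩
  · push Not at hk
    exact ⟨k, 1, by rw [R_of_ortho (by rw [dot_e]; exact hc k hk.1 hk.2), one_smul]⟩

/-- An element keeping the three standard planes is monomial. -/
theorem planes {x : GG} (hx : x ∈ L) (h01 : flip 0 1 * x = x * flip 0 1)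
    (h23 : flip 2 3 * x = x * flip 2 3) : IsMono x := by
  have hI := h.iso x hx
  have z1 : ∀ i k : Fin 6, ¬ ((i = 0 ∨ i = 1) ↔ (k = 0 ∨ k = 1)) → x (e i) k = 0 := fun i k hik =>
    zero_of_comm h.two (by decide) h01 hik
  have z2 : ∀ i k : Fin 6, ¬ ((i = 2 ∨ i = 3) ↔ (k = 2 ∨ k = 3)) → x (e i) k = 0 := fun i k hik =>
    zero_of_comm h.two (by decide) h23 hik
  by_contra hm
  have hnax : ∀ i, ¬ IsAxis (x (e i)) := fun i ⟨j, t, hj⟩ => hm (hA x hx ⟨i, j, t, hj⟩)
  have hdiag : ∀ c p p' : Fin 6, p ≠ p' → IsDiag (x (e c)) →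
      (∀ k, k ≠ p → k ≠ p' → x (e c) k = 0) →
      2 * x (e c) p * x (e c) p = 1 ∧ 2 * x (e c) p' * x (e c) p' = 1 := by
    intro c p p' hpp ⟨a, b, hab, hu, hsq, ha, hz⟩ hs
    have hb : x (e c) b ≠ 0 := fun h0 => ha (mul_self_eq_zero.mp (by rw [hsq, h0, mul_zero]))
    have ha' : a = p ∨ a = p' := by by_contra hn; push Not at hn; exact ha (hs a hn.1 hn.2)
    have hb' : b = p ∨ b = p' := by by_contra hn; push Not at hn; exact hb (hs b hn.1 hn.2)
    refine diag_val hpp hu ?_ hs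
    rcases ha' with rfl | rfl <;> rcases hb' with rfl | rfl <;>
      first | exact absurd rfl hab | exact hsq | exact hsq.symm
  have s0 : ∀ k, k ≠ 0 → k ≠ 1 → x (e 0) k = 0 := fun k h1 h2 => z1 0 k (by simp [h1, h2])
  have s1 : ∀ k, k ≠ 0 → k ≠ 1 → x (e 1) k = 0 := fun k h1 h2 => z1 1 k (by simp [h1, h2])
  have s2 : ∀ k, k ≠ 2 → k ≠ 3 → x (e 2) k = 0 := fun k h1 h2 => z2 2 k (by simp [h1, h2])
  have s5 : ∀ k, k ≠ 4 → k ≠ 5 → x (e 5) k = 0 := fun k h1 h2 => by
    fin_cases k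
    · exact z1 5 _ (by decide)
    · exact z1 5 _ (by decide)
    · exact z2 5 _ (by decide)
    · exact z2 5 _ (by decide)
    · exact absurd rfl h1
    · exact absurd rfl h2
  have d0 := (h.shape_col hA hx (d := 4) (p := 0) (p' := 1) (w := 2) s0 (z1 4 0 (by decide))
    (z1 4 1 (by decide)) (z1 0 2 (by decide)) (z2 4 2 (by decide))).resolve_left (hnax 0)
  have d1 := (h.shape_col hA hx (d := 4) (p := 0) (p' := 1) (w := 2) s1 (z1 4 0 (by decide))
    (z1 4 1 (by decide)) (z1 1 2 (by decide)) (z2 4 2 (by decide))).resolve_left (hnax 1)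
  have d2 := (h.shape_col hA hx (d := 4) (p := 2) (p' := 3) (w := 0) s2 (z2 4 2 (by decide))
    (z2 4 3 (by decide)) (z2 2 0 (by decide)) (z1 4 0 (by decide))).resolve_left (hnax 2)
  have d5 := (h.shape_col hA hx (d := 2) (p := 4) (p' := 5) (w := 0) s5 (z2 2 4 (by decide))
    (z2 2 5 (by decide)) (z1 5 0 (by decide)) (z2 2 0 (by decide))).resolve_left (hnax 5)
  obtain ⟨hA0, hB0⟩ := hdiag 0 0 1 (by decide) d0 s0
  obtain ⟨hC1, hD1⟩ := hdiag 1 0 1 (by decide) d1 s1
  obtain ⟨hA2, hB2⟩ := hdiag 2 2 3 (by decide) d2 s2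
  obtain ⟨-, hB5⟩ := hdiag 5 4 5 (by decide) d5 s5
  set σ : Equiv.Perm (Fin 6) := Equiv.swap 3 5 * Equiv.swap 3 4 with hσdef
  have hσ : Equiv.Perm.sign σ = 1 := by decide
  set x' : GG := P σ * x * (P σ : GG)⁻¹ with hx'def
  have hy : x' * x ∈ L := L.mul_mem (h.conj_mem (h.perm σ hσ) hx) hx
  have hco : ∀ i k, x' (e (σ i)) (σ k) = x (e i) k := fun i k => by
    have e1 : (P σ : GG)⁻¹ (e (σ i)) = e i := by
      apply (P σ : GG).injective
      rw [P_e]
      exact LinearEquiv.apply_symm_apply _ _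
    rw [hx'def, LinearEquiv.mul_apply, LinearEquiv.mul_apply, e1, P_apply, Equiv.symm_apply_apply]
  have hval : ∀ c p p' : Fin 6, p ≠ p' → (∀ k, k ≠ p → k ≠ p' → x (e c) k = 0) → ∀ k,
      (x' * x) (e c) k = x (e c) p * x' (e p) k + x (e c) p' * x' (e p') k := by
    intro c p p' hpp hs k
    have hv : x (e c) = x (e c) p • e p + x (e c) p' • e p' := funext fun l => by
      rw [Pi.add_apply, Pi.smul_apply, Pi.smul_apply, smul_eq_mul, smul_eq_mul]
      by_cases h1 : l = p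
      · subst h1; rw [e_same, e_ne hpp]; ring
      by_cases h2 : l = p'
      · subst h2; rw [e_same, e_ne hpp.symm]; ring
      · rw [hs l h1 h2, e_ne h1, e_ne h2]; ring
    rw [LinearEquiv.mul_apply]
    conv_lhs => rw [hv]
    rw [map_add, map_smul, map_smul, Pi.add_apply, Pi.smul_apply, Pi.smul_apply, smul_eq_mul,
      smul_eq_mul]
  have f0 : σ 0 = 0 := by decide
  have f1 : σ 1 = 1 := by decide
  have hax : IsAxis ((x' * x) (e 0)) := by
    have e00 := hval 0 0 1 (by decide) s0 0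
    have e01 := hval 0 0 1 (by decide) s0 1
    have c00 := hco 0 0; have c01 := hco 0 1; have c10 := hco 1 0; have c11 := hco 1 1
    rw [f0] at c00; rw [f0, f1] at c01; rw [f1, f0] at c10; rw [f1] at c11
    rw [c00, c10] at e00; rw [c01, c11] at e01
    have hAC : x (e 0) 0 * x (e 1) 0 + x (e 0) 1 * x (e 1) 1 = 0 := by
      rw [← dot_two (by decide) s0, hI, e_dot_ne (by decide)]
    set A := x (e 0) 0
    set B := x (e 0) 1
    set C := x (e 1) 0
    set D := x (e 1) 1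
    have hz : ∀ k, k ≠ 0 → k ≠ 1 → (x' * x) (e 0) k = 0 := fun k h1 h2 => by
      rw [hval 0 0 1 (by decide) s0 k]
      obtain ⟨l, rfl⟩ := σ.surjective k
      have c0 := hco 0 l; have c1 := hco 1 l
      rw [f0] at c0; rw [f1] at c1
      rw [c0, c1, s0 l (fun h' => h1 (h' ▸ f0)) (fun h' => h2 (h' ▸ f1)),
        s1 l (fun h' => h1 (h' ▸ f0)) (fun h' => h2 (h' ▸ f1))]
      ring
    have hprod : (A * A + B * C) * (A * B + B * D) = 0 := by
      refine (mul_eq_zero.mp (?_ : (2 : F) * ((A * A + B * C) * (A * B + B * D)) = 0)).resolve_left h.two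
      linear_combination (A * B) * (hA0 - hC1) + 2 * (A * A + B * C) * hAC + (A * C) * (hB0 - hA0)
    rcases mul_eq_zero.mp hprod with h0 | h0
    · refine ⟨1, (x' * x) (e 0) 1, funext fun k => ?_⟩
      by_cases h1 : k = 1
      · subst h1; simp [e_same]
      by_cases h2 : k = 0
      · subst h2; rw [e00, h0]; simp [e_ne h1]
      · simp [e_ne h1, hz k h2 h1]
    · refine ⟨0, (x' * x) (e 0) 0, funext fun k => ?_⟩
      by_cases h1 : k = 0
      · subst h1; simp [e_same]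
      by_cases h2 : k = 1
      · subst h2; rw [e01, h0]; simp [e_ne h1]
      · simp [e_ne h1, hz k h1 h2]
  obtain ⟨j, t, hj⟩ := hax
  obtain ⟨m, r, hr⟩ := hA _ hy ⟨0, j, t, hj⟩ 2
  have c22 := hco 2 2; have c24 := hco 2 3; have c55 := hco 5 5
  rw [show σ 2 = 2 by decide] at c22 c24
  rw [show σ 3 = 4 by decide] at c24
  rw [show σ 5 = 3 by decide] at c55
  have g2 := hval 2 2 3 (by decide) s2 2
  have g3 := hval 2 2 3 (by decide) s2 3
  have g4 := hval 2 2 3 (by decide) s2 4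
  have q32 : x' (e 3) 2 = 0 := by
    have := hco 5 2
    rw [show σ 5 = 3 by decide, show σ 2 = 2 by decide] at this
    rw [this, s5 2 (by decide) (by decide)]
  have q23 : x' (e 2) 3 = 0 := by
    have := hco 2 5
    rw [show σ 5 = 3 by decide, show σ 2 = 2 by decide] at this
    rw [this, s2 5 (by decide) (by decide)]
  rw [c22, q32, mul_zero, add_zero] at g2
  rw [c55, q23, mul_zero, zero_add] at g3
  have hm2 : m = 2 := by
    by_contra hne
    have := congrFun hr 2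
    rw [Pi.smul_apply, e_ne (Ne.symm hne), smul_zero, g2] at this
    exact one_ne_zero (α := F) (by linear_combination -hA2 + 2 * this)
  subst hm2
  have h3 := congrFun hr 3
  rw [Pi.smul_apply, e_ne (by decide), smul_zero, g3] at h3
  exact one_ne_zero (α := F) (by
    linear_combination -hB2 - (2 * x (e 2) 3 * x (e 2) 3) * hB5 + 4 * (x (e 2) 3 * x (e 5) 5) * h3)

/-- An element keeping three coordinate planes is monomial. -/
theorem two_flips {x : GG} (hx : x ∈ L) {a b c d : Fin 6} (hinj : Function.Injective ![a, b, c, d])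
    (hab : flip a b * x = x * flip a b) (hcd : flip c d * x = x * flip c d) : IsMono x := by
  obtain ⟨σ, hσ, hmap⟩ := exists_even_map ![a, b, c, d] ![0, 1, 2, 3] hinj (by decide) (by norm_num)
  have ha : σ a = 0 := hmap 0
  have hb : σ b = 1 := hmap 1
  have hc : σ c = 2 := hmap 2
  have hd : σ d = 3 := hmap 3
  refine mono_of_conj (mono_P σ) (P_iso σ) (h.planes hA (h.conj_mem (h.perm σ hσ) hx) ?_ ?_)
  · rw [← ha, ← hb, ← P_conj_flip]; exact comm_conj hab
  · rw [← hc, ← hd, ← P_conj_flip]; exact comm_conj hcd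

/-- The centraliser of a sign change is monomial (standard position). -/
theorem comm_std {g : GG} (hg : g ∈ L) (hc : flip 0 1 * g = g * flip 0 1) : IsMono g := by
  classical
  have hI := h.iso g hg
  have z : ∀ i k : Fin 6, ¬ ((i = 0 ∨ i = 1) ↔ (k = 0 ∨ k = 1)) → g (e i) k = 0 := fun i k hik =>
    zero_of_comm h.two (by decide) hc hik
  by_contra hm
  have hnax : ∀ i, ¬ IsAxis (g (e i)) := fun i ⟨j, t, hj⟩ => hm (hA g hg ⟨i, j, t, hj⟩)
  obtain ⟨s, hs⟩ : ∃ s : GG, s = R (g (e 2)) * R (g (e 3)) := ⟨_, rfl⟩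
  have hsL : s ∈ L := by rw [hs, ← conj_flip hI]; exact h.conj_mem hg (h.flip_mem 2 3)
  have hs01 : ∀ k : Fin 6, k = 0 ∨ k = 1 → s (e k) = e k := fun k hk => by
    rw [hs, LinearEquiv.mul_apply, R_of_ortho (u := g (e 3)) (by rw [dot_e]; exact z 3 k (by simp [hk])),
      R_of_ortho (by rw [dot_e]; exact z 2 k (by simp [hk]))]
  have hsm : IsMono s := h.mono_of_fix hA hsL (hs01 0 (Or.inl rfl))
  have hsI := h.iso s hsL
  have hs2 : s * s = 1 := by
    rw [hs]
    exact pair_sq (by rw [hI, e_dot_self]) (by rw [hI, e_dot_self]) (by rw [hI, e_dot_ne (by decide)])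
  choose π cs hπ using hsm
  have hb : ∀ i, ¬ (i = 0 ∨ i = 1) → ¬ (π i = 0 ∨ π i = 1) := fun i hi hpi => hi (by
    have h1 : i = π i := mono_inj hsI (hπ i) (c' := 1) (by rw [hs01 _ hpi, one_smul])
    exact h1 ▸ hpi)
  have hfix : ∀ i, π i = i → cs i = 1 ∨ cs i = -1 := fun i _ =>
    mul_self_eq_one_iff.mp (mono_pair hsI (hπ i))
  obtain ⟨i, j, t, hi, hj, hij, hswap⟩ : ∃ i j t, ¬ (i = 0 ∨ i = 1) ∧ ¬ (j = 0 ∨ j = 1) ∧ i ≠ j ∧
      ((s (e i) = t • e j ∧ s (e j) = t • e i) ∨ (s (e i) = t • e i ∧ s (e j) = t • e j)) := by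
    by_cases hex : ∃ i, ¬ (i = 0 ∨ i = 1) ∧ π i ≠ i
    · obtain ⟨i, hi, hne⟩ := hex
      exact ⟨i, π i, cs i, hi, hb i hi, Ne.symm hne, Or.inl ⟨hπ i, mono_back hsI hs2 (hπ i)⟩⟩
    · push Not at hex
      have e2 := hex 2 (by decide); have e3 := hex 3 (by decide); have e4 := hex 4 (by decide)
      have key : ∀ i j, π i = i → π j = j → cs i = cs j →
          s (e i) = cs i • e i ∧ s (e j) = cs i • e j := fun i j hi hj hij =>
        ⟨by conv_lhs => rw [hπ i, hi], by rw [hij]; conv_lhs => rw [hπ j, hj]⟩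
      have hp : cs 2 = cs 3 ∨ cs 2 = cs 4 ∨ cs 3 = cs 4 := by
        rcases hfix 2 e2 with a2 | a2 <;> rcases hfix 3 e3 with a3 | a3 <;>
          rcases hfix 4 e4 with a4 | a4 <;> simp [a2, a3, a4]
      rcases hp with hp | hp | hp
      · exact ⟨2, 3, cs 2, by decide, by decide, by decide, Or.inr (key 2 3 e2 e3 hp)⟩
      · exact ⟨2, 4, cs 2, by decide, by decide, by decide, Or.inr (key 2 4 e2 e4 hp)⟩
      · exact ⟨3, 4, cs 3, by decide, by decide, by decide, Or.inr (key 3 4 e3 e4 hp)⟩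
  push Not at hi hj
  set σ : Equiv.Perm (Fin 6) := Equiv.swap 0 1 * Equiv.swap i j with hσdef
  have hσ : Equiv.Perm.sign σ = 1 := by
    rw [hσdef, map_mul, Equiv.Perm.sign_swap (by decide), Equiv.Perm.sign_swap hij]; rfl
  have σ0 : σ 0 = 1 := by
    rw [hσdef, Equiv.Perm.mul_apply, Equiv.swap_apply_of_ne_of_ne hi.1.symm hj.1.symm,
      Equiv.swap_apply_left]
  have σ1 : σ 1 = 0 := by
    rw [hσdef, Equiv.Perm.mul_apply, Equiv.swap_apply_of_ne_of_ne hi.2.symm hj.2.symm,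
      Equiv.swap_apply_right]
  have σi : σ i = j := by
    rw [hσdef, Equiv.Perm.mul_apply, Equiv.swap_apply_left, Equiv.swap_apply_of_ne_of_ne hj.1 hj.2]
  have σj : σ j = i := by
    rw [hσdef, Equiv.Perm.mul_apply, Equiv.swap_apply_right, Equiv.swap_apply_of_ne_of_ne hi.1 hi.2]
  have σk : ∀ k, k ≠ 0 → k ≠ 1 → k ≠ i → k ≠ j → σ k = k := fun k k0 k1 ki kj => by
    rw [hσdef, Equiv.Perm.mul_apply, Equiv.swap_apply_of_ne_of_ne ki kj,
      Equiv.swap_apply_of_ne_of_ne k0 k1]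
  have hPs : (P σ : GG) * s = s * P σ := ext_e fun k => by
    rw [LinearEquiv.mul_apply, LinearEquiv.mul_apply, P_e]
    by_cases k0 : k = 0
    · subst k0; rw [σ0, hs01 0 (Or.inl rfl), hs01 1 (Or.inr rfl), P_e, σ0]
    by_cases k1 : k = 1
    · subst k1; rw [σ1, hs01 0 (Or.inl rfl), hs01 1 (Or.inr rfl), P_e, σ1]
    by_cases ki : k = i
    · subst ki
      rcases hswap with ⟨u1, u2⟩ | ⟨u1, u2⟩ <;> rw [σi, u1, u2, map_smul, P_e] <;> simp [σi, σj]
    by_cases kj : k = j
    · subst kj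
      rcases hswap with ⟨u1, u2⟩ | ⟨u1, u2⟩ <;> rw [σj, u1, u2, map_smul, P_e] <;> simp [σi, σj]
    rw [σk k k0 k1 ki kj, hπ k, map_smul, P_e]
    obtain ⟨n0, n1⟩ := not_or.mp (hb k (by simp [k0, k1]))
    congr 2
    refine σk _ n0 n1 (fun hp => ?_) (fun hp => ?_)
    · rcases hswap with ⟨-, u2⟩ | ⟨u1, -⟩
      · exact kj (mono_inj hsI (hπ k) (u2.trans (by rw [hp])))
      · exact ki (mono_inj hsI (hπ k) (u1.trans (by rw [hp])))
    · rcases hswap with ⟨u1, -⟩ | ⟨-, u2⟩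
      · exact ki (mono_inj hsI (hπ k) (u1.trans (by rw [hp])))
      · exact kj (mono_inj hsI (hπ k) (u2.trans (by rw [hp])))
  have hPf : (flip 0 1 : GG) * P σ = P σ * flip 0 1 := comm_of_conj (by
    rw [P_conj_flip, σ0, σ1, flip_comm 1 0 (by decide)])
  have hτm : IsMono (g⁻¹ * P σ * g) := by
    refine h.planes hA (L.mul_mem (L.mul_mem (L.inv_mem hg) (h.perm σ hσ)) hg) ?_ ?_
    · have := comm_conj (y := g⁻¹) hPf
      have e : g⁻¹ * flip 0 1 * g⁻¹⁻¹ = (flip 0 1 : GG) := by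
        rw [inv_inv, mul_assoc, hc, inv_mul_cancel_left]
      rw [e, inv_inv] at this
      exact this
    · have e : g⁻¹ * s * g⁻¹⁻¹ = (flip 2 3 : GG) := by
        rw [hs, ← conj_flip hI]; group
      have := comm_conj (y := g⁻¹) hPs.symm
      rw [e, inv_inv] at this
      exact this
  obtain ⟨l, c, hl⟩ := hτm 0
  have hge : P σ (g (e 0)) = c • g (e l) := by
    rw [← map_smul, ← hl, LinearEquiv.mul_apply, LinearEquiv.mul_apply]
    exact (LinearEquiv.apply_symm_apply g _).symm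
  have hsig : σ.symm 0 = 1 ∧ σ.symm 1 = 0 := by
    constructor <;> rw [Equiv.symm_apply_eq] <;> simp [σ0, σ1]
  have q0 := congrFun hge 0
  have q1 := congrFun hge 1
  rw [P_apply, hsig.1, Pi.smul_apply, smul_eq_mul] at q0
  rw [P_apply, hsig.2, Pi.smul_apply, smul_eq_mul] at q1
  have s0 : ∀ k, k ≠ 0 → k ≠ 1 → g (e 0) k = 0 := fun k h1 h2 => z 0 k (by simp [h1, h2])
  have hu : g (e 0) ⬝ᵥ g (e 0) = 1 := by rw [hI, e_dot_self]
  have hu2 := dot_two (by decide : (0 : Fin 6) ≠ 1) s0 (w := g (e 0))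
  rw [hu] at hu2
  rcases Decidable.em (l = 0 ∨ l = 1) with hl01 | hl01
  swap
  · rw [z l 0 (by simp [hl01]), mul_zero] at q0
    rw [z l 1 (by simp [hl01]), mul_zero] at q1
    rw [q0, q1, mul_zero, add_zero] at hu2
    exact one_ne_zero hu2
  rcases hl01 with rfl | rfl
  swap
  · have hAC : g (e 0) 0 * g (e 1) 0 + g (e 0) 1 * g (e 1) 1 = 0 := by
      rw [← dot_two (by decide) s0, hI, e_dot_ne (by decide)]
    have h0 : g (e 0) 0 * g (e 0) 1 = 0 := by
      refine (mul_eq_zero.mp (?_ : (2 : F) * (g (e 0) 0 * g (e 0) 1) = 0)).resolve_left h.two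
      linear_combination c * hAC + g (e 0) 0 * q0 + g (e 0) 1 * q1
    rcases mul_eq_zero.mp h0 with h1 | h1
    · refine hnax 0 ⟨1, g (e 0) 1, funext fun k => ?_⟩
      by_cases k1 : k = 1
      · subst k1; simp [e_same]
      by_cases k0 : k = 0
      · subst k0; simp [h1, e_ne k1]
      · simp [e_ne k1, s0 k k0 k1]
    · refine hnax 0 ⟨0, g (e 0) 0, funext fun k => ?_⟩
      by_cases k0 : k = 0
      · subst k0; simp [e_same]
      by_cases k1 : k = 1
      · subst k1; simp [h1, e_ne k0]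
      · simp [e_ne k0, s0 k k0 k1]
  have hcc : c * c = 1 := by
    have h1 := mono_pair (h.iso _ (L.mul_mem (L.mul_mem (L.inv_mem hg) (h.perm σ hσ)) hg)) hl
    exact h1
  have hsq : g (e 0) 0 * g (e 0) 0 = g (e 0) 1 * g (e 0) 1 := by
    linear_combination (-(c * g (e 0) 0) - g (e 0) 1) * q0 - (g (e 0) 0 * g (e 0) 0) * hcc
  have hq0 : R (g (e 0)) * R (e 2) ∈ L := h.diag_mem hu (by decide) s0 hsq (by decide) (by decide)
  have hblk : ∀ k : Fin 6, ¬ (k = 0 ∨ k = 1) → IsDiag (g (e k)) := fun k hk => by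
    have hq : R (e 2 : V) * R (g (e k)) ∈ L := by
      have h1 := L.mul_mem (L.inv_mem hq0) (h.conj_mem hg (h.flip_mem 0 k))
      rwa [conj_flip hI, _root_.mul_inv_rev, R_inv, R_inv, mul_assoc,
        ← mul_assoc (R (g (e 0))) (R (g (e 0))), R_mul_self, one_mul] at h1
    have hm' : IsMono (R (e 2 : V) * R (g (e k))) := h.mono_of_fix hA hq (i := 0) (by
      rw [LinearEquiv.mul_apply, R_of_ortho (u := g (e k)) (by rw [dot_e]; exact z k 0 (by simp [hk])),
        R_of_ortho (by rw [dot_e]; exact e_ne (by decide))])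
    refine (shape_of_R h.two (by rw [hI, e_dot_self]) ?_).resolve_left (hnax k)
    have := mono_mul (mono_R_e (F := F) 2) hm'
    rwa [← mul_assoc, R_mul_self, one_mul] at this
  obtain ⟨a, b, hab, hu2', hsq2, ha, hz⟩ := hblk 2 (by decide)
  have hb' : g (e 2) b ≠ 0 := fun h0 => ha (mul_self_eq_zero.mp (by rw [hsq2, h0, mul_zero]))
  have hblock : ∀ {l k : Fin 6}, ¬ (l = 0 ∨ l = 1) → g (e l) k ≠ 0 → k ≠ 0 ∧ k ≠ 1 :=
    fun hl hk => ⟨fun e1 => hk (z _ _ (by simp [hl, e1])), fun e1 => hk (z _ _ (by simp [hl, e1]))⟩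
  have ha01 := hblock (by decide) ha
  have hb01 := hblock (by decide) hb'
  obtain ⟨m, hm2, hm01, hms⟩ : ∃ m, m ≠ 2 ∧ ¬ (m = 0 ∨ m = 1) ∧
      ∀ k, k ≠ a → k ≠ b → g (e m) k = 0 := by
    by_contra hno
    push Not at hno
    have hdis : ∀ m, m ≠ 2 → ¬ (m = 0 ∨ m = 1) → g (e m) a = 0 ∧ g (e m) b = 0 := fun m hm hm01 => by
      obtain ⟨k, hka, hkb, hk⟩ := hno m hm (not_or.mp hm01)
      have hdot : g (e 2) a * g (e m) a + g (e 2) b * g (e m) b = 0 := by
        rw [← dot_two hab hz, hI, e_dot_ne hm.symm]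
      obtain ⟨p, p', hpp, -, hpsq, hp, hps⟩ := hblk m hm01
      have hp' : g (e m) p' ≠ 0 := fun h0 => hp (mul_self_eq_zero.mp (by rw [hpsq, h0, mul_zero]))
      by_contra hne
      rw [not_and_or] at hne
      have h2' : g (e m) a ≠ 0 ∧ g (e m) b ≠ 0 := by
        rcases hne with hne | hne
        · refine ⟨hne, fun h0 => ?_⟩
          rw [h0, mul_zero, add_zero] at hdot
          exact (mul_ne_zero ha hne) hdot
        · refine ⟨fun h0 => ?_, hne⟩
          rw [h0, mul_zero, zero_add] at hdot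
          exact (mul_ne_zero hb' hne) hdot
      have hm_ : ∀ {l}, g (e m) l ≠ 0 → l = p ∨ l = p' := fun hl => by
        by_contra hn; push Not at hn; exact hl (hps _ hn.1 hn.2)
      rcases hm_ h2'.1 with e1 | e1 <;> rcases hm_ h2'.2 with e2 | e2 <;> rcases hm_ hk with e3 | e3 <;>
        first
          | exact hab (e1.trans e2.symm)
          | exact hka (e3.trans e1.symm)
          | exact hkb (e3.trans e2.symm)
    obtain ⟨p, p', hpp, -, hpsq, hp, hps⟩ := hblk 3 (by decide)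
    have hp' : g (e 3) p' ≠ 0 := fun h0 => hp (mul_self_eq_zero.mp (by rw [hpsq, h0, mul_zero]))
    have hp01 := hblock (by decide) hp
    have hp01' := hblock (by decide) hp'
    obtain ⟨d3a, d3b⟩ := hdis 3 (by decide) (by decide)
    have hsix : ∀ k, k ≠ 0 → k ≠ 1 → k ≠ a → k ≠ b → k = p ∨ k = p' := fun k k0 k1 ka kb => by
      by_contra hn
      push Not at hn
      have hcard := Finset.card_le_univ ({k, 0, 1, a, b, p, p'} : Finset (Fin 6))
      have q1 : p ≠ a := fun e1 => hp (e1 ▸ d3a)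
      have q2 : p ≠ b := fun e1 => hp (e1 ▸ d3b)
      have q3 : p' ≠ a := fun e1 => hp' (e1 ▸ d3a)
      have q4 : p' ≠ b := fun e1 => hp' (e1 ▸ d3b)
      rw [Finset.card_insert_of_notMem (by simp [k0, k1, ka, kb, hn.1, hn.2]),
        Finset.card_insert_of_notMem (by simp [ha01.1.symm, hb01.1.symm, hp01.1.symm, hp01'.1.symm]),
        Finset.card_insert_of_notMem (by simp [ha01.2.symm, hb01.2.symm, hp01.2.symm, hp01'.2.symm]),
        Finset.card_insert_of_notMem (by simp [hab, q1.symm, q3.symm]),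
        Finset.card_insert_of_notMem (by simp [q2.symm, q4.symm]),
        Finset.card_pair hpp, Fintype.card_fin] at hcard
      omega
    have hsup : ∀ l, l ≠ 2 → ¬ (l = 0 ∨ l = 1) → ∀ k, k ≠ p → k ≠ p' → g (e l) k = 0 :=
      fun l hl hl01 k k1 k2 => by
        by_contra hk
        obtain ⟨r1, r2⟩ := hblock hl01 hk
        exact (hsix k r1 r2 (fun e1 => hk (e1 ▸ (hdis l hl hl01).1))
          (fun e1 => hk (e1 ▸ (hdis l hl hl01).2))).elim k1 k2
    have dd : ∀ l l' : Fin 6, l ≠ 2 → ¬ (l = 0 ∨ l = 1) → l ≠ l' →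
        g (e l) p * g (e l') p + g (e l) p' * g (e l') p' = 0 := fun l l' a1 a2 a3 => by
      rw [← dot_two hpp (hsup l a1 a2), hI, e_dot_ne a3]
    have nn : ∀ l : Fin 6, l ≠ 2 → ¬ (l = 0 ∨ l = 1) →
        g (e l) p * g (e l) p + g (e l) p' * g (e l) p' = 1 := fun l a1 a2 => by
      rw [← dot_two hpp (hsup l a1 a2), hI, e_dot_self]
    obtain ⟨w1, w2⟩ := two_orth (a₁ := g (e 3) p) (a₂ := g (e 3) p') (b₁ := g (e 4) p) (b₂ := g (e 4) p')
      (c₁ := g (e 5) p) (c₂ := g (e 5) p')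
      (by rw [nn 3 (by decide) (by decide)]; exact one_ne_zero)
      (by rw [nn 4 (by decide) (by decide)]; exact one_ne_zero)
      (dd 3 4 (by decide) (by decide) (by decide)) (dd 3 5 (by decide) (by decide) (by decide))
      (dd 4 5 (by decide) (by decide) (by decide))
    have := nn 5 (by decide) (by decide)
    rw [w1, w2, mul_zero, add_zero] at this
    exact zero_ne_one this
  have hflip : g * flip 2 m * g⁻¹ = flip a b := by
    rw [conj_flip hI]
    exact pair_eq_flip hu2' (by rw [hI, e_dot_self]) (by rw [hI, e_dot_ne hm2.symm]) hab hz hms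
  have inj4 : ∀ {p q : Fin 6}, p ≠ 0 → p ≠ 1 → q ≠ 0 → q ≠ 1 → p ≠ q →
      Function.Injective ![0, 1, p, q] := fun {p q} p0 p1 q0 q1 pq i j hij => by
    fin_cases i <;> fin_cases j <;>
      simp [p0, p1, q0, q1, pq, p0.symm, p1.symm, q0.symm, q1.symm, pq.symm] at hij ⊢
  have hm01' := not_or.mp hm01
  have i2 := inj4 (p := 2) (q := m) (by decide) (by decide) hm01'.1 hm01'.2 hm2.symm
  obtain ⟨ρ, hρ, hmap⟩ := exists_even_map ![0, 1, a, b] ![0, 1, 2, m]
    (inj4 ha01.1 ha01.2 hb01.1 hb01.2 hab) i2 (by norm_num)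
  have r0 : ρ 0 = 0 := hmap 0
  have r1 : ρ 1 = 1 := hmap 1
  have ra : ρ a = 2 := hmap 2
  have rb : ρ b = m := hmap 3
  have hmx : IsMono ((P ρ : GG) * g) := by
    refine h.two_flips hA (L.mul_mem (h.perm ρ hρ) hg) i2 ?_ ?_
    · have e1 : (flip 0 1 : GG) * P ρ = P ρ * flip 0 1 := comm_of_conj (by rw [P_conj_flip, r0, r1])
      rw [← mul_assoc, e1, mul_assoc, hc, ← mul_assoc]
    · refine comm_of_conj ?_
      rw [show (P ρ : GG) * g * flip 2 m * ((P ρ : GG) * g)⁻¹ =
        P ρ * (g * flip 2 m * g⁻¹) * (P ρ : GG)⁻¹ by group, hflip, P_conj_flip, ra, rb]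
  apply hm
  have e : g = (P ρ : GG)⁻¹ * ((P ρ : GG) * g) := by group
  rw [e]
  exact mono_mul (mono_inv (P_iso ρ) (mono_P ρ)) hmx

/-- The centraliser of a sign change is monomial. -/
theorem comm_mono {g : GG} (hg : g ∈ L) {a b : Fin 6} (hab : a ≠ b)
    (hc : flip a b * g = g * flip a b) : IsMono g := by
  obtain ⟨σ, hσ, hmap⟩ := exists_even_map ![a, b] ![0, 1]
    (fun i j hij => by fin_cases i <;> fin_cases j <;> simp [hab, hab.symm] at hij ⊢) (by decide) (by norm_num)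
  have ha : σ a = 0 := hmap 0
  have hb : σ b = 1 := hmap 1
  refine mono_of_conj (mono_P σ) (P_iso σ) (h.comm_std hA (h.conj_mem (h.perm σ hσ) hg) ?_)
  rw [← ha, ← hb, ← P_conj_flip]; exact comm_conj hc

/-- An element carrying a flip to a flip is monomial. -/
theorem to_flip {g : GG} (hg : g ∈ L) {a b a' b' : Fin 6} (hab : a ≠ b) (hab' : a' ≠ b')
    (hgf : g * flip a b * g⁻¹ = flip a' b') : IsMono g := by
  obtain ⟨σ, hσ, hmap⟩ := exists_even_map ![a', b'] ![a, b]
    (fun i j hij => by fin_cases i <;> fin_cases j <;> simp [hab', hab'.symm] at hij ⊢)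
    (fun i j hij => by fin_cases i <;> fin_cases j <;> simp [hab, hab.symm] at hij ⊢) (by norm_num)
  have ha : σ a' = a := hmap 0
  have hb : σ b' = b := hmap 1
  have hx : IsMono ((P σ : GG) * g) := h.comm_mono hA (L.mul_mem (h.perm σ hσ) hg) hab (comm_of_conj (by
    rw [show (P σ : GG) * g * flip a b * ((P σ : GG) * g)⁻¹ =
      P σ * (g * flip a b * g⁻¹) * (P σ : GG)⁻¹ by group, hgf, P_conj_flip, ha, hb]))
  have e : g = (P σ : GG)⁻¹ * ((P σ : GG) * g) := by group
  rw [e]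
  exact mono_mul (mono_inv (P_iso σ) (mono_P σ)) hx

end Six

end Cfsg.Agent.FrameSix
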