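import Cfsg.Agent.Lib.FrameSix.Maximal
import Cfsg.Agent.Lib.LowIso.Herm4
import Cfsg.Agent.Lib.Subspaces.UnitMonoFour

/-!
# The six matrices of a unitary group of type `4 ∘ 2^(1+4)` can be taken real

The special unitary group commutes with a semilinear involution of the antisymmetric matrices.  The six
axes of a frame are fixed by it, and the Pfaffians of real representatives lie in one square class.
-/

set_option autoImplicit false

namespace Cfsg.Agent.FrameSix.Real

open Matrix Cfsg.Agent.Lib.LowIso Cfsg.Agent.TableRelax.Mono Cfsg.Agent.FrameSix.Klein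
  Cfsg.Agent.Lib.Subspaces.UnitaryGen

variable {F : Type*} [Field F] [Fintype F] {q : ℕ} (hF : Fintype.card F = q ^ 2)

local notation "M4" => Matrix (Fin 4) (Fin 4) F
local notation "σ" => powAut hF
local notation "SUsub" => (Cfsg.GU 4 F q ⊓ Cfsg.Geo.specialLinear (Fin 4) F)

include hF

theorem ss (x : F) : σ (σ x) = x := Cfsg.Agent.Lib.Subspaces.UnitCircle.sigma_sigma hF x

theorem unitary_matrix {g : GL (Fin 4) F} (hg : g ∈ Cfsg.GU 4 F q) :
    (g : M4)ᵀ * (g : M4).map σ = 1 := by
  have h := mem_GU_iff'.mp hg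
  ext i j
  have hij := h (Pi.single i 1) (Pi.single j 1)
  simp only [Cfsg.hermForm, mulVec_single_one, Matrix.col_apply, ← powAut_apply hF] at hij
  rw [Matrix.mul_apply]
  simp only [Matrix.transpose_apply, Matrix.map_apply]
  rw [hij, Finset.sum_eq_single i (fun b _ hb => by simp [hb]) (by simp)]
  by_cases hk : i = j
  · subst hk; simp
  · simp [hk]

theorem mem_GU_of_matrix {g : GL (Fin 4) F} (hg : (g : M4)ᵀ * (g : M4).map σ = 1) :
    g ∈ Cfsg.GU 4 F q := by
  refine mem_GU_iff'.mpr fun u v => ?_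
  have hd : ∀ x y : Fin 4 → F, Cfsg.hermForm 4 F q x y = x ⬝ᵥ (σ ∘ y) := fun x y => rfl
  have hm : σ ∘ ((g : M4) *ᵥ v) = (g : M4).map σ *ᵥ (σ ∘ v) :=
    funext fun i => RingHom.map_mulVec (σ : F →+* F) _ v i
  rw [hd, hd, hm, Matrix.dotProduct_mulVec, ← Matrix.vecMul_transpose, Matrix.vecMul_vecMul, hg,
    Matrix.vecMul_one]

/-- The semilinear involution. -/
noncomputable def J (X : M4) : M4 := -((dual X).map σ)

theorem J_alt (X : M4) : IsAlt (J hF X) := by
  refine ⟨σ (X 2 3), -σ (X 1 3), σ (X 1 2), σ (X 0 3), -σ (X 0 2), σ (X 0 1), ?_⟩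
  ext i j
  fin_cases i <;> fin_cases j <;> simp [J, dual, altMat]

theorem J_add (X Y : M4) : J hF (X + Y) = J hF X + J hF Y := by
  ext i j
  fin_cases i <;> fin_cases j <;> simp [J, dual, altMat, map_add, map_neg] <;> ring

theorem J_smul (c : F) (X : M4) : J hF (c • X) = σ c • J hF X := by
  ext i j
  fin_cases i <;> fin_cases j <;> simp [J, dual, altMat, map_mul]

theorem J_zero : J hF (0 : M4) = 0 := by
  have h := J_smul hF 0 (0 : M4)
  rwa [zero_smul, map_zero, zero_smul] at h

theorem J_sum {κ : Type*} (s : Finset κ) (f : κ → M4) : J hF (∑ k ∈ s, f k) = ∑ k ∈ s, J hF (f k) := by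
  classical
  induction s using Finset.induction_on with
  | empty => rw [Finset.sum_empty, Finset.sum_empty, J_zero hF]
  | insert a t ha ih => rw [Finset.sum_insert ha, Finset.sum_insert ha, J_add hF, ih]

theorem J_J {X : M4} (hX : IsAlt X) : J hF (J hF X) = X := by
  obtain ⟨a, b, c, d, e, f, rfl⟩ := hX
  ext i j
  fin_cases i <;> fin_cases j <;> simp [J, dual, altMat, ss hF, map_neg]

theorem pf_J (X : M4) : pf (J hF X) = σ (pf X) := by
  simp [J, dual, altMat, pf, map_neg, map_mul, map_add, map_sub]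
  ring

theorem bil_J (X Y : M4) : bil (J hF X) (J hF Y) = σ (bil X Y) := by
  rw [bil, bil, ← J_add hF, pf_J hF, pf_J hF, pf_J hF, map_sub, map_sub]

theorem twisted_iff {X : M4} (hX : IsAlt X) :
    Herm4.Twisted (σ : F →+* F) X ↔ J hF X = X := by
  constructor
  · intro h
    obtain ⟨a, b, c, rfl⟩ := Herm4.Twisted.eq h
    ext i j
    fin_cases i <;> fin_cases j <;> simp [J, dual, altMat, ss hF, map_neg]
  · intro h
    obtain ⟨a, b, c, d, e, f, rfl⟩ := hX
    have h1 := congrFun (congrFun h 0) 1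
    have h2 := congrFun (congrFun h 0) 2
    have h3 := congrFun (congrFun h 0) 3
    simp [J, dual, altMat, map_neg] at h1 h2 h3
    have hf : f = σ a := by rw [← h1, ss hF]
    have he : e = -σ b := by rw [← h2, map_neg, ss hF, neg_neg]
    have hd : d = σ c := by rw [← h3, ss hF]
    subst hf he hd
    exact Herm4.twisted_altMat (fun x => ss hF x) a b c

theorem J_conj (h2 : (2 : F) ≠ 0) {g : GL (Fin 4) F} (hg : g ∈ SUsub) {X : M4} (hX : IsAlt X) :
    J hF ((g : M4) * X * (g : M4)ᵀ) = (g : M4) * J hF X * (g : M4)ᵀ := by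
  have hd : (g : M4).det = 1 :=
    (Cfsg.Agent.Lib.Subspaces.Transvection.mem_specialLinear_iff g).mp hg.2
  have hfix : ∀ P : M4, IsAlt P → J hF P = P →
      J hF ((g : M4) * P * (g : M4)ᵀ) = (g : M4) * P * (g : M4)ᵀ := fun P hP hPf =>
    (twisted_iff hF (isAlt_conj hP _)).mp
      (Herm4.twisted_conj hd (unitary_matrix hF hg.1) ((twisted_iff hF hP).mpr hPf))
  obtain ⟨e, he0, he⟩ := Cfsg.Agent.Lib.Subspaces.UnitaryForm.exists_skew_scalar
    (hermForm_isUnitary (n := 4) hF)
  have he' : σ e = -e := eq_neg_of_add_eq_zero_right he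
  set P : M4 := X + J hF X with hP
  set Q : M4 := e • (X - J hF X) with hQ
  have hPa : IsAlt P := isAlt_add hX (J_alt hF X)
  have hsub : X - J hF X = X + (-1 : F) • J hF X := by rw [neg_one_smul, sub_eq_add_neg]
  have hQa : IsAlt Q := by
    rw [hQ, hsub]; exact isAlt_smul (isAlt_add hX (isAlt_smul (J_alt hF X) _)) _
  have hPf : J hF P = P := by rw [hP, J_add hF, J_J hF hX, add_comm]
  have hQf : J hF Q = Q := by
    rw [hQ, hsub, J_smul hF, J_add hF, J_smul hF, J_J hF hX, he', map_neg, map_one]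
    module
  have hXe : X = (2 : F)⁻¹ • (P + e⁻¹ • Q) := by
    rw [hP, hQ, smul_smul e⁻¹, inv_mul_cancel₀ he0, one_smul,
      show X + J hF X + (X - J hF X) = (2 : F) • X by rw [two_smul]; abel, smul_smul,
      inv_mul_cancel₀ h2, one_smul]
  have hlin : ∀ a b : M4, (g : M4) * ((2 : F)⁻¹ • (a + e⁻¹ • b)) * (g : M4)ᵀ =
      (2 : F)⁻¹ • ((g : M4) * a * (g : M4)ᵀ + e⁻¹ • ((g : M4) * b * (g : M4)ᵀ)) := fun a b => by
    simp only [mul_smul_comm, smul_mul_assoc, mul_add, add_mul]
  have hJX : J hF X = (2 : F)⁻¹ • (P + (-e⁻¹) • Q) := by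
    conv_lhs => rw [hXe]
    rw [J_smul hF, J_add hF, J_smul hF, hPf, hQf, map_inv₀, map_inv₀, map_ofNat, he', inv_neg]
  rw [hJX]
  conv_lhs => rw [hXe, hlin, J_smul hF, J_add hF, J_smul hF, hfix P hPa hPf, hfix Q hQa hQf,
    map_inv₀, map_inv₀, map_ofNat, he', inv_neg]
  simp only [mul_smul_comm, smul_mul_assoc, mul_add, add_mul]

/-- A frame of real matrices with real common Pfaffian. -/
structure Real6 (S : Subgroup (GL (Fin 4) F)) where
  K : Frame6 S
  le : S ≤ SUsub
  fixA : ∀ k, J hF (K.A k) = K.A k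
  fixκ : σ K.κ = K.κ

variable {S : Subgroup (GL (Fin 4) F)}

/-- Rescaled axes. -/
theorem exists_real6 (K : Frame6 S) (hS : S ≤ SUsub) : Nonempty (Real6 hF S) := by
  classical
  have h2 := K.two
  have hflipφ : ∀ {a b : Fin 6}, a ≠ b → ∀ x : GL (Fin 4) F,
      (∀ l, (x : M4) * K.A l * (x : M4)ᵀ = (if l = a ∨ l = b then (-1 : F) else 1) • K.A l) →
      K.φ x = flip a b := fun {a b} hab x hxs => ext_e fun l => by
    rw [K.φ_e (hxs l)]
    funext k
    rw [flip_coord hab, Pi.smul_apply, smul_eq_mul]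
    by_cases hk : k = l
    · subst hk; rw [e_same]; split_ifs <;> ring
    · rw [e_ne hk]; split_ifs <;> ring
  -- every axis is fixed up to a scalar
  have hax : ∀ k, ∃ lam : F, J hF (K.A k) = lam • K.A k := by
    intro k
    refine ⟨K.coef (J hF (K.A k)) k, ?_⟩
    conv_lhs => rw [← K.emb_coef (J_alt hF (K.A k))]
    rw [show K.coef (J hF (K.A k)) = K.coef (J hF (K.A k)) k • e k from funext fun l => ?_,
      K.emb_smul, K.emb_e, Pi.smul_apply, e_same, smul_eq_mul, mul_one]
    rw [Pi.smul_apply, smul_eq_mul]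
    by_cases hl : l = k
    · subst hl; rw [e_same, mul_one]
    rw [e_ne hl, mul_zero]
    obtain ⟨m, hm⟩ := exists_fresh ({k, l} : Finset (Fin 6))
      (lt_of_le_of_lt Finset.card_le_two (by norm_num))
    simp only [Finset.mem_insert, Finset.mem_singleton, not_or] at hm
    obtain ⟨x, hx, -, hxs⟩ := K.flipElt l m (Ne.symm hm.2)
    have h1 : K.φ x (K.coef (J hF (K.A k))) = K.coef (J hF (K.A k)) := K.emb_injective (by
      rw [K.emb_φ, K.emb_coef (J_alt hF _), ← J_conj hF h2 (hS hx) (K.alt k), hxs k,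
        if_neg (by simp [Ne.symm hl, Ne.symm hm.1]), one_smul])
    rw [hflipφ (Ne.symm hm.2) x hxs] at h1
    have h3 := congrFun h1 l
    rw [flip_coord (Ne.symm hm.2), if_pos (Or.inl rfl)] at h3
    exact (mul_eq_zero.mp (show (2 : F) * K.coef (J hF (K.A k)) l = 0 by
      linear_combination -h3)).resolve_left h2
  choose lam hlam using hax
  have hA0 : ∀ k, K.A k ≠ 0 := fun k h => by
    have h1 := K.ortho k k
    rw [h, if_pos rfl] at h1
    exact K.two_kappa_ne (by rw [← h1]; simp [bil, pf])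
  obtain ⟨sk, hsk0, hsk⟩ := Cfsg.Agent.Lib.Subspaces.UnitaryForm.exists_skew_scalar
    (hermForm_isUnitary (n := 4) hF)
  have hH90 : ∀ k, ∃ μ : F, μ ≠ 0 ∧ σ μ * lam k = μ := by
    intro k
    have hl : lam k * σ (lam k) = 1 := by
      have h1 := J_J hF (K.alt k)
      rw [hlam, J_smul hF, hlam, smul_smul] at h1
      rw [mul_comm]
      exact smul_left_injective F (hA0 k) (h1.trans (one_smul F _).symm)
    by_cases hm : lam k = -1
    · exact ⟨sk, hsk0, by rw [hm]; linear_combination -hsk⟩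
    · refine ⟨1 + lam k, fun e0 => hm (by linear_combination e0), ?_⟩
      rw [map_add, map_one]
      linear_combination hl
  choose μ hμ0 hμ using hH90
  set B : Fin 6 → M4 := fun k => μ k • K.A k with hB
  have hBalt : ∀ k, IsAlt (B k) := fun k => isAlt_smul (K.alt k) _
  have hBfix : ∀ k, J hF (B k) = B k := fun k => by
    rw [hB]; simp only []
    rw [J_smul hF, hlam, smul_smul, hμ]
  have hBbil : ∀ k l, bil (B k) (B l) = if k = l then 2 * (μ k * μ k * K.κ) else 0 := by
    intro k l
    simp only [hB]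
    rw [bil_smul_left, bil_comm, bil_smul_left, K.ortho]
    by_cases hkl : k = l
    · subst hkl; rw [if_pos rfl, if_pos rfl]; ring
    · rw [if_neg (Ne.symm hkl), if_neg hkl, mul_zero, mul_zero]
  have hBpf : ∀ k, pf (B k) = μ k * μ k * K.κ := fun k => by
    apply mul_left_cancel₀ h2
    rw [← bil_self, hBbil, if_pos rfl]
  clear_value B
  set κs : Fin 6 → F := fun k => μ k * μ k * K.κ with hκs
  have hκ0 : ∀ k, κs k ≠ 0 := fun k => mul_ne_zero (mul_ne_zero (hμ0 k) (hμ0 k)) K.κ0
  have hκfix : ∀ k, σ (κs k) = κs k := fun k => by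
    show σ (μ k * μ k * K.κ) = μ k * μ k * K.κ
    rw [← hBpf k, ← pf_J hF, hBfix]
  -- the Pfaffians lie in one class
  have hclass : ∀ k, ∃ ρ : F, σ ρ = ρ ∧ ρ * ρ * κs k = κs 0 := by
    intro k
    rcases eq_or_ne k 0 with rfl | hk
    · exact ⟨1, map_one _, by ring⟩
    obtain ⟨r, hr, hrs⟩ := Cfsg.Agent.Lib.Subspaces.UnitMonoFour.exists_sqrt_norm hF
      (N := (κs 0 * κs k)⁻¹) (by rw [map_inv₀, map_mul, hκfix, hκfix])
    have hr1 : r * r * (κs 0 * κs k) = 1 := by
      rw [hr, inv_mul_cancel₀ (mul_ne_zero (hκ0 0) (hκ0 k))]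
    have hr0 : r ≠ 0 := fun e0 => by simp [e0] at hr1
    set G : M4 := r • (B 0 * dual (B k)) with hG
    have hGdet : G.det = 1 := by
      rw [hG, Matrix.det_smul, Matrix.det_mul, det_alt (hBalt 0), det_dual, hBpf, hBpf,
        Fintype.card_fin]
      show r ^ 4 * (κs 0 * κs 0 * (κs k * κs k)) = 1
      linear_combination (r * r * (κs 0 * κs k) + 1) * hr1
    set g : GL (Fin 4) F := Matrix.GeneralLinearGroup.mkOfDetNeZero G (by rw [hGdet]; exact one_ne_zero)
    have hgact : ∀ l, (g : M4) * K.A l * (g : M4)ᵀ =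
        (if l = 0 ∨ l = k then (-1 : F) else 1) • K.A l := by
      intro l
      have hBl : (g : M4) * B l * (g : M4)ᵀ = (if l = 0 ∨ l = k then (-1 : F) else 1) • B l := by
        show G * B l * Gᵀ = _
        rw [hG, Matrix.transpose_smul, smul_mul_assoc, smul_mul_assoc, mul_smul_comm, smul_smul,
          clifford (hBalt 0) (hBalt l) (hBalt k), hBbil, hBbil, hBbil, hBpf, hBpf]
        by_cases h1 : l = 0
        · subst h1
          rw [if_neg (Ne.symm hk), if_pos rfl, if_pos (Or.inl rfl)]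
          simp only [hκs] at hr1
          generalize B 0 = X, B k = Z
          match_scalars <;> first | ring1 | linear_combination (-1 : F) * hr1
        by_cases h3 : l = k
        · subst h3
          rw [if_pos rfl, if_neg (Ne.symm hk), if_pos (Or.inr rfl)]
          simp only [hκs] at hr1
          generalize B 0 = X, B l = Z
          match_scalars <;> first | ring1 | linear_combination (-1 : F) * hr1
        rw [if_neg h3, if_neg (Ne.symm h1), if_neg (show ¬(l = 0 ∨ l = k) by tauto), if_neg (Ne.symm hk)]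
        simp only [hκs] at hr1
        generalize B 0 = X, B k = Z, B l = W
        match_scalars <;> first | ring1 | linear_combination hr1
      simp only [hB, mul_smul_comm, smul_mul_assoc, smul_comm _ (μ l)] at hBl
      exact smul_right_injective M4 (hμ0 l) hBl
    have hgS : g ∈ S := by
      obtain ⟨x, hx, -, hxs⟩ := K.flipElt 0 k (Ne.symm hk)
      have h := K.mem_R_of_φ_one (g := g * x⁻¹) (by
        rw [map_mul, map_inv, hflipφ (Ne.symm hk) g hgact, hflipφ (Ne.symm hk) x hxs, mul_inv_cancel])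
      simpa using S.mul_mem h hx
    have hrfix : σ r = r := by
      have hu := unitary_matrix hF (hS hgS).1
      have hσB : ∀ l, (B l).map σ = -dual (B l) := fun l => by
        have h : -((dual (B l)).map σ) = B l := hBfix l
        conv_rhs => rw [← h]
        obtain ⟨a, b, c, d, e, f, hBl⟩ := hBalt l
        rw [hBl]
        ext i j
        fin_cases i <;> fin_cases j <;> simp [dual, altMat]
      have hσd : (dual (B k)).map σ = -B k := by
        have h : -((dual (B k)).map σ) = B k := hBfix k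
        rw [neg_eq_iff_eq_neg] at h
        exact h
      change (r • (B 0 * dual (B k)))ᵀ * (r • (B 0 * dual (B k))).map σ = 1 at hu
      have hms : (r • (B 0 * dual (B k))).map σ = σ r • ((B 0).map σ * (dual (B k)).map σ) := by
        have e1 : (r • (B 0 * dual (B k))).map σ = σ r • (B 0 * dual (B k)).map σ := by
          ext i j
          simp only [Matrix.map_apply, Matrix.smul_apply, smul_eq_mul, map_mul]
        rw [e1]
        exact congrArg _ (Matrix.map_mul (f := ((powAut hF) : F →+* F)))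
      rw [hms, hσB, hσd, neg_mul_neg, Matrix.transpose_smul, Matrix.transpose_mul,
        isAlt_transpose (hBalt 0), isAlt_transpose (isAlt_dual _), neg_mul_neg, smul_mul_smul_comm,
        show dual (B k) * B 0 * (dual (B 0) * B k) = dual (B k) * (B 0 * dual (B 0)) * B k by
          simp only [mul_assoc],
        mul_dual (hBalt 0), mul_smul_comm, mul_one, smul_mul_assoc, smul_smul,
        show dual (B k) * B k = pf (B k) • (1 : M4) by
          conv_lhs => arg 2; rw [← dual_dual (hBalt k)]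
          rw [mul_dual (isAlt_dual _), pf_dual],
        smul_smul, hBpf, hBpf] at hu
      have h1 := smul_left_injective F (one_ne_zero (α := M4)) (hu.trans (one_smul F (1 : M4)).symm)
      rcases hrs with hs | hs
      · exact hs
      · exfalso
        rw [hs] at h1
        exact h2 (by linear_combination -h1 - hr1)
    refine ⟨r * κs 0, by rw [map_mul, hrfix, hκfix], ?_⟩
    linear_combination (κs 0) * hr1
  choose ρ hρfix hρ using hclass
  have hρ0 : ∀ k, ρ k ≠ 0 := fun k e0 => hκ0 0 (by rw [← hρ k, e0]; ring)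
  set t : Fin 6 → F := fun k => ρ k * μ k with ht
  have ht0 : ∀ k, t k ≠ 0 := fun k => mul_ne_zero (hρ0 k) (hμ0 k)
  have hsc' : ∀ (x : M4) (d : F) (l : Fin 6),
      x * (t l • K.A l) * xᵀ = d • (t l • K.A l) ↔ x * K.A l * xᵀ = d • K.A l := fun x d l => by
    rw [mul_smul_comm, smul_mul_assoc, smul_comm d (t l)]
    exact ⟨fun h => smul_right_injective M4 (ht0 l) h, fun h => by rw [h]⟩
  simp only [hB] at hBfix hBbil
  refine ⟨⟨⟨h2, fun k => t k • K.A k, fun k => isAlt_smul (K.alt k) _, κs 0, hκ0 0, fun k l => ?_,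
    fun a b hab => ?_, fun g hg => K.ker g fun l => ?_, fun x hx => ⟨(K.signs x hx).1, fun l => ?_⟩,
    fun g hg => K.gen g fun x hx ⟨a, b, hab, hxs⟩ => hg x hx ⟨a, b, hab, fun l => (hsc' _ _ l).mpr (hxs l)⟩⟩,
    hS, fun k => ?_, hκfix 0⟩⟩
  · simp only [ht]
    rw [← smul_smul, ← smul_smul, bil_smul_left, bil_comm, bil_smul_left, hBbil]
    by_cases hkl : k = l
    · subst hkl
      rw [if_pos rfl, if_pos rfl]
      linear_combination 2 * hρ k
    · rw [if_neg hkl, if_neg (Ne.symm hkl), mul_zero, mul_zero]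
  · obtain ⟨x, hx, hd, hxs⟩ := K.flipElt a b hab
    exact ⟨x, hx, hd, fun l => (hsc' _ _ l).mpr (hxs l)⟩
  · have h1 := hg l
    rw [mul_smul_comm, smul_mul_assoc] at h1
    exact smul_right_injective M4 (ht0 l) h1
  · obtain ⟨ε, hε, hεs⟩ := (K.signs x hx).2 l
    exact ⟨ε, hε, (hsc' _ _ l).mpr hεs⟩
  · show J hF (t k • K.A k) = t k • K.A k
    rw [ht]; simp only []
    rw [← smul_smul, J_smul hF, hρfix]
    exact congrArg _ (hBfix k)

end Cfsg.Agent.FrameSix.Real
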