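import Cfsg.Agent.Lib.FrameSix.Real

/-!
# The normaliser of `4 ∘ 2^(1+4)` is maximal in `SU(4,p)`, `p` congruent to three modulo four

In real coordinates the special unitary group acts by isometries of a six-dimensional space over the
prime field, and the engine for overgroups of a frame stabiliser applies.
-/

set_option autoImplicit false

namespace Cfsg.Agent.FrameSix.Real

open Matrix Cfsg.Agent.Lib.LowIso Cfsg.Agent.TableRelax.Mono Cfsg.Agent.FrameSix.Klein
  Cfsg.Agent.Lib.Subspaces.UnitaryGen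

variable {F : Type*} [Field F] [Fintype F] {q : ℕ} (hF : Fintype.card F = q ^ 2)
  {E : Type*} [Field E] {S : Subgroup (GL (Fin 4) F)}

local notation "M4" => Matrix (Fin 4) (Fin 4) F
local notation "σ" => powAut hF
local notation "V" => (Fin 6 → E)
local notation "GG" => ((Fin 6 → E) ≃ₗ[E] (Fin 6 → E))
set_option quotPrecheck false in
local notation "SUsub" => ↥(Cfsg.GU 4 F q ⊓ Cfsg.Geo.specialLinear (Fin 4) F)
local notation "SUgrp" => (Cfsg.GU 4 F q ⊓ Cfsg.Geo.specialLinear (Fin 4) F)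

/-- Coordinates over the fixed field. -/
structure Coord (hF : Fintype.card F = q ^ 2) (S : Subgroup (GL (Fin 4) F)) (E : Type*) [Field E] where
  R6 : Real6 hF S
  ι : E →+* F
  hι : ∀ x : F, powAut hF x = x ↔ ∃ y, ι y = x

variable {hF} (C : Coord hF S E)

namespace Coord

theorem fix (y : E) : σ (C.ι y) = C.ι y := (C.hι _).mpr ⟨y, rfl⟩

theorem two (C : Coord hF S E) : (2 : E) ≠ 0 := fun h => C.R6.K.two (by rw [← map_ofNat C.ι 2, h, map_zero])

theorem det_one (g : SUsub) : ((g : GL (Fin 4) F) : M4).det = 1 :=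
  (Cfsg.Agent.Lib.Subspaces.Transvection.mem_specialLinear_iff (g : GL (Fin 4) F)).mp g.2.2

/-- The antisymmetric matrix with the given real coordinates. -/
def emb (v : V) : M4 := C.R6.K.emb fun k => C.ι (v k)

theorem emb_alt (v : V) : IsAlt (C.emb v) := C.R6.K.emb_alt _

theorem emb_injective : Function.Injective C.emb := fun v w h => funext fun k =>
  C.ι.injective (congrFun (C.R6.K.emb_injective h) k)

theorem emb_add (v w : V) : C.emb (v + w) = C.emb v + C.emb w := by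
  rw [emb, emb, emb, ← C.R6.K.emb_add]
  exact congrArg _ (funext fun k => map_add C.ι _ _)

theorem emb_smul (c : E) (v : V) : C.emb (c • v) = C.ι c • C.emb v := by
  rw [emb, emb, ← C.R6.K.emb_smul]
  exact congrArg _ (funext fun k => map_mul C.ι _ _)

theorem emb_e (k : Fin 6) : C.emb (e k) = C.R6.K.A k := by
  rw [emb, ← C.R6.K.emb_e]
  refine congrArg _ (funext fun l => ?_)
  by_cases hl : l = k
  · subst hl; rw [e_same, e_same, map_one]
  · rw [e_ne hl, e_ne hl, map_zero]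

theorem J_emb (v : V) : J hF (C.emb v) = C.emb v := by
  rw [emb, Frame6.emb, J_sum hF]
  exact Finset.sum_congr rfl fun k _ => by rw [J_smul hF, C.R6.fixA, C.fix]

theorem exists_emb {X : M4} (hX : IsAlt X) (hJ : J hF X = X) : ∃ v, C.emb v = X := by
  have hfix : ∀ k, ∃ y, C.ι y = C.R6.K.coef X k := fun k => (C.hι _).mp (by
    rw [Frame6.coef, map_div₀, map_mul, map_ofNat, C.R6.fixκ, ← bil_J hF, hJ, C.R6.fixA])
  choose v hv using hfix
  exact ⟨v, by rw [emb, show (fun k => C.ι (v k)) = C.R6.K.coef X from funext hv, C.R6.K.emb_coef hX]⟩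

theorem bil_emb (v w : V) : bil (C.emb v) (C.emb w) = 2 * C.R6.K.κ * C.ι (v ⬝ᵥ w) := by
  rw [emb, emb, C.R6.K.bil_emb]
  exact congrArg _ (map_sum C.ι (fun k => v k * w k) Finset.univ |>.trans
    (Finset.sum_congr rfl fun k _ => map_mul C.ι _ _)).symm

theorem pf_emb (v : V) : pf (C.emb v) = C.R6.K.κ * C.ι (v ⬝ᵥ v) := by
  apply mul_left_cancel₀ C.R6.K.two
  rw [← bil_self, C.bil_emb]; ring

theorem exists_image (g : SUsub) (v : V) :
    ∃ w, C.emb w = ((g : GL (Fin 4) F) : M4) * C.emb v * ((g : GL (Fin 4) F) : M4)ᵀ :=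
  C.exists_emb (isAlt_conj (C.emb_alt v) _)
    (by rw [J_conj hF C.R6.K.two g.2 (C.emb_alt v), C.J_emb])

/-- The image. -/
noncomputable def act (g : SUsub) (v : V) : V := Classical.choose (C.exists_image g v)

theorem emb_act (g : SUsub) (v : V) :
    C.emb (C.act g v) = ((g : GL (Fin 4) F) : M4) * C.emb v * ((g : GL (Fin 4) F) : M4)ᵀ :=
  Classical.choose_spec (C.exists_image g v)

theorem act_mul (g h : SUsub) (v : V) : C.act (g * h) v = C.act g (C.act h v) := C.emb_injective (by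
  rw [emb_act, emb_act, emb_act, Subgroup.coe_mul, Units.val_mul, Matrix.transpose_mul]
  simp only [mul_assoc])

theorem act_one (v : V) : C.act 1 v = v := C.emb_injective (by
  rw [emb_act, OneMemClass.coe_one, Units.val_one, Matrix.transpose_one, one_mul, mul_one])

/-- The action on the real coordinates. -/
noncomputable def ψ : SUsub →* GG :=
  MonoidHom.mk'
    (fun g =>
      { toFun := C.act g
        invFun := C.act g⁻¹
        map_add' := fun v w => C.emb_injective (by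
          rw [emb_act, emb_add, emb_add, emb_act, emb_act, mul_add, add_mul])
        map_smul' := fun c v => C.emb_injective (by
          rw [RingHom.id_apply, emb_act, emb_smul, emb_smul, emb_act, mul_smul_comm, smul_mul_assoc])
        left_inv := fun v => by rw [← act_mul, inv_mul_cancel, act_one]
        right_inv := fun v => by rw [← act_mul, mul_inv_cancel, act_one] })
    fun g h => LinearEquiv.ext fun v => C.act_mul g h v

theorem emb_ψ (g : SUsub) (v : V) :
    C.emb (C.ψ g v) = ((g : GL (Fin 4) F) : M4) * C.emb v * ((g : GL (Fin 4) F) : M4)ᵀ :=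
  C.emb_act g v

theorem ψ_iso (g : SUsub) : Iso (C.ψ g) := fun v w => by
  apply C.ι.injective
  apply mul_left_cancel₀ C.R6.K.two_kappa_ne
  rw [← C.bil_emb, ← C.bil_emb, emb_ψ, emb_ψ, bil_congr (C.emb_alt v) (C.emb_alt w), det_one g, one_mul]

theorem ψ_e (g : SUsub) {k l : Fin 6} {c : E}
    (h : ((g : GL (Fin 4) F) : M4) * C.R6.K.A k * ((g : GL (Fin 4) F) : M4)ᵀ = C.ι c • C.R6.K.A l) :
    C.ψ g (e k) = c • e l :=
  C.emb_injective (by rw [emb_ψ, emb_e, h, emb_smul, emb_e])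

theorem mem_of_ψ_one {g : SUsub} (hg : C.ψ g = 1) : (g : GL (Fin 4) F) ∈ S :=
  C.R6.K.ker _ fun l => by rw [← C.emb_e, ← emb_ψ, hg]; rfl

theorem ψ_flip {g : SUsub} {a b : Fin 6} (hab : a ≠ b)
    (h : ∀ l, ((g : GL (Fin 4) F) : M4) * C.R6.K.A l * ((g : GL (Fin 4) F) : M4)ᵀ =
      (if l = a ∨ l = b then (-1 : F) else 1) • C.R6.K.A l) : C.ψ g = flip a b := by
  refine ext_e fun l => ?_
  rw [C.ψ_e g (c := if l = a ∨ l = b then (-1 : E) else 1) (l := l) (k := l) (by
    rw [h l]; split_ifs <;> simp)]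
  funext k
  rw [flip_coord hab, Pi.smul_apply, smul_eq_mul]
  by_cases hk : k = l
  · subst hk; rw [e_same]; split_ifs <;> ring
  · rw [e_ne hk]; split_ifs <;> ring

theorem exists_flip {a b : Fin 6} (hab : a ≠ b) :
    ∃ x : SUsub, (x : GL (Fin 4) F) ∈ S ∧ C.ψ x = flip a b := by
  obtain ⟨x, hx, -, hxs⟩ := C.R6.K.flipElt a b hab
  exact ⟨⟨x, C.R6.le hx⟩, hx, C.ψ_flip hab hxs⟩

/-- Two reflections in vectors of equal norm come from the special unitary group. -/
theorem exists_refl {x z : V} (hx : x ⬝ᵥ x ≠ 0) (hxz : z ⬝ᵥ z = x ⬝ᵥ x) :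
    ∃ g : SUsub, C.ψ g = R x * R z := by
  set ν := x ⬝ᵥ x with hν
  set m := C.R6.K.κ * C.ι ν with hm
  have hι0 : C.ι ν ≠ 0 := (map_ne_zero C.ι).mpr hx
  have hm0 : m ≠ 0 := mul_ne_zero C.R6.K.κ0 hι0
  have hmfix : σ m = m := by rw [hm, map_mul, C.R6.fixκ, C.fix]
  set G : M4 := m⁻¹ • (C.emb x * dual (C.emb z)) with hG
  have hdet : G.det = 1 := by
    rw [hG, Matrix.det_smul, Matrix.det_mul, det_alt (C.emb_alt x), det_dual, pf_emb, pf_emb, hxz,
      Fintype.card_fin, ← hν, ← hm]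
    field_simp
  have hσd : ∀ {X : M4}, J hF X = X → (dual X).map σ = -X := fun {X} h => by
    change -((dual X).map σ) = X at h
    rwa [neg_eq_iff_eq_neg] at h
  have hσ' : ∀ {X : M4}, IsAlt X → J hF X = X → X.map σ = -dual X := fun {X} hX h => by
    change -((dual X).map σ) = X at h
    conv_rhs => rw [← h]
    obtain ⟨a, b, c, d, e, f, rfl⟩ := hX
    ext i j
    fin_cases i <;> fin_cases j <;> simp [dual, altMat]
  set g : GL (Fin 4) F := Matrix.GeneralLinearGroup.mkOfDetNeZero G (by rw [hdet]; exact one_ne_zero)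
  have hgU : g ∈ SUgrp := by
    refine ⟨mem_GU_of_matrix hF ?_, (Cfsg.Agent.Lib.Subspaces.Transvection.mem_specialLinear_iff g).mpr hdet⟩
    show Gᵀ * G.map σ = 1
    have hGm : G.map σ = σ m⁻¹ • (C.emb x * dual (C.emb z)).map σ := by
      rw [hG]
      ext i j
      simp only [Matrix.map_apply, Matrix.smul_apply, smul_eq_mul, map_mul]
    rw [hGm, show (C.emb x * dual (C.emb z)).map σ = (C.emb x).map σ * (dual (C.emb z)).map σ from
        Matrix.map_mul (f := ((powAut hF) : F →+* F)),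
      hσ' (C.emb_alt x) (C.J_emb x), hσd (C.J_emb z), hG, map_inv₀, hmfix, neg_mul_neg,
      Matrix.transpose_smul, Matrix.transpose_mul, isAlt_transpose (C.emb_alt x),
      isAlt_transpose (isAlt_dual _), neg_mul_neg, smul_mul_smul_comm,
      show dual (C.emb z) * C.emb x * (dual (C.emb x) * C.emb z) =
        dual (C.emb z) * (C.emb x * dual (C.emb x)) * C.emb z by simp only [mul_assoc],
      mul_dual (C.emb_alt x), mul_smul_comm, mul_one, smul_mul_assoc, smul_smul,
      show dual (C.emb z) * C.emb z = pf (C.emb z) • (1 : M4) by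
        conv_lhs => arg 2; rw [← dual_dual (C.emb_alt z)]
        rw [mul_dual (isAlt_dual _), pf_dual],
      smul_smul, pf_emb, pf_emb, hxz, ← hν, ← hm]
    rw [show m⁻¹ * m⁻¹ * m * m = 1 by field_simp, one_smul]
  refine ⟨⟨g, hgU⟩, LinearEquiv.ext fun y => C.emb_injective ?_⟩
  rw [emb_ψ]
  show G * C.emb y * Gᵀ = _
  rw [hG, Matrix.transpose_smul, smul_mul_assoc, smul_mul_assoc, mul_smul_comm, smul_smul,
    clifford (C.emb_alt x) (C.emb_alt y) (C.emb_alt z), bil_emb, bil_emb, bil_emb, pf_emb, pf_emb, hxz,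
    LinearEquiv.mul_apply, Cfsg.Agent.TableRelax.Mono.R_apply, Cfsg.Agent.TableRelax.Mono.R_apply, hxz,
    dotProduct_sub, dotProduct_smul, smul_eq_mul, ← hν, dotProduct_comm y z, sub_eq_add_neg (G := V),
    sub_eq_add_neg (G := V), emb_add, emb_add, ← neg_smul, ← neg_smul, emb_smul, emb_smul, hm]
  simp only [map_neg, map_sub, map_mul, map_add, map_div₀, map_ofNat]
  have hκ := C.R6.K.κ0
  match_scalars <;> field_simp <;> ring

theorem exists_perm {π : Equiv.Perm (Fin 6)} (hπ : Equiv.Perm.sign π = 1) :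
    ∃ g : SUsub, C.ψ g = P π := by
  have h2 := C.two
  have hpair : ∀ {a b c d : Fin 6}, a ≠ b → c ≠ d →
      ∃ g : SUsub, C.ψ g = P (Equiv.swap a b) * P (Equiv.swap c d) := by
    intro a b c d hab hcd
    have hn : ∀ {a b : Fin 6}, a ≠ b → (e a - e b : V) ⬝ᵥ (e a - e b) = 2 := fun {a b} h => by
      simp [sub_dotProduct, dotProduct_sub, e_dot_self, e_dot_ne h, e_dot_ne h.symm]
      ring
    obtain ⟨g, hg⟩ := C.exists_refl (x := e a - e b) (z := e c - e d) (by rw [hn hab]; exact h2)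
      (by rw [hn hab, hn hcd])
    exact ⟨g, by rw [hg, Klein.Frame6.R_sub_axes h2 hab, Klein.Frame6.R_sub_axes h2 hcd]⟩
  have key : ∀ π : Equiv.Perm (Fin 6),
      (Equiv.Perm.sign π = 1 → ∃ g : SUsub, C.ψ g = P π) ∧
      (Equiv.Perm.sign π = -1 → ∀ a b, a ≠ b →
        ∃ g : SUsub, C.ψ g = P (π * Equiv.swap a b)) := by
    intro π
    induction π using Equiv.Perm.swap_induction_on' with
    | one =>
      refine ⟨fun _ => ⟨1, ?_⟩, fun h => absurd h (by simp)⟩
      rw [map_one]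
      apply LinearEquiv.ext; intro y; funext i
      simp [P_apply, Equiv.Perm.one_symm]
    | mul_swap π x z hxz ih =>
      have hsign : Equiv.Perm.sign (π * Equiv.swap x z) = -Equiv.Perm.sign π := by
        rw [map_mul, Equiv.Perm.sign_swap hxz, mul_neg_one]
      refine ⟨fun h => ih.2 (by rw [hsign] at h; exact neg_eq_iff_eq_neg.mp h) x z hxz, fun h a b hab => ?_⟩
      rw [hsign, neg_inj] at h
      obtain ⟨g, hgπ⟩ := ih.1 h
      obtain ⟨g', hgp⟩ := hpair hxz hab
      refine ⟨g * g', ?_⟩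
      rw [map_mul, hgπ, hgp, mul_assoc π, Klein.Frame6.P_mul' π, Klein.Frame6.P_mul']
  exact (key π).1 hπ

theorem mem_N_of_mono {g : SUsub} (hg : IsMono (C.ψ g)) :
    (g : GL (Fin 4) F) ∈ Cfsg.Geo.subgroupNormalizer S := by
  refine C.R6.K.gen _ fun x hx ⟨a, b, hab, hxs⟩ => ?_
  set x' : SUsub := ⟨x, C.R6.le hx⟩ with hx'
  have hφx : C.ψ x' = flip a b := C.ψ_flip hab hxs
  obtain ⟨a', b', hab', hc⟩ := mono_conj (C.ψ_iso g) hg hab
  obtain ⟨y, hy, hφy⟩ := C.exists_flip hab'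
  have h1 := C.mem_of_ψ_one (g := g * x' * g⁻¹ * y⁻¹) (by
    rw [map_mul, map_mul, map_mul, map_inv, map_inv, hφx, hc, hφy, mul_inv_cancel])
  simpa [hx'] using S.mul_mem h1 hy

theorem mono_of_mem_N {g : SUsub} (hg : (g : GL (Fin 4) F) ∈ Cfsg.Geo.subgroupNormalizer S) :
    IsMono (C.ψ g) := fun k => by
  set u := C.ψ g (e k) with hu
  have hun : u ⬝ᵥ u = 1 := by rw [hu, C.ψ_iso g, e_dot_self]
  have hsign : ∀ a b : Fin 6, a ≠ b → ∃ ε : E, flip a b u = ε • u := fun a b hab => by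
    obtain ⟨x, hx, hφx⟩ := C.exists_flip hab
    have hy : ((g⁻¹ * x * g : SUsub) : GL (Fin 4) F) ∈ S := by
      have := (Subgroup.mem_normalizer_iff.mp (Subgroup.inv_mem _ hg) (x : GL (Fin 4) F)).mp hx
      simpa using this
    obtain ⟨ε, hε2, hε⟩ := (C.R6.K.signs _ hy).2 k
    obtain ⟨ε', rfl⟩ : ∃ ε', C.ι ε' = ε := by
      rcases mul_self_eq_one_iff.mp hε2 with rfl | rfl
      exacts [⟨1, map_one _⟩, ⟨-1, by rw [map_neg, map_one]⟩]
    refine ⟨ε', ?_⟩
    rw [← hφx, hu, ← LinearEquiv.mul_apply, ← map_mul, show x * g = g * (g⁻¹ * x * g) by group, map_mul,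
      LinearEquiv.mul_apply, C.ψ_e _ hε, map_smul]
  obtain ⟨i, hi⟩ : ∃ i, u i ≠ 0 := by
    by_contra h0
    push Not at h0
    rw [show u = 0 from funext h0, zero_dotProduct] at hun
    exact zero_ne_one hun
  refine ⟨i, u i, funext fun j => ?_⟩
  by_cases hj : j = i
  · subst hj; rw [Pi.smul_apply, e_same, smul_eq_mul, mul_one]
  rw [Pi.smul_apply, e_ne hj, smul_zero]
  obtain ⟨m, hm⟩ := exists_fresh ({i, j} : Finset (Fin 6))
    (lt_of_le_of_lt Finset.card_le_two (by norm_num))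
  simp only [Finset.mem_insert, Finset.mem_singleton, not_or] at hm
  obtain ⟨ε, hε⟩ := hsign j m (Ne.symm hm.2)
  have e1 := congrFun hε i
  rw [flip_coord (Ne.symm hm.2), if_neg (by simp [Ne.symm hj, Ne.symm hm.1]), Pi.smul_apply, smul_eq_mul] at e1
  have e2 := congrFun hε j
  rw [flip_coord (Ne.symm hm.2), if_pos (Or.inl rfl), Pi.smul_apply, smul_eq_mul] at e2
  rw [(mul_eq_right₀ hi).mp e1.symm, one_mul] at e2
  exact (mul_eq_zero.mp (by linear_combination -e2 : (2 : E) * u j = 0)).resolve_left C.two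

end Coord

/-- From the special unitary group as matrices of determinant one. -/
noncomputable def ofSU : SU 4 F q →* SUsub :=
  ((Cfsg.GU 4 F q).subtype.comp (Cfsg.Agent.Lib.Unitary.suToGU 4 F q)).codRestrict SUgrp fun x => ⟨SetLike.coe_mem _,
    (Cfsg.Agent.Lib.Subspaces.Transvection.mem_specialLinear_iff _).mpr x.1.2⟩

theorem ofSU_surjective : Function.Surjective (ofSU (F := F) (q := q)) := fun g => by
  obtain ⟨X, hX⟩ := Cfsg.Agent.Lib.Unitary.exists_SU_of_GU
    (A := (⟨(g : GL (Fin 4) F), g.2.1⟩ : GU 4 F q))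
    ((Cfsg.Agent.Lib.Subspaces.Transvection.mem_specialLinear_iff _).mp g.2.2)
  exact ⟨X, Subtype.ext (Units.ext hX)⟩

include C in
/-- **Maximality.** -/
theorem maximal [Fintype E] {p : ℕ} [Fact p.Prime] (hE : Fintype.card E = p) (hp2 : p ≠ 2) :
    Cfsg.Geo.IsMaximalIn SUgrp (Cfsg.Geo.subgroupNormalizer S ⊓ SUgrp) := by
  classical
  have h2 := C.two
  -- an element outside
  obtain ⟨x₁, hxx, hxm⟩ : ∃ x : V, x ⬝ᵥ x = 1 ∧ ¬ IsMono (R x * R (e 3) : GG) := by
    by_cases h3 : (3 : E) = 0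
    · set x : V := e 0 + e 1 + e 2 + e 4 with hx
      have hxx : x ⬝ᵥ x = 1 := by
        simp [hx, add_dotProduct, e_dot, e, Pi.single_apply]
        linear_combination h3
      refine ⟨x, hxx, fun hm => ?_⟩
      obtain ⟨j, s, hj⟩ := hm 0
      rw [LinearEquiv.mul_apply, R_of_ortho (e_dot_ne (by decide)), R_unit hxx, dot_e] at hj
      have hb := congrFun hj 1
      have hc := congrFun hj 2
      simp [hx, e, Pi.single_apply, h2] at hb hc
      by_cases hj1 : (1 : Fin 6) = j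
      · subst hj1; simp [h2] at hc
      · simp [hj1, h2] at hb
    · set x : V := (2 / 3 : E) • e 0 + (2 / 3 : E) • e 1 + (1 / 3 : E) • e 2 with hx
      have hxx : x ⬝ᵥ x = 1 := by
        simp [hx, add_dotProduct, smul_dotProduct, e_dot, e, Pi.single_apply]
        field_simp
        ring
      refine ⟨x, hxx, fun hm => ?_⟩
      obtain ⟨j, s, hj⟩ := hm 0
      rw [LinearEquiv.mul_apply, R_of_ortho (e_dot_ne (by decide)), R_unit hxx, dot_e] at hj
      have hb := congrFun hj 1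
      have hc := congrFun hj 2
      simp [hx, e, Pi.single_apply, h2, h3] at hb hc
      by_cases hj1 : (1 : Fin 6) = j
      · subst hj1; simp [h2, h3] at hc
      · simp [hj1, h2, h3] at hb
  obtain ⟨g₀, hφ₀⟩ := C.exists_refl (x := x₁) (z := e 3) (by rw [hxx]; exact one_ne_zero)
    (by rw [hxx, e_dot_self])
  have hg₀ : ¬ IsMono (C.ψ g₀) := by rw [hφ₀]; exact hxm
  refine ⟨lt_of_le_of_ne inf_le_right fun he => hg₀ (C.mono_of_mem_N
    ((he.symm.le g₀.2).1)), fun M hM hMK => ?_⟩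
  by_cases hle : M ≤ Cfsg.Geo.subgroupNormalizer S
  · exact Or.inl (le_antisymm (le_inf hle hMK) hM)
  obtain ⟨g, hgM, hgN⟩ := SetLike.not_le_iff_exists.mp hle
  set M' : Subgroup SUsub := M.subgroupOf SUgrp with hM'
  have hmono : ∀ x : SUsub, IsMono (C.ψ x) → x ∈ M' := fun x hx =>
    hM ⟨C.mem_N_of_mono hx, x.2⟩
  have hperf : ∀ x : SUsub, LinearEquiv.det (C.ψ x) = 1 := fun x => by
    obtain ⟨X, rfl⟩ := ofSU_surjective x
    have hle := Abelianization.commutator_subset_ker ((LinearEquiv.det.comp C.ψ).comp ofSU)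
    exact hle ((Cfsg.Agent.Lib.Unitary.commutator_SU hF (n := 4) (by norm_num) (by omega)).symm ▸
      Subgroup.mem_top X)
  have hS : Six (M'.map C.ψ) := by
    refine ⟨h2, ?_, ?_, fun i j => ?_, fun σ' hσ => ?_, fun a b c hab hca hcb α hα => ?_⟩
    · rintro _ ⟨x, -, rfl⟩
      exact C.ψ_iso x
    · rintro _ ⟨x, -, rfl⟩
      exact hperf x
    · by_cases hij : i = j
      · rw [hij, R_mul_self]; exact one_mem _
      obtain ⟨x, -, hx⟩ := C.exists_flip hij
      exact ⟨x, hmono x (by rw [hx]; exact mono_flip i j), hx⟩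
    · obtain ⟨x, hx⟩ := C.exists_perm hσ
      exact ⟨x, hmono x (by rw [hx]; exact mono_P σ'), hx⟩
    · obtain ⟨x, hx⟩ := C.exists_refl (x := α • e a + α • e b) (z := e c) (by
        simp [add_dotProduct, smul_dotProduct, e_dot, e_same, e_ne hab, e_ne (Ne.symm hab)]
        intro h0; exact one_ne_zero (α := E) (by linear_combination -hα + h0)) (by
        simp [add_dotProduct, smul_dotProduct, e_dot, e_same, e_ne hab, e_ne (Ne.symm hab)]
        linear_combination -hα)
      exact ⟨x, hmono x (by rw [hx]; exact Klein.Frame6.mono_refl_diag hab hca hcb hα), hx⟩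
  have hall : ∀ v : V, v ⬝ᵥ v = 1 → InY (M'.map C.ψ) v := fun v hv =>
    hS.all_units hE hp2 ⟨⟨g, hMK hgM⟩, hgM, rfl⟩
      (fun hm => hgN (C.mem_N_of_mono (g := ⟨g, hMK hgM⟩) hm)) hv
  refine Or.inr (le_antisymm hMK ?_)
  set gens : Set (SU 4 F q) := setOf fun s =>
    ∃ x z : V, (x ⬝ᵥ x = 1 ∧ z ⬝ᵥ z = 1) ∧ C.ψ (ofSU s) = R x * R z
  set H := Subgroup.closure gens
  have hgens : gens ⊆ (M'.comap ofSU : Set _) := by
    rintro s ⟨x, z, ⟨hx, hz⟩, hs⟩
    show ofSU s ∈ M'
    obtain ⟨m, hm, hmφ⟩ := Six.inY_pair (hall x hx) (hall z hz)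
    have hk := C.mem_of_ψ_one (g := ofSU s * m⁻¹) (by rw [map_mul, map_inv, hs, hmφ, mul_inv_cancel])
    have h1 : ofSU s * m⁻¹ ∈ M' :=
      hM ⟨Subgroup.le_normalizer hk, (ofSU s * m⁻¹).2⟩
    simpa using M'.mul_mem h1 hm
  have hn : H.Normal := by
    refine ⟨fun y hy t => ?_⟩
    have hconj : ∀ s ∈ gens, t * s * t⁻¹ ∈ gens := by
      rintro s ⟨x, z, ⟨hx, hz⟩, hs⟩
      refine ⟨C.ψ (ofSU t) x, C.ψ (ofSU t) z,
        ⟨by rw [C.ψ_iso, hx], by rw [C.ψ_iso, hz]⟩, ?_⟩
      rw [map_mul, map_mul, map_inv, map_mul, map_mul, map_inv, hs, R_mul_conj (C.ψ_iso _)]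
    have hle' : H ≤ H.comap (MulAut.conj t).toMonoidHom :=
      (Subgroup.closure_le _).mpr fun s hs => Subgroup.subset_closure (hconj s hs)
    exact hle' hy
  have hnc : ¬ H ≤ Subgroup.center _ := fun hc => by
    obtain ⟨s, hs⟩ := ofSU_surjective g₀
    have hsg : s ∈ gens := ⟨x₁, e 3, ⟨hxx, e_dot_self 3⟩, by rw [hs, hφ₀]⟩
    obtain ⟨r, hr⟩ := (Cfsg.Agent.Lib.Unitary.mem_center_SU_iff hF (by norm_num) s).mp
      (hc (Subgroup.subset_closure hsg))
    have hmat : ((g₀ : GL (Fin 4) F) : M4) = r • (1 : M4) := by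
      rw [← hs]
      refine Matrix.ext_of_mulVec_single fun i => ?_
      rw [Matrix.smul_mulVec, Matrix.one_mulVec]
      exact hr _
    refine hg₀ fun k => ?_
    have hb := bil_congr (C.R6.K.alt k) (C.R6.K.alt k) ((g₀ : GL (Fin 4) F) : M4)
    rw [Coord.det_one g₀, one_mul, hmat, Matrix.transpose_smul, Matrix.transpose_one, smul_mul_assoc,
      one_mul, smul_mul_assoc, mul_smul_comm, mul_one, smul_smul, bil_smul_left, bil_comm,
      bil_smul_left, C.R6.K.ortho, if_pos rfl] at hb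
    have hsq : (r * r) * (r * r) = 1 :=
      mul_right_cancel₀ C.R6.K.two_kappa_ne (by linear_combination hb)
    obtain ⟨ε, hε⟩ : ∃ ε, C.ι ε = r * r := by
      rcases mul_self_eq_one_iff.mp hsq with h | h
      exacts [⟨1, by rw [map_one, h]⟩, ⟨-1, by rw [map_neg, map_one, h]⟩]
    refine ⟨k, ε, C.ψ_e g₀ ?_⟩
    rw [hε, hmat, Matrix.transpose_smul, Matrix.transpose_one, smul_mul_assoc,
      one_mul, smul_mul_assoc, mul_smul_comm, mul_one, smul_smul]
  have htop := Cfsg.Agent.Lib.Unitary.SU_normal_eq_top hF (by norm_num) (by omega) hn hnc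
  intro y hy
  obtain ⟨s, hs⟩ := ofSU_surjective ⟨y, hy⟩
  have := (Subgroup.closure_le _).mpr hgens (show s ∈ H by rw [htop]; exact Subgroup.mem_top _)
  change ofSU s ∈ M' at this
  rwa [hs] at this

open Cfsg.Agent.Lib.Elusive19.Pauli4 in
/-- **The normaliser of a group `4 ∘ 2^(1+4)` is maximal in `SU(4,p)`.** -/
theorem c6_maximal_unitary {p : ℕ} (hp : p.Prime) (hq : q = p) (hp4 : p % 4 = 3)
    (hF : Fintype.card F = q ^ 2) (R : Subgroup (GL (Fin 4) F))
    (hst : Cfsg.Geo.IsSymplecticTypeGroup 2 R)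
    (habs : Cfsg.Geo.ActsAbsolutelyIrreducibly (Cfsg.Geo.matrixSet R))
    (hRU : R ≤ Cfsg.GU 4 F q) (h64 : Nat.card R = 64) (hc : Nat.card (Subgroup.center R) = 4) :
    Cfsg.Geo.IsMaximalIn SUgrp (Cfsg.Geo.subgroupNormalizer R ⊓ SUgrp) := by
  classical
  subst hq
  haveI := Fact.mk hp
  haveI : CharP F q := by
    have h0 : (q : F) = 0 := by
      have h := FiniteField.cast_card_eq_zero F
      rw [hF, Nat.cast_pow] at h
      exact eq_zero_of_pow_eq_zero h
    exact (CharP.ringChar_of_prime_eq_zero hp h0) ▸ ringChar.charP F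
  have h2 : (2 : F) ≠ 0 := by
    intro h
    have h' : ((2 : ℕ) : F) = 0 := by exact_mod_cast h
    have := Nat.le_of_dvd (by norm_num) ((CharP.cast_eq_zero_iff F q 2).mp h')
    have := hp.two_le
    omega
  obtain ⟨u, i, hu, hui, hi⟩ := exists_i hst habs hc
  obtain ⟨Q⟩ := exists_quad_of_i hst habs hc (by rw [h64]; norm_num)
  have hι : Fintype.card (Fin 4) = 4 := Fintype.card_fin 4
  obtain ⟨K⟩ := exists_frame6 Q h2 (gen_word hst habs (Or.inr hc) Q hι h2)
    (fun x hx => sq_eq hst habs (Or.inr hc) hx) hu hui hi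
  obtain ⟨R6⟩ := exists_real6 hF K (fun x hx => ⟨hRU hx,
    (Cfsg.Agent.Lib.Subspaces.Transvection.mem_specialLinear_iff x).mpr (K.signs x hx).1⟩)
  let ι := ZMod.castHom (dvd_refl q) F
  have hcard : (Finset.univ.image ι) = Cfsg.Agent.Lib.Subspaces.UnitCircle.fix hF := by
    refine Finset.eq_of_subset_of_card_le (fun x hx => ?_) ?_
    · obtain ⟨y, -, rfl⟩ := Finset.mem_image.mp hx
      rw [Cfsg.Agent.Lib.Subspaces.UnitCircle.mem_fix, powAut_apply, ← map_pow, ZMod.pow_card]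
    · rw [Cfsg.Agent.Lib.Subspaces.UnitCircle.card_fix,
        Finset.card_image_of_injective _ ι.injective, Finset.card_univ, ZMod.card]
  let C : Coord hF R (ZMod q) := ⟨R6, ι, fun x => by
    rw [← Cfsg.Agent.Lib.Subspaces.UnitCircle.mem_fix hF, ← hcard]
    simp⟩
  exact maximal C (ZMod.card q) (by omega)

end Cfsg.Agent.FrameSix.Real
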