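import Cfsg.Agent.Lib.FrameSix.Conjugates

/-!
# An overgroup in which only monomial elements move axes to axes is monomial

Two involutions either are conjugate in the group they generate or centralise an involution of it.
With this, the centraliser of a double transposition is monomial, and then every element is.
-/

set_option autoImplicit false

namespace Cfsg.Agent.FrameSix

open Matrix Cfsg.Agent.TableRelax.Mono

/-- Two involutions of a finite group. -/
theorem dihedral {G : Type*} [Group G] [Finite G] {K : Subgroup G} {d f : G} (hd : d ∈ K)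
    (hf : f ∈ K) (hd2 : d * d = 1) (hf2 : f * f = 1) :
    (∃ w ∈ K, w * d * w⁻¹ = f) ∨
      ∃ z ∈ K, z ≠ 1 ∧ z * z = 1 ∧ z * d = d * z ∧ z * f = f * z ∧
        ∃ w ∈ K, z * d = w * d * w⁻¹ ∨ z * d = w * f * w⁻¹ := by
  set r := d * f with hr
  have hrK : r ∈ K := K.mul_mem hd hf
  have hdi : d⁻¹ = d := inv_eq_of_mul_eq_one_right hd2
  have hfi : f⁻¹ = f := inv_eq_of_mul_eq_one_right hf2
  have hfd : f = r⁻¹ * d := by
    rw [hr, _root_.mul_inv_rev, hfi, hdi, mul_assoc, hd2, mul_one]
  have hflip : d * r * d⁻¹ = r⁻¹ := by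
    rw [hr, _root_.mul_inv_rev, hdi, hfi, ← mul_assoc, hd2, one_mul]
  have hpow : ∀ k : ℕ, d * (r ^ k)⁻¹ = r ^ k * d := fun k => by
    have h1 : d * r ^ k * d⁻¹ = (r ^ k)⁻¹ := by rw [← conj_pow, hflip, inv_pow]
    rw [← h1, hdi, ← mul_assoc, ← mul_assoc, hd2, one_mul]
  have hconj : ∀ k : ℕ, r ^ k * d * (r ^ k)⁻¹ = r ^ (2 * k) * d := fun k => by
    rw [mul_assoc, hpow, ← mul_assoc, ← pow_add, ← two_mul]
  have hm0 : 0 < orderOf r := orderOf_pos r
  rcases Nat.even_or_odd (orderOf r) with ⟨q, hq⟩ | ⟨q, hq⟩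
  swap
  · refine Or.inl ⟨r ^ q, K.pow_mem hrK q, ?_⟩
    rw [hconj, hfd]
    congr 1
    refine eq_inv_of_mul_eq_one_left ?_
    rw [← pow_succ, ← hq, pow_orderOf_eq_one]
  · right
    have hzz : r ^ q * r ^ q = 1 := by rw [← pow_add, ← hq, pow_orderOf_eq_one]
    have hzd : r ^ q * d = d * r ^ q := by
      rw [← hpow, inv_eq_of_mul_eq_one_right hzz]
    refine ⟨r ^ q, K.pow_mem hrK q, fun h1 => ?_, hzz, hzd, ?_, ?_⟩
    · have := orderOf_le_of_pow_eq_one (by omega) h1
      omega
    · have hzr : r ^ q * r⁻¹ = r⁻¹ * r ^ q := ((Commute.refl r).pow_left q).inv_right.eq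
      rw [hfd, ← mul_assoc, hzr, mul_assoc, hzd, mul_assoc]
    rcases Nat.even_or_odd q with ⟨t, ht⟩ | ⟨t, ht⟩
    · exact ⟨r ^ t, K.pow_mem hrK t, Or.inl (by rw [hconj, two_mul, ← ht])⟩
    · refine ⟨r ^ (t + 1), K.pow_mem hrK _, Or.inr ?_⟩
      have h1 : r ^ (t + 1) * r⁻¹ = r ^ t := by rw [pow_succ, mul_inv_cancel_right]
      calc r ^ q * d = r⁻¹ * (r ^ (2 * (t + 1)) * d) := by
            rw [show 2 * (t + 1) = q + 1 by omega, pow_succ', mul_assoc, inv_mul_cancel_left]
        _ = r⁻¹ * r ^ (t + 1) * d * (r ^ (t + 1))⁻¹ := by rw [← hconj]; group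
        _ = r ^ (t + 1) * f * (r ^ (t + 1))⁻¹ := by
            rw [hfd, ← mul_assoc (r ^ (t + 1)) r⁻¹ d,
              ((Commute.refl r).pow_left (t + 1)).inv_right.eq]

variable {F : Type*} [Field F]

local notation "V" => (Fin 6 → F)
local notation "GG" => ((Fin 6 → F) ≃ₗ[F] (Fin 6 → F))

/-- What commutes with a product of two flips commutes with a flip. -/
theorem flip_mul_flip {a b c d : Fin 6} (hab : a ≠ b) (hcd : c ≠ d)
    (hne : (flip a b : GG) * flip c d ≠ 1) :
    ∃ p q : Fin 6, p ≠ q ∧ ∀ g : GG, g * (flip a b * flip c d) = flip a b * flip c d * g →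
      flip p q * g = g * flip p q := by
  have three : ∀ {a b d : Fin 6}, a ≠ b → a ≠ d → b ≠ d →
      (flip a b : GG) * flip a d = flip b d := fun {a b d} h1 h2 h3 => by
    apply LinearEquiv.ext; intro v; funext k
    rw [LinearEquiv.mul_apply, flip_coord h1, flip_coord h2, flip_coord h3]
    by_cases ka : k = a <;> by_cases kb : k = b <;> by_cases kd : k = d <;>
      simp_all
  by_cases h1 : a = c ∨ a = d ∨ b = c ∨ b = d
  · have key : ∀ a b c d : Fin 6, a ≠ b → c ≠ d → a = c → (flip a b : GG) * flip c d ≠ 1 →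
        ∃ p q : Fin 6, p ≠ q ∧ ∀ g : GG, g * (flip a b * flip c d) = flip a b * flip c d * g →
          flip p q * g = g * flip p q := fun a b c d hab hcd e hne => by
      subst e
      have hbd : b ≠ d := fun e => hne (by subst e; exact flip_sq a b hab)
      refine ⟨b, d, hbd, fun g hg => ?_⟩
      rw [three hab hcd hbd] at hg
      exact hg.symm
    rcases h1 with e | e | e | e
    · exact key a b c d hab hcd e hne
    · rw [flip_comm c d hcd] at hne ⊢; exact key a b d c hab hcd.symm e hne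
    · rw [flip_comm a b hab] at hne ⊢; exact key b a c d hab.symm hcd e hne
    · rw [flip_comm a b hab, flip_comm c d hcd] at hne ⊢
      exact key b a d c hab.symm hcd.symm e hne
  push Not at h1
  obtain ⟨hac, had, hbc, hbd⟩ := h1
  obtain ⟨p, hp⟩ := exists_fresh ({a, b, c, d} : Finset (Fin 6))
    (lt_of_le_of_lt Finset.card_le_four (by norm_num))
  obtain ⟨q, hq⟩ := exists_fresh (insert p ({a, b, c, d} : Finset (Fin 6)))
    (lt_of_le_of_lt ((Finset.card_insert_le _ _).trans (Nat.add_le_add_right Finset.card_le_four 1))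
      (by norm_num))
  simp only [Finset.mem_insert, Finset.mem_singleton, not_or] at hp hq
  have hpq : p ≠ q := Ne.symm hq.1
  refine ⟨p, q, hpq, fun g hg => ?_⟩
  have hsix : ∀ k : Fin 6, k ≠ a → k ≠ b → k ≠ c → k ≠ d → k = p ∨ k = q := by
    intro k k1 k2 k3 k4
    by_contra hn
    push Not at hn
    have hcard := Finset.card_le_univ ({k, a, b, c, d, p, q} : Finset (Fin 6))
    rw [Finset.card_insert_of_notMem (by simp [k1, k2, k3, k4, hn.1, hn.2]),
      Finset.card_insert_of_notMem (by simp [hab, hac, had, Ne.symm hp.1, Ne.symm hq.2.1]),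
      Finset.card_insert_of_notMem (by simp [hbc, hbd, Ne.symm hp.2.1, Ne.symm hq.2.2.1]),
      Finset.card_insert_of_notMem (by simp [hcd, Ne.symm hp.2.2.1, Ne.symm hq.2.2.2.1]),
      Finset.card_insert_of_notMem (by simp [Ne.symm hp.2.2.2, Ne.symm hq.2.2.2.2]),
      Finset.card_pair hpq, Fintype.card_fin] at hcard
    omega
  have hval : ∀ v : V, (flip a b * flip c d : GG) v = -(flip p q v) := fun v => funext fun k => by
    rw [LinearEquiv.mul_apply, Pi.neg_apply, flip_coord hab, flip_coord hcd, flip_coord hpq]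
    by_cases k1 : k = a
    · subst k1; simp [hac, had, Ne.symm hp.1, Ne.symm hq.2.1]
    by_cases k2 : k = b
    · subst k2; simp [hbc, hbd, Ne.symm hp.2.1, Ne.symm hq.2.2.1]
    by_cases k3 : k = c
    · subst k3; simp [k1, k2, Ne.symm hp.2.2.1, Ne.symm hq.2.2.2.1]
    by_cases k4 : k = d
    · subst k4; simp [k1, k2, Ne.symm hp.2.2.2, Ne.symm hq.2.2.2.2]
    rcases hsix k k1 k2 k3 k4 with rfl | rfl <;> simp [k1, k2, k3, k4]
  apply LinearEquiv.ext
  intro v
  have h2 := congrArg (fun t : GG => t v) hg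
  simp only [LinearEquiv.mul_apply g, LinearEquiv.mul_apply _ g] at h2
  rw [hval, hval, map_neg, neg_inj] at h2
  simp only [LinearEquiv.mul_apply]
  exact h2.symm

/-- An element mapping `e i` to a multiple of `e j` and commuting with a flip keeps its support. -/
theorem supp_of_comm (h2 : (2 : F) ≠ 0) {t : GG} (ht : Iso t) {a b : Fin 6} (hab : a ≠ b)
    (hc : flip a b * t = t * flip a b) {i j : Fin 6} {c : F} (hij : t (e i) = c • e j) :
    (i = a ∨ i = b) ↔ (j = a ∨ j = b) := by
  by_contra hne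
  have h1 := zero_of_comm h2 hab hc hne
  rw [hij, Pi.smul_apply, e_same, smul_eq_mul, mul_one] at h1
  have h3 := mono_pair ht hij
  rw [h1, mul_zero] at h3
  exact zero_ne_one h3

/-- A monomial involution commutes with a flip. -/
theorem exists_flip_comm {y : GG} (hy : Iso y) (hm : IsMono y) (hy2 : y * y = 1) :
    ∃ a b : Fin 6, a ≠ b ∧ flip a b * y = y * flip a b := by
  choose π c hπ using hm
  have hpair : ∀ {i j : Fin 6} {s t : F}, i ≠ j →
      ((y (e i) = s • e i ∧ y (e j) = t • e j) ∨ (y (e i) = s • e j ∧ y (e j) = t • e i)) →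
      flip i j * y = y * flip i j := fun {i j s t} hij hcase => by
    refine comm_of_conj ?_
    have hne : ∀ {z : F} {k l : Fin 6}, y (e k) = z • e l → z ≠ 0 := fun hz h0 => by
      simpa [h0] using mono_pair hy hz
    rw [conj_flip hy]
    rcases hcase with ⟨h1, h2⟩ | ⟨h1, h2⟩
    · rw [h1, h2, R_smul (hne h1), R_smul (hne h2), flip]
    · rw [h1, h2, R_smul (hne h1), R_smul (hne h2)]
      exact (flip_comm j i hij.symm)
  by_cases hex : ∃ i, π i ≠ i
  · obtain ⟨i, hi⟩ := hex
    exact ⟨i, π i, Ne.symm hi, hpair (Ne.symm hi) (Or.inr ⟨hπ i, mono_back hy hy2 (hπ i)⟩)⟩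
  · push Not at hex
    refine ⟨0, 1, by decide, hpair (s := c 0) (t := c 1) (by decide) (Or.inl ⟨?_, ?_⟩)⟩
    · conv_lhs => rw [hπ 0, hex 0]
    · conv_lhs => rw [hπ 1, hex 1]

namespace Six

variable {L : Subgroup ((Fin 6 → F) ≃ₗ[F] (Fin 6 → F))} (h : Six L) (hA : AxisRigid L) [Finite F]

include h hA

/-- A monomial conjugate of a flip is the flip of two axes. -/
theorem conj_eq_flip {g : GG} (hg : g ∈ L) {a b : Fin 6} (hab : a ≠ b)
    (hm : IsMono (g * flip a b * g⁻¹)) :
    IsMono g ∧ ∃ a' b', a' ≠ b' ∧ g * flip a b * g⁻¹ = flip a' b' := by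
  rw [conj_flip (h.iso g hg)] at hm
  have hgm := h.pair_mono hA hg hab hm
  exact ⟨hgm, mono_conj (h.iso g hg) hgm hab⟩

/-- The centraliser of a double transposition is monomial. -/
theorem double_mono {z : GG} (hzL : z ∈ L) {i j m m' : Fin 6} (hij : i ≠ j) (hmm : m ≠ m')
    {c d : F} (hi : z (e i) = c • e j) (hj : z (e j) = c • e i) (hm : z (e m) = d • e m)
    (hm' : z (e m') = d • e m') {y : GG} (hy : y ∈ L) (hzy : z * y = y * z) : IsMono y := by
  have : Finite GG := Finite.of_injective (fun g => (g : V → V)) DFunLike.coe_injective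
  have hzI := h.iso z hzL
  have hcc : c * c = 1 := mono_pair hzI hi
  have hdd : d * d = 1 := mono_pair hzI hm
  have hc0 : c ≠ 0 := left_ne_zero_of_mul_eq_one hcc
  have hd0 : d ≠ 0 := left_ne_zero_of_mul_eq_one hdd
  have z1 : z * flip i j = flip i j * z := (comm_of_conj (g := z) (x := flip i j) (by
    rw [conj_flip hzI, hi, hj, R_smul hc0, R_smul hc0]; exact flip_comm j i hij.symm)).symm
  have z2 : z * flip m m' = flip m m' * z := (comm_of_conj (g := z) (x := flip m m') (by
    rw [conj_flip hzI, hm, hm', R_smul hd0, R_smul hd0, flip])).symm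
  set K : Subgroup GG := L ⊓ Subgroup.centralizer {z} with hK
  have memK : ∀ {x : GG}, x ∈ L → z * x = x * z → x ∈ K := fun hx hc' =>
    ⟨hx, Subgroup.mem_centralizer_singleton_iff.mpr hc'.symm⟩
  have hyK : y ∈ K := memK hy hzy
  have hfK : y * flip m m' * y⁻¹ ∈ K :=
    K.mul_mem (K.mul_mem hyK (memK (h.flip_mem _ _) z2)) (K.inv_mem hyK)
  have hf2 : (y * flip m m' * y⁻¹) * (y * flip m m' * y⁻¹) = 1 := by
    calc _ = y * (flip m m' * flip m m') * y⁻¹ := by group
      _ = 1 := by rw [flip_sq _ _ hmm, mul_one, mul_inv_cancel]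
  rcases dihedral (memK (h.flip_mem i j) z1) hfK (flip_sq _ _ hij) hf2 with
    ⟨w, hw, hwf⟩ | ⟨z', hz', hne, -, hz'd, hz'f, w, hw, hwc⟩
  · exfalso
    set g : GG := y⁻¹ * w with hg
    have hgd : g * flip i j * g⁻¹ = flip m m' := by
      calc g * flip i j * g⁻¹ = y⁻¹ * (w * flip i j * w⁻¹) * y := by rw [hg]; group
        _ = flip m m' := by rw [hwf]; group
    have hgz : z * g = g * z :=
      (Subgroup.mem_centralizer_singleton_iff.mp (K.mul_mem (K.inv_mem hyK) hw).2).symm
    have hgI : Iso g := h.iso g (L.mul_mem (L.inv_mem hy) hw.1)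
    have hginv : z * g⁻¹ = g⁻¹ * z := by
      calc z * g⁻¹ = g⁻¹ * (g * z) * g⁻¹ := by group
        _ = g⁻¹ * (z * g) * g⁻¹ := by rw [hgz]
        _ = g⁻¹ * z := by group
    have hcol : ∀ k : Fin 6, z (e k) = d • e k → flip m m' (e k : V) = -e k →
        (∀ l, l ≠ i → l ≠ j → g⁻¹ (e k) l = 0) ∧ c * g⁻¹ (e k) i = d * g⁻¹ (e k) j := by
      intro k hzk hfk
      set u : V := g⁻¹ (e k) with hu
      have e1 : flip i j u = -u := by
        have e0 : flip i j = g⁻¹ * flip m m' * g := by rw [← hgd]; group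
        have e2 : g u = e k := LinearEquiv.apply_symm_apply g _
        rw [e0, LinearEquiv.mul_apply, LinearEquiv.mul_apply, e2, hfk, map_neg]
      have hs : ∀ l, l ≠ i → l ≠ j → u l = 0 := fun l li lj => by
        have := congrFun e1 l
        rw [flip_coord hij, if_neg (by simp [li, lj]), Pi.neg_apply] at this
        exact (mul_eq_zero.mp (by linear_combination this : (2 : F) * u l = 0)).resolve_left h.two
      have hzu : z u = d • u := by
        rw [hu, ← LinearEquiv.mul_apply, hginv, LinearEquiv.mul_apply, hzk, map_smul]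
      refine ⟨hs, ?_⟩
      have h3 := hzI u (e i)
      rw [hzu, hi, smul_dotProduct, dotProduct_smul, dot_e, dot_e, smul_eq_mul, smul_eq_mul] at h3
      linear_combination -c * h3 + d * u j * hcc
    obtain ⟨us, uc⟩ := hcol m hm (funext fun l => by
      rw [flip_coord hmm, Pi.neg_apply]
      by_cases hl : l = m
      · simp [hl]
      · simp [e_ne hl])
    obtain ⟨vs, vc⟩ := hcol m' hm' (funext fun l => by
      rw [flip_coord hmm, Pi.neg_apply]
      by_cases hl : l = m'
      · simp [hl]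
      · simp [e_ne hl])
    set u : V := g⁻¹ (e m) with hu
    set v : V := g⁻¹ (e m') with hv
    have huu : u ⬝ᵥ u = 1 := by rw [hu, hgI.inv, e_dot_self]
    have hvv : v ⬝ᵥ v = 1 := by rw [hv, hgI.inv, e_dot_self]
    have huv : u ⬝ᵥ v = 0 := by rw [hu, hv, hgI.inv, e_dot_ne hmm]
    rw [dot_two hij us] at huu huv
    rw [dot_two hij vs] at hvv
    have uj : u j = c * d * u i := by linear_combination -d * uc - u j * hdd
    have vj : v j = c * d * v i := by linear_combination -d * vc - v j * hdd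
    have hu2 : 2 * (u i * u i) = 1 := by
      rw [uj] at huu; linear_combination huu - (u i * u i) * (d * d * hcc + hdd)
    have hv2 : 2 * (v i * v i) = 1 := by
      rw [vj] at hvv; linear_combination hvv - (v i * v i) * (d * d * hcc + hdd)
    have huv2 : 2 * (u i * v i) = 0 := by
      rw [uj, vj] at huv; linear_combination huv - (u i * v i) * (d * d * hcc + hdd)
    exact one_ne_zero (α := F) (by
      linear_combination (-(2 * (v i * v i))) * hu2 - hv2 + (2 * (u i * v i)) * huv2)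
  · have hz'm : IsMono z' := h.comm_mono hA hz'.1 hij hz'd.symm
    have hp : IsMono (z' * flip i j) := mono_mul hz'm (mono_flip i j)
    obtain ⟨g, hg, a, b, hab, hgc⟩ :
        ∃ g ∈ L, ∃ a b : Fin 6, a ≠ b ∧ z' * flip i j = g * flip a b * g⁻¹ := by
      rcases hwc with e1 | e1
      · exact ⟨w, hw.1, i, j, hij, e1⟩
      · exact ⟨w * y, L.mul_mem hw.1 hy, m, m', hmm, by rw [e1]; group⟩
    rw [hgc] at hp
    obtain ⟨-, a', b', hab', hfl⟩ := h.conj_eq_flip hA hg hab hp
    have hz'e : z' = flip a' b' * flip i j := by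
      rw [← hfl, ← hgc, mul_assoc, flip_sq _ _ hij, mul_one]
    obtain ⟨p, q, hpq, hcomm⟩ := flip_mul_flip hab' hij (by rw [← hz'e]; exact hne)
    have hfm : IsMono (y * flip m m' * y⁻¹) :=
      h.comm_mono hA hfK.1 hpq (hcomm _ (by rw [← hz'e]; exact hz'f.symm))
    exact (h.conj_eq_flip hA hy hmm hfm).1

omit hA [Finite F] in
theorem S_mem : (P (Equiv.swap 0 1 * Equiv.swap 2 3) : GG) ∈ L := h.perm _ (by decide)

/-- Only monomial elements carry a double transposition to a monomial element. -/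
theorem key {g : GG} (hg : g ∈ L)
    (hm : IsMono (g * P (Equiv.swap 0 1 * Equiv.swap 2 3) * g⁻¹)) : IsMono g := by
  set σ : Equiv.Perm (Fin 6) := Equiv.swap 0 1 * Equiv.swap 2 3 with hσ
  have hyL : g * P σ * g⁻¹ ∈ L := h.conj_mem hg h.S_mem
  have hS2 : (P σ : GG) * P σ = 1 := ext_e fun k => by
    rw [LinearEquiv.mul_apply, P_e, P_e]
    have : ∀ k : Fin 6, σ (σ k) = k := by decide
    rw [this k]; rfl
  have hy2 : (g * P σ * g⁻¹) * (g * P σ * g⁻¹) = 1 := by
    calc _ = g * (P σ * P σ) * g⁻¹ := by group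
      _ = 1 := by rw [hS2, mul_one, mul_inv_cancel]
  obtain ⟨a, b, hab, hc⟩ := exists_flip_comm (h.iso _ hyL) hm hy2
  have hcc : (P σ : GG) * (g⁻¹ * flip a b * g) = g⁻¹ * flip a b * g * P σ := by
    have := comm_conj (y := g⁻¹) hc.symm
    rw [inv_inv] at this
    convert this using 1 <;> group
  have hd : IsMono (g⁻¹ * flip a b * g⁻¹⁻¹) := by
    rw [inv_inv]
    exact h.double_mono hA h.S_mem (i := 0) (j := 1) (m := 4) (m' := 5) (by decide) (by decide)
      (c := 1) (d := 1) (by rw [P_e, one_smul]; congr 1) (by rw [P_e, one_smul]; congr 1)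
      (by rw [P_e, one_smul]; congr 1) (by rw [P_e, one_smul]; congr 1)
      (L.mul_mem (L.mul_mem (L.inv_mem hg) (h.flip_mem a b)) hg) hcc
  have := mono_inv (h.iso g hg).inv (h.conj_eq_flip hA (L.inv_mem hg) hab hd).1
  rwa [inv_inv] at this

/-- **Every element is monomial.** -/
theorem all_mono {g : GG} (hg : g ∈ L) : IsMono g := by
  have : Finite GG := Finite.of_injective (fun g => (g : V → V)) DFunLike.coe_injective
  set σ : Equiv.Perm (Fin 6) := Equiv.swap 0 1 * Equiv.swap 2 3 with hσ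
  set x' : GG := g * P σ * g⁻¹ with hx'
  have hx'L : x' ∈ L := h.conj_mem hg h.S_mem
  suffices hm : IsMono x' from h.key hA hg hm
  have hS2 : (P σ : GG) * P σ = 1 := ext_e fun k => by
    rw [LinearEquiv.mul_apply, P_e, P_e]
    have : ∀ k : Fin 6, σ (σ k) = k := by decide
    rw [this k]; rfl
  have hx2 : x' * x' = 1 := by
    calc x' * x' = g * (P σ * P σ) * g⁻¹ := by rw [hx']; group
      _ = 1 := by rw [hS2, mul_one, mul_inv_cancel]
  have h01 : (0 : Fin 6) ≠ 1 := by decide
  rcases dihedral (h.flip_mem 0 1) hx'L (flip_sq 0 1 h01) hx2 with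
    ⟨w, hw, hwx⟩ | ⟨z, hz, hne, -, hzd, hzf, w, hw, hwc⟩
  · exfalso
    have e1 : (g⁻¹ * w) * flip 0 1 * (g⁻¹ * w)⁻¹ = P σ := by
      calc (g⁻¹ * w) * flip 0 1 * (g⁻¹ * w)⁻¹ = g⁻¹ * (w * flip 0 1 * w⁻¹) * g := by group
        _ = P σ := by rw [hwx, hx']; group
    obtain ⟨-, a', b', hab', hfl⟩ := h.conj_eq_flip hA (L.mul_mem (L.inv_mem hg) hw) h01
      (by rw [e1]; exact mono_P σ)
    rw [e1] at hfl
    have := congrFun (congrArg (fun t : GG => t (e 0)) hfl) 1
    rw [P_e, show σ 0 = 1 by decide, e_same, flip_coord hab', e_ne (by decide)] at this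
    simp at this
  have hzm : IsMono z := h.comm_mono hA hz h01 hzd.symm
  have hp : IsMono (z * flip 0 1) := mono_mul hzm (mono_flip 0 1)
  rcases hwc with e1 | e1
  · rw [e1] at hp
    obtain ⟨-, a', b', hab', hfl⟩ := h.conj_eq_flip hA hw h01 hp
    have hze : z = flip a' b' * flip 0 1 := by
      rw [← hfl, ← e1, mul_assoc, flip_sq _ _ h01, mul_one]
    obtain ⟨p, q, hpq, hcomm⟩ := flip_mul_flip hab' h01 (by rw [← hze]; exact hne)
    exact h.comm_mono hA hx'L hpq (hcomm _ (by rw [← hze]; exact hzf.symm))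
  have hwg : w * x' * w⁻¹ = (w * g) * P σ * (w * g)⁻¹ := by rw [hx']; group
  rw [e1, hwg] at hp
  set y : GG := w * g with hy
  have hyL : y ∈ L := L.mul_mem hw hg
  have hyI := h.iso y hyL
  have hym : IsMono y := h.key hA hyL hp
  choose π r hπ using hym
  have hr : ∀ k, r k * r k = 1 := fun k => mono_pair hyI (hπ k)
  have ht : ∀ k, (z * flip 0 1 : GG) (e (π k)) = (r k * r (σ k)) • e (π (σ k)) := fun k => by
    rw [e1, hwg]
    have e2 : y⁻¹ (e (π k)) = r k • e k := by
      apply y.injective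
      rw [show y (y⁻¹ (e (π k))) = e (π k) from LinearEquiv.apply_symm_apply y _, map_smul, hπ,
        smul_smul, hr, one_smul]
    rw [LinearEquiv.mul_apply, LinearEquiv.mul_apply, e2, map_smul, map_smul, P_e, hπ, smul_smul]
  have hinj : Function.Injective π := fun a b e => mono_inj hyI (hπ a) (e ▸ hπ b)
  obtain ⟨a, ha⟩ := Finite.injective_iff_surjective.mp hinj 0
  obtain ⟨b, hb⟩ := Finite.injective_iff_surjective.mp hinj 1
  have htI : Iso (z * flip 0 1) := (h.iso z hz).mul (flip_iso 0 1)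
  have htc : flip 0 1 * (z * flip 0 1) = z * flip 0 1 * flip 0 1 := by
    rw [← mul_assoc, hzd]
  have hside : ∀ k, (π k = 0 ∨ π k = 1) ↔ (k = a ∨ k = b) := fun k =>
    or_congr ⟨fun e => hinj (e.trans ha.symm), fun e => e ▸ ha⟩
      ⟨fun e => hinj (e.trans hb.symm), fun e => e ▸ hb⟩
  have hinv : ∀ k, (k = a ∨ k = b) ↔ (σ k = a ∨ σ k = b) := fun k =>
    (hside k).symm.trans ((supp_of_comm h.two htI h01 htc (ht k)).trans (hside (σ k)))
  have hdec : ∀ a b : Fin 6, (∀ k, (k = a ∨ k = b) ↔ (σ k = a ∨ σ k = b)) → a ≠ b →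
      (((0 : Fin 6) = a ∨ 0 = b) ↔ ((1 : Fin 6) = a ∨ 1 = b)) ∧
      (((4 : Fin 6) = a ∨ 4 = b) ↔ ((5 : Fin 6) = a ∨ 5 = b)) := by decide
  obtain ⟨d01, d45⟩ := hdec a b hinv (fun e => by
    rw [e, hb] at ha; exact absurd ha (by decide))
  have hz : ∀ k, ∀ l, σ k = l → z (e (π k)) =
      ((if k = a ∨ k = b then -1 else 1) * (r k * r l)) • e (π l) := fun k l hl => by
    subst hl
    have e3 : flip 0 1 (e (π k) : V) = (if k = a ∨ k = b then (-1 : F) else 1) • e (π k) :=
      funext fun i => by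
        rw [flip_coord h01, Pi.smul_apply, smul_eq_mul]
        by_cases hi : i = π k
        · subst hi
          by_cases hk : k = a ∨ k = b
          · rw [if_pos ((hside k).mpr hk), if_pos hk, neg_one_mul]
          · rw [if_neg (fun h' => hk ((hside k).mp h')), if_neg hk, one_mul]
        · rw [e_ne hi, mul_zero]; split_ifs <;> simp
    have e4 : z (e (π k)) = (z * flip 0 1 : GG) (flip 0 1 (e (π k))) := by
      rw [← LinearEquiv.mul_apply, mul_assoc, flip_sq _ _ h01, mul_one]
    rw [e4, e3, map_smul, ht, smul_smul]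
  have hsame : ∀ {k l : Fin 6}, ((k = a ∨ k = b) ↔ (l = a ∨ l = b)) →
      (if k = a ∨ k = b then (-1 : F) else 1) = if l = a ∨ l = b then -1 else 1 := fun hkl => by
    simp only [hkl]
  have hzx : z * x' = x' * z := hzf
  refine h.double_mono hA (z := z) ‹z ∈ L› (i := π 0) (j := π 1) (m := π 4) (m' := π 5)
    (fun e => absurd (hinj e) (by decide)) (fun e => absurd (hinj e) (by decide))
    (hz 0 1 (by decide)) ?_ (hz 4 4 (by decide)) ?_ hx'L hzx
  · rw [hz 1 0 (by decide), hsame d01, mul_comm (r 1)]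
  · rw [hz 5 5 (by decide), hsame d45, hr, hr]

end Six

end Cfsg.Agent.FrameSix
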